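import Groth.Agent.SSExist.Hyper
import Mathlib.CategoryTheory.Abelian.Injective.Ext
import Mathlib.CategoryTheory.Preadditive.Yoneda.Basic

/-!
# `Ext` as a right derived functor
-/

set_option autoImplicit false
set_option linter.style.haveILetI false

open CategoryTheory CategoryTheory.Limits Opposite CochainComplex CochainComplex.HomComplex

namespace Groth.Agent.SSExist

universe v u

variable {C : Type u} [Category.{v} C] [Abelian C]

/-- The complex of homomorphisms out of an object placed in degree zero. -/
noncomputable def homComplexSingleIso (X : C) (L : CochainComplex C ℤ) :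
    HomComplex ((singleFunctor C 0).obj X) L ≅
      ((preadditiveCoyoneda.obj (op X)).mapHomologicalComplex (ComplexShape.up ℤ)).obj L :=
  HomologicalComplex.Hom.isoOfComponents
    (fun i => AddEquiv.toAddCommGrpIso
      (X := AddCommGrpCat.of (Cochain ((singleFunctor C 0).obj X) L i))
      (Y := (preadditiveCoyoneda.obj (op X)).obj (L.X i)) (Cochain.fromSingleEquiv (zero_add i)))
    (fun i j _ => by
      ext α
      obtain ⟨f, rfl⟩ := (Cochain.fromSingleEquiv (K := L) (X := X) (zero_add i)).symm.surjective α
      show Cochain.fromSingleEquiv (zero_add i) (Cochain.fromSingleMk f (zero_add i)) ≫ L.d i j =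
        Cochain.fromSingleEquiv (zero_add j) (δ i j (Cochain.fromSingleMk f (zero_add i)))
      rw [Cochain.δ_fromSingleMk f (zero_add i) j j (zero_add j),
        Cochain.fromSingleEquiv_fromSingleMk, Cochain.fromSingleEquiv_fromSingleMk])

/-- `Ext` computed as the right derived functor of `Hom(X, -)`. -/
lemma nonempty_ext_iso_rightDerived [HasExt.{v} C] [HasInjectiveResolutions C]
    (G : C ⥤ AddCommGrpCat.{v}) [G.Additive] (X : C) (e : G ≅ preadditiveCoyoneda.obj (op X)) (A : C) (n : ℕ) :
    Nonempty (AddCommGrpCat.of (Abelian.Ext.{v} X A n) ≅ (G.rightDerived n).obj A) := by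
  let R := injectiveResolution A
  obtain ⟨e₁⟩ := nonempty_homology_map_cochainComplex_iso G R n
  let e₂ : AddCommGrpCat.of (Abelian.Ext.{v} X A n) ≅
      (HomComplex ((singleFunctor C 0).obj X) R.cochainComplex).homology (n : ℤ) :=
    (R.extAddEquivCohomologyClass.trans
      (homologyAddEquiv ((singleFunctor C 0).obj X) R.cochainComplex n).symm).toAddCommGrpIso
  exact ⟨e₂ ≪≫ (HomologicalComplex.homologyFunctor _ _ (n : ℤ)).mapIso (homComplexSingleIso X R.cochainComplex ≪≫
      (NatIso.mapHomologicalComplex e.symm (ComplexShape.up ℤ)).app R.cochainComplex) ≪≫ e₁⟩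

end Groth.Agent.SSExist
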