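import Groth.Agent.SSExist.Grothendieck
import Mathlib.CategoryTheory.Abelian.Exact

/-!
# Derived functors of a composite with an exact functor
-/

set_option autoImplicit false
set_option linter.style.haveILetI false

open CategoryTheory CategoryTheory.Limits

namespace Groth.Agent.SSExist

universe v v' v'' u u' u''

open TriH

variable {C : Type u} [Category.{v} C] [Abelian C] {C' : Type u'} [Category.{v'} C'] [Abelian C']
  {C'' : Type u''} [Category.{v''} C''] [Abelian C'']

/-- If `T` is exact and carries injectives to `S`-acyclic objects, then `R^n(T ⋙ S) = R^nS ∘ T`. -/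
theorem nonempty_rightDerived_comp_iso [HasInjectiveResolutions C] [HasInjectiveResolutions C']
    (T : C ⥤ C') [T.Additive] [PreservesFiniteLimits T] [PreservesFiniteColimits T]
    (S : C' ⥤ C'') [S.Additive] [PreservesFiniteLimits S]
    (hT : ∀ Q : C, Injective Q → ∀ q : ℕ, 0 < q → IsZero ((S.rightDerived q).obj (T.obj Q))) (A : C) (n : ℕ) :
    Nonempty (((T ⋙ S).rightDerived n).obj A ≅ (S.rightDerived n).obj (T.obj A)) := by
  haveI := FinDim.enoughInjectives_of_hasInjectiveResolutions (A := C')
  letI := HasDerivedCategory.standard C'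
  letI := HasDerivedCategory.standard C''
  let R := injectiveResolution A
  let K : CochainComplex C' ℤ := (T.mapHomologicalComplex (ComplexShape.up ℤ)).obj R.cochainComplex
  haveI : K.IsStrictlyGE 0 := inferInstanceAs
    (CochainComplex.IsStrictlyGE ((T.mapHomologicalComplex (ComplexShape.up ℤ)).obj R.cochainComplex) 0)
  let K' : CochainComplex.Plus C' := ⟨K, ⟨0, inferInstance⟩⟩
  let φ : (CochainComplex.singleFunctor C' 0).obj (T.obj A) ⟶ K :=
    ((HomologicalComplex.singleMapHomologicalComplex T (ComplexShape.up ℤ) 0).app A).inv ≫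
      (T.mapHomologicalComplex (ComplexShape.up ℤ)).map R.ι'
  haveI : QuasiIso R.ι' := inferInstance
  haveI hqi : QuasiIso ((T.mapHomologicalComplex (ComplexShape.up ℤ)).map R.ι') := inferInstance
  haveI : QuasiIso φ := by
    show QuasiIso ((((HomologicalComplex.singleMapHomologicalComplex T (ComplexShape.up ℤ) 0).app A).inv :
      (HomologicalComplex.single C' (ComplexShape.up ℤ) 0).obj (T.obj A) ⟶
        (T.mapHomologicalComplex (ComplexShape.up ℤ)).obj ((HomologicalComplex.single C (ComplexShape.up ℤ) 0).obj A)) ≫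
      (T.mapHomologicalComplex (ComplexShape.up ℤ)).map R.ι')
    haveI : IsIso (((HomologicalComplex.singleMapHomologicalComplex T (ComplexShape.up ℤ) 0).app A).inv) := Iso.isIso_inv _
    exact (quasiIso_iff_comp_left _ _).2 hqi
  let e : (DerivedCategory.Plus.singleFunctor C' 0).obj (T.obj A) ≅ DerivedCategory.Plus.Q.obj K' :=
    DerivedCategory.Plus.ι.preimageIso
      ((DerivedCategory.singleFunctorIsoCompQ C' 0).app (T.obj A) ≪≫ asIso (DerivedCategory.Q.map φ) ≪≫
        ((DerivedCategory.quotientCompQhIso C').app _).symm)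
  obtain ⟨e'⟩ := nonempty_RS_iso S K' (fun m q hq => hT (R.cochainComplex.X m) inferInstance q hq)
  obtain ⟨e''⟩ := nonempty_homology_RS_single S (T.obj A) n
  obtain ⟨e₃⟩ := nonempty_homology_map_cochainComplex_iso (T ⋙ S) R n
  exact ⟨e₃.symm ≪≫ ((DerivedCategory.homologyFunctorFactors C'' (n : ℤ)).app _).symm ≪≫
    (DerivedCategory.homologyFunctor C'' (n : ℤ)).mapIso ((RS S).mapIso e ≪≫ e').symm ≪≫ e''⟩

end Groth.Agent.SSExist
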