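import Groth.Agent.SSExist.Grothendieck
import Mathlib.CategoryTheory.Preadditive.Injective.Preserves

/-!
# Flexible form of the Grothendieck spectral sequence
-/

set_option autoImplicit false
set_option linter.style.haveILetI false

open CategoryTheory CategoryTheory.Limits

namespace Groth.Agent.SSExist

universe v v' v'' u u' u''

open TriH

variable {C : Type u} [Category.{v} C] [Abelian C] {C' : Type u'} [Category.{v'} C'] [Abelian C']
  {C'' : Type u''} [Category.{v''} C''] [Abelian C'']

/-- The Grothendieck spectral sequence, with prescribed terms up to isomorphism. -/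
theorem exists_grothendieck' [HasInjectiveResolutions C] [HasInjectiveResolutions C']
    (T : C ⥤ C') [T.Additive] (S : C' ⥤ C'') [S.Additive] [PreservesFiniteLimits S]
    (hT : ∀ Q : C, Injective Q → ∀ q : ℕ, 0 < q → IsZero ((S.rightDerived q).obj (T.obj Q))) (A : C)
    (Z : C'') (hZ : IsZero Z) (H : ℕ → C'') (hH : ∀ n, Nonempty (H n ≅ ((T ⋙ S).rightDerived n).obj A))
    (P : ℕ → ℕ → C'') (hP : ∀ p q, Nonempty (P p q ≅ (S.rightDerived p).obj ((T.rightDerived q).obj A))) :
    ∃ (E : E₂CohomologicalSpectralSequence C'')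
      (a : SpSeq.Abutment E (fun n : ℤ => if 0 ≤ n then H n.toNat else Z)),
      (∀ n, a.IsFinite n) ∧ SpSeq.IsBounded E ∧
      ∀ p q : ℤ, Nonempty ((E.page 2 le_rfl).X (p, q) ≅
        (if 0 ≤ p ∧ 0 ≤ q then P p.toNat q.toNat else Z)) := by
  haveI := FinDim.enoughInjectives_of_hasInjectiveResolutions (A := C')
  letI := HasDerivedCategory.standard C'
  letI := HasDerivedCategory.standard C''
  let R := injectiveResolution A
  let K : CochainComplex C' ℤ := (T.mapHomologicalComplex (ComplexShape.up ℤ)).obj R.cochainComplex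
  haveI : K.IsStrictlyGE 0 := inferInstanceAs
    (CochainComplex.IsStrictlyGE ((T.mapHomologicalComplex (ComplexShape.up ℤ)).obj R.cochainComplex) 0)
  have hK : ∀ m, IsAcyclicObj S (K.X m) := fun m q hq => hT (R.cochainComplex.X m) inferInstance q hq
  let L : CochainComplex C'' ℤ := (S.mapHomologicalComplex (ComplexShape.up ℤ)).obj K
  haveI : L.IsStrictlyGE 0 := inferInstanceAs
    (CochainComplex.IsStrictlyGE ((S.mapHomologicalComplex (ComplexShape.up ℤ)).obj K) 0)
  have he : ∀ n : ℤ, Nonempty ((if 0 ≤ n then H n.toNat else Z) ≅ L.homology n) := by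
    intro n
    by_cases hn : 0 ≤ n
    · rw [if_pos hn]
      lift n to ℕ using hn
      exact ⟨(hH n).some ≪≫ (nonempty_homology_map_cochainComplex_iso (T ⋙ S) R n).some.symm⟩
    · rw [if_neg hn]
      exact ⟨hZ.iso ((HomologicalComplex.exactAt_iff_isZero_homology _ _).1 (L.exactAt_of_isGE 0 n (by omega)))⟩
  obtain ⟨E, a, ha, hb, hpos, hneg⟩ := exists_hyper S K hK
    (fun n : ℤ => if 0 ≤ n then H n.toNat else Z) (fun n => (he n).some)
  refine ⟨E, a, ha, hb, fun p q => ?_⟩
  by_cases h : 0 ≤ p ∧ 0 ≤ q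
  · rw [if_pos h]
    obtain ⟨hp, hq⟩ := h
    lift p to ℕ using hp
    lift q to ℕ using hq
    obtain ⟨e₁⟩ := hpos p q
    obtain ⟨e₂⟩ := nonempty_homology_map_cochainComplex_iso T R q
    obtain ⟨e₃⟩ := hP p q
    exact ⟨e₁ ≪≫ (S.rightDerived p).mapIso e₂ ≪≫ e₃.symm⟩
  · rw [if_neg h]
    exact ⟨(hneg p q (by omega)).iso hZ⟩

/-- The special case of a composite of functors where the first preserves injective objects. -/
theorem exists_grothendieck_preservesInjective [HasInjectiveResolutions C] [HasInjectiveResolutions C']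
    (T : C ⥤ C') [T.Additive] [T.PreservesInjectiveObjects] (S : C' ⥤ C'') [S.Additive] [PreservesFiniteLimits S]
    (A : C)
    (Z : C'') (hZ : IsZero Z) (H : ℕ → C'') (hH : ∀ n, Nonempty (H n ≅ ((T ⋙ S).rightDerived n).obj A))
    (P : ℕ → ℕ → C'') (hP : ∀ p q, Nonempty (P p q ≅ (S.rightDerived p).obj ((T.rightDerived q).obj A))) :
    ∃ (E : E₂CohomologicalSpectralSequence C'')
      (a : SpSeq.Abutment E (fun n : ℤ => if 0 ≤ n then H n.toNat else Z)),
      (∀ n, a.IsFinite n) ∧ SpSeq.IsBounded E ∧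
      ∀ p q : ℤ, Nonempty ((E.page 2 le_rfl).X (p, q) ≅
        (if 0 ≤ p ∧ 0 ≤ q then P p.toNat q.toNat else Z)) :=
  exists_grothendieck' T S (fun Q hQ q hq => by
    haveI := FinDim.enoughInjectives_of_hasInjectiveResolutions (A := C')
    haveI : Injective (T.obj Q) := T.injective_obj_of_injective hQ
    exact isAcyclicObj_of_injective S _ q hq) A Z hZ H hH P hP

end Groth.Agent.SSExist
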