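import Groth.Agent.SSExist.ModAcyclic
import Groth.Agent.SSExist.ExtDerived
import Groth.Agent.SSExist.Leray
import Groth.Agent.SSExist.Wrap
import Groth.Agent.ModGroth.Functors
import Groth.Agent.ModGroth.FlatTrunc
import Mathlib.CategoryTheory.Preadditive.Yoneda.Limits
import Mathlib.CategoryTheory.Adjunction.Additive

/-!
# Cohomology of modules on a ringed site as derived functors on modules
-/

set_option autoImplicit false
set_option linter.style.haveILetI false

open CategoryTheory CategoryTheory.Limits Opposite CategoryTheory.Abelian MonoidalCategory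

namespace Groth.Agent.SSExist

universe u

open Groth.Agent.ModGroth

variable {C : Type u} [SmallCategory C] {J : GrothendieckTopology C} (O : Sheaf J CommRingCat.{u})

/-- The underlying abelian sheaf, as a functor. -/
noncomputable abbrev toAbF : ModSite.Mod O ⥤ Sheaf J AddCommGrpCat.{u} := SheafOfModules.toSheaf (ModSite.ringSh O)

instance toAbF_preservesFiniteLimits : PreservesFiniteLimits (toAbF O) :=
  have := toSheaf_preservesLimits (ModSite.ringSh O)
  PreservesLimitsOfSize.preservesFiniteLimits _

instance toAbF_preservesFiniteColimits : PreservesFiniteColimits (toAbF O) :=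
  have := toSheaf_preservesColimits (ModSite.ringSh O)
  PreservesColimitsOfSize.preservesFiniteColimits _

/-- `Hom(A, -)` on abelian sheaves. -/
noncomputable abbrev coyA (A : Sheaf J AddCommGrpCat.{u}) : Sheaf J AddCommGrpCat.{u} ⥤ AddCommGrpCat.{u} :=
  preadditiveCoyoneda.obj (op A)

variable {O}

lemma isZero_rightDerived_coyA_toAb {A : Sheaf J AddCommGrpCat.{u}} (hA : TFPre A.obj) {H : ModSite.Mod O}
    (hH : FlatInj H) (q : ℕ) (hq : 0 < q) : IsZero (((coyA A).rightDerived q).obj (ModSite.toAb H)) := by
  obtain ⟨k, rfl⟩ := Nat.exists_eq_succ_of_ne_zero hq.ne'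
  haveI := subsingleton_ext_toAb.{u} hH hA k
  exact (AddCommGrpCat.isZero_of_subsingleton _).of_iso
    (nonempty_ext_iso_rightDerived (coyA A) A (Iso.refl _) (ModSite.toAb H) (k + 1)).some.symm

/-- Ext into the underlying abelian sheaf as a derived functor on modules. -/
lemma nonempty_ext_toAb_iso [HasInjectiveResolutions (ModSite.Mod O)] {A : Sheaf J AddCommGrpCat.{u}}
    (hA : TFPre A.obj) (M : ModSite.Mod O) (n : ℕ) :
    Nonempty (AddCommGrpCat.of (Ext.{u} A (ModSite.toAb M) n) ≅ ((toAbF O ⋙ coyA A).rightDerived n).obj M) := by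
  obtain ⟨e₁⟩ := nonempty_ext_iso_rightDerived (coyA A) A (Iso.refl _) (ModSite.toAb M) n
  obtain ⟨e₂⟩ := nonempty_rightDerived_comp_iso (toAbF O) (coyA A)
    (fun Q hQ q hq => haveI := hQ; isZero_rightDerived_coyA_toAb hA (flatInj_of_injective Q) q hq) M n
  exact ⟨e₁ ≪≫ e₂.symm⟩

variable (J) in
/-- The constant sheaf `ℤ`. -/
noncomputable abbrev constZ : Sheaf J AddCommGrpCat.{u} :=
  (constantSheaf J AddCommGrpCat.{u}).obj (AddCommGrpCat.of (ULift.{u} ℤ))

variable (O) in
/-- Global sections on modules. -/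
noncomputable abbrev gammaMod : ModSite.Mod O ⥤ AddCommGrpCat.{u} := toAbF O ⋙ coyA (constZ J)

/-- `H^p(C, M)` as a derived functor on modules. -/
lemma nonempty_HC_iso [HasInjectiveResolutions (ModSite.Mod O)] (M : ModSite.Mod O) (n : ℕ) :
    Nonempty (AddCommGrpCat.of (ModSite.HC O M n) ≅ ((gammaMod O).rightDerived n).obj M) :=
  nonempty_ext_toAb_iso tfPre_const M n

variable (O)

/-- The canonical map `ℤ → O`. -/
noncomputable def constToUnit : constZ J ⟶ ModSite.toAb (ModSite.unit O) :=
  ((sheafificationAdjunction J AddCommGrpCat.{u}).homEquiv _ (ModSite.toAb (ModSite.unit O))).symm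
    { app := fun X => AddCommGrpCat.ofHom (AddMonoidHom.mk'
        (fun n : ULift.{u} ℤ => ((n.down : O.obj.obj X) : (ModSite.unit O).val.obj X))
        (fun a b => Int.cast_add (R := O.obj.obj X) a.down b.down))
      naturality := fun X Y f => by
        ext n
        exact (map_intCast (O.obj.map f).hom n.down).symm }

/-- Global sections attached to morphisms out of `O`. -/
noncomputable def unitToConst (F : ModSite.Mod O) :
    (ModSite.unit O ⟶ F) →+ (constZ J ⟶ ModSite.toAb F) :=
  AddMonoidHom.mk' (fun φ => constToUnit O ≫ (toAbF O).map φ)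
    (fun a b => by rw [Functor.map_add, Preadditive.comp_add])

lemma unitToConst_app (F : ModSite.Mod O) (φ : ModSite.unit O ⟶ F) (X : Cᵒᵖ) :
    ((sheafificationAdjunction J AddCommGrpCat.{u}).homEquiv _ (ModSite.toAb F) (unitToConst O F φ)).app X
      (ULift.up.{u} (1 : ℤ)) = φ.val.app X (1 : O.obj.obj X) := by
  show ((sheafificationAdjunction J AddCommGrpCat.{u}).homEquiv _ (ModSite.toAb F) (constToUnit O ≫ (toAbF O).map φ)).app X
      (ULift.up.{u} (1 : ℤ)) = _
  rw [Adjunction.homEquiv_naturality_right, constToUnit, Equiv.apply_symm_apply]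
  exact congrArg (φ.val.app X) (Int.cast_one (R := O.obj.obj X))

lemma unitToConst_bijective (F : ModSite.Mod O) : Function.Bijective (unitToConst O F) := by
  constructor
  · intro φ φ' h
    apply (SheafOfModules.unitHomEquiv F).injective
    apply PresheafOfModules.sections_ext
    intro X
    rw [SheafOfModules.unitHomEquiv_apply_coe, SheafOfModules.unitHomEquiv_apply_coe]
    refine Eq.trans ?_ ((congrArg (fun ψ => ((sheafificationAdjunction J AddCommGrpCat.{u}).homEquiv _ (ModSite.toAb F) ψ).app X
      (ULift.up.{u} (1 : ℤ))) h).trans (unitToConst_app O F φ' X))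
    exact (unitToConst_app O F φ X).symm
  · intro ψ
    let t := (sheafificationAdjunction J AddCommGrpCat.{u}).homEquiv _ (ModSite.toAb F) ψ
    let s : F.val.sections := PresheafOfModules.sectionsMk (fun X => t.app X (ULift.up.{u} (1 : ℤ)))
      (fun X Y f => (ConcreteCategory.congr_hom (t.naturality f) (ULift.up.{u} (1 : ℤ))).symm)
    refine ⟨(SheafOfModules.unitHomEquiv F).symm s, ?_⟩
    apply ((sheafificationAdjunction J AddCommGrpCat.{u}).homEquiv _ (ModSite.toAb F)).injective
    ext X n
    have h₁ : ((sheafificationAdjunction J AddCommGrpCat.{u}).homEquiv _ (ModSite.toAb F)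
        (unitToConst O F ((SheafOfModules.unitHomEquiv F).symm s))).app X (ULift.up.{u} (1 : ℤ)) =
        t.app X (ULift.up.{u} (1 : ℤ)) := by
      rw [unitToConst_app]
      have := SheafOfModules.unitHomEquiv_apply_coe F ((SheafOfModules.unitHomEquiv F).symm s) X
      rw [Equiv.apply_symm_apply] at this
      exact this.symm
    obtain ⟨n⟩ := n
    have hn : (ULift.up.{u} n) = n • ULift.up.{u} (1 : ℤ) := ULift.ext _ _ (zsmul_one n).symm
    rw [hn]
    exact ((map_zsmul _ n _).trans (congrArg (n • ·) h₁)).trans (map_zsmul _ n _).symm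

/-- `Hom_O(O, -)` is global sections. -/
noncomputable def unitConstIso : preadditiveCoyoneda.obj (op (ModSite.unit O)) ≅ gammaMod O :=
  NatIso.ofComponents (fun F => AddEquiv.toAddCommGrpIso
    (X := (preadditiveCoyoneda.obj (op (ModSite.unit O))).obj F) (Y := (gammaMod O).obj F)
    (AddEquiv.ofBijective (unitToConst O F) (unitToConst_bijective O F)))
    (fun {F G} g => by
      ext φ
      show constToUnit O ≫ (toAbF O).map (φ ≫ g) = (constToUnit O ≫ (toAbF O).map φ) ≫ (toAbF O).map g
      rw [Functor.map_comp, Category.assoc])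

/-- `O ⊗ M ≅ M`. -/
noncomputable def unitTensorIso (M : ModSite.Mod O) : (tR M).obj (ModSite.unit O) ≅ M :=
  haveI : IsIso (adjn O).counit :=
    inferInstanceAs (IsIso (PresheafOfModules.sheafificationAdjunction (𝟙 (ModSite.ringSh O).obj)).counit)
  let e : unitObj O ≅ ModSite.unit O := (asIso (adjn O).counit).app (ModSite.unit O)
  (tR M).mapIso e.symm ≪≫ (tensorSymm (unitObj O)).app M ≪≫ unitTR.app M

/-- Morphisms as global morphisms into the internal hom. -/
noncomputable def toGlobalHom (M : ModSite.Mod O) [ModSite.HasSheafHom M] (N : ModSite.Mod O) :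
    (M ⟶ N) →+ (ModSite.unit O ⟶ (ModSite.sheafHom M).obj N) :=
  haveI := tR_additive M
  AddMonoidHom.mk' (fun φ => (ModSite.sheafHomAdj M).homEquiv _ _ ((unitTensorIso O M).hom ≫ φ))
    (fun a b => by rw [Preadditive.comp_add, Adjunction.homAddEquiv_add])

lemma toGlobalHom_bijective (M : ModSite.Mod O) [ModSite.HasSheafHom M] (N : ModSite.Mod O) :
    Function.Bijective (toGlobalHom O M N) :=
  ((ModSite.sheafHomAdj M).homEquiv (ModSite.unit O) N).bijective.comp
    (((unitTensorIso O M).homCongr (Iso.refl N)).symm.bijective.comp (Equiv.refl _).bijective) |> fun h => by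
      convert h using 1
      funext φ
      simp [toGlobalHom, Iso.homCongr]

/-- Global sections of the internal hom are morphisms. -/
noncomputable def sheafHomGammaIso (M : ModSite.Mod O) [ModSite.HasSheafHom M] :
    ModSite.sheafHom M ⋙ gammaMod O ≅ preadditiveCoyoneda.obj (op M) :=
  Functor.isoWhiskerLeft (ModSite.sheafHom M) (unitConstIso O).symm ≪≫
    (NatIso.ofComponents (fun N => AddEquiv.toAddCommGrpIso
      (X := (preadditiveCoyoneda.obj (op M)).obj N)
      (Y := (ModSite.sheafHom M ⋙ preadditiveCoyoneda.obj (op (ModSite.unit O))).obj N)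
      (AddEquiv.ofBijective (toGlobalHom O M N) (toGlobalHom_bijective O M N)))
      (fun {N N'} g => by
        ext φ
        show (ModSite.sheafHomAdj M).homEquiv _ _ ((unitTensorIso O M).hom ≫ φ ≫ g) =
          (ModSite.sheafHomAdj M).homEquiv _ _ ((unitTensorIso O M).hom ≫ φ) ≫ (ModSite.sheafHom M).map g
        rw [← Adjunction.homEquiv_naturality_right, Category.assoc])).symm

end Groth.Agent.SSExist

namespace Groth.Agent.SSExist

universe u

open Groth.Agent.ModGroth

variable {C : Type u} [SmallCategory C] {J : GrothendieckTopology C} {O : Sheaf J CommRingCat.{u}}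

lemma isZero_rightDerived_gammaMod [HasInjectiveResolutions (ModSite.Mod O)] {H : ModSite.Mod O} (hH : FlatInj H)
    (q : ℕ) (hq : 0 < q) : IsZero (((gammaMod O).rightDerived q).obj H) := by
  obtain ⟨k, rfl⟩ := Nat.exists_eq_succ_of_ne_zero hq.ne'
  haveI : Subsingleton (ModSite.HC O H (k + 1)) := subsingleton_ext_toAb.{u} hH tfPre_const k
  exact (AddCommGrpCat.isZero_of_subsingleton _).of_iso (nonempty_HC_iso H (k + 1)).some.symm

/-- The local to global spectral sequence for Ext. -/
theorem exists_extLocalToGlobal (M N : ModSite.Mod O) [ModSite.HasSheafHom M]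
    [HasInjectiveResolutions (ModSite.Mod O)] [HasExt.{u} (ModSite.Mod O)]
    (Z : AddCommGrpCat.{u}) (hZ : IsZero Z) :
    ∃ (E : E₂CohomologicalSpectralSequence AddCommGrpCat.{u})
      (a : SpSeq.Abutment E (fun n : ℤ =>
        if 0 ≤ n then AddCommGrpCat.of (Abelian.Ext.{u} M N n.toNat) else Z)),
      (∀ n : ℤ, a.IsFinite n) ∧ SpSeq.IsBounded E ∧
      ∀ p q : ℤ, Nonempty ((E.page 2 le_rfl).X (p, q) ≅
        (if 0 ≤ p ∧ 0 ≤ q then AddCommGrpCat.of (ModSite.HC O ((ModSite.extSh M q.toNat).obj N) p.toNat)
          else Z)) :=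
  exists_grothendieck' (ModSite.sheafHom M) (gammaMod O)
    (fun Q hQ q hq => haveI := hQ; isZero_rightDerived_gammaMod (flatInj_sheafHom M Q) q hq) N Z hZ
    (fun n => AddCommGrpCat.of (Abelian.Ext.{u} M N n))
    (fun n => nonempty_ext_iso_rightDerived _ M (sheafHomGammaIso O M) N n)
    (fun p q => AddCommGrpCat.of (ModSite.HC O ((ModSite.extSh M q).obj N) p))
    (fun p q => nonempty_HC_iso _ p)

end Groth.Agent.SSExist
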