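import Groth.Agent.ModGroth.SheafHomExact
import Groth.Agent.SSExist.ModGlobal
import Groth.Agent.KerDerived.ExtComp
import Groth.Prelude.Def_DCoh4
import Groth.Prelude.Def_ModSite2
import Groth.Prelude.Def_Coh

/-!
# `Ext` out of a finite locally free module is the cohomology of the internal hom
-/

universe u

open CategoryTheory CategoryTheory.Limits AlgebraicGeometry Opposite

namespace Groth.Agent.SSExist

open Groth.Agent.ModGroth

section Site

variable {C : Type u} [SmallCategory C] {J : GrothendieckTopology C} {O : Sheaf J CommRingCat.{u}}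

/-- `Ext^0` is `Hom`. -/
noncomputable def extZeroCoy {A : Type*} [Category.{u} A] [Abelian A] [HasExt.{u} A] (Z : A) :
    Abelian.extFunctorObj Z 0 ≅ preadditiveCoyoneda.obj (op Z) :=
  NatIso.ofComponents (fun N => AddEquiv.toAddCommGrpIso
      (X := (Abelian.extFunctorObj Z 0).obj N) (Y := (preadditiveCoyoneda.obj (op Z)).obj N)
      Abelian.Ext.addEquiv₀)
    fun {N N'} g => by
      ext x
      obtain ⟨φ, rfl⟩ := (Abelian.Ext.mk₀_bijective _ _).2 x
      change Abelian.Ext.addEquiv₀ ((Abelian.Ext.mk₀ φ).comp (Abelian.Ext.mk₀ g) (add_zero 0)) =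
        Abelian.Ext.addEquiv₀ (Abelian.Ext.mk₀ φ) ≫ g
      rw [Abelian.Ext.mk₀_comp_mk₀]
      exact (Abelian.Ext.addEquiv₀.apply_symm_apply (φ ≫ g)).trans
        (congrArg (· ≫ g) (Abelian.Ext.addEquiv₀.apply_symm_apply φ).symm)

/-- `Hom(M, -)` as the global sections of the internal hom, in degree zero of `Ext`. -/
noncomputable def extZeroIso [HasExt.{u} (ModSite.Mod O)] (M : ModSite.Mod O) [ModSite.HasSheafHom M] :
    Abelian.extFunctorObj M 0 ≅
      (ModSite.sheafHom M ⋙ toAbF O) ⋙ Abelian.extFunctorObj (constZ J) 0 :=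
  extZeroCoy M ≪≫ (sheafHomGammaIso O M).symm ≪≫
    (Functor.associator (ModSite.sheafHom M) (toAbF O) (coyA (constZ J))).symm ≪≫
    Functor.isoWhiskerLeft (ModSite.sheafHom M ⋙ toAbF O) (extZeroCoy (constZ J)).symm

/-- `Ext` into the internal hom, when the latter is exact. -/
theorem exists_ext_sheafHom_addEquiv [HasExt.{u} (ModSite.Mod O)] (M : ModSite.Mod O) [ModSite.HasSheafHom M]
    (hepi : ∀ ⦃A B : ModSite.Mod O⦄ (g : A ⟶ B), Epi g → Epi ((ModSite.sheafHom M).map g)) (n : ℕ) :
    ∃ e : ∀ N, Abelian.Ext.{u} M N n ≃+ ModSite.HC O ((ModSite.sheafHom M).obj N) n,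
      ∀ (N N' : ModSite.Mod O) (φ : N ⟶ N') (x : Abelian.Ext.{u} M N n),
        e N' (x.comp (Abelian.Ext.mk₀ φ) (add_zero n)) =
          Sheaf.H.map ((toAbF O).map ((ModSite.sheafHom M).map φ)) n (e N x) := by
  haveI : IsGrothendieckAbelian.{u} (ModSite.Mod O) := sheaf_isGrothendieckAbelian (ModSite.ringSh O)
  haveI : HasInjectiveResolutions (ModSite.Mod O) := inferInstance
  haveI : PreservesLimitsOfSize.{0, 0} (ModSite.sheafHom M) := (ModSite.sheafHomAdj M).rightAdjoint_preservesLimits
  haveI : PreservesFiniteLimits (ModSite.sheafHom M) := PreservesLimitsOfSize.preservesFiniteLimits _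
  haveI : (ModSite.sheafHom M).PreservesEpimorphisms := ⟨fun g hg => hepi g hg⟩
  haveI := Functor.preservesHomology_of_preservesEpis_and_kernels (ModSite.sheafHom M)
  haveI : PreservesFiniteColimits (ModSite.sheafHom M) :=
    (ModSite.sheafHom M).preservesFiniteColimits_of_preservesHomology
  haveI := toSheaf_preservesLimits (ModSite.ringSh O)
  haveI := toSheaf_preservesColimits (ModSite.ringSh O)
  haveI : PreservesFiniteLimits (toAbF O) := PreservesLimitsOfSize.preservesFiniteLimits _
  haveI : PreservesFiniteColimits (toAbF O) := PreservesColimitsOfSize.preservesFiniteColimits _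
  haveI : PreservesFiniteLimits (ModSite.sheafHom M ⋙ toAbF O) := comp_preservesFiniteLimits _ _
  haveI : PreservesFiniteColimits (ModSite.sheafHom M ⋙ toAbF O) := comp_preservesFiniteColimits _ _
  obtain ⟨e, he⟩ := KerDerived.exists_ext_comp_addEquiv (ModSite.sheafHom M ⋙ toAbF O) M (constZ J)
    (fun I _ m => subsingleton_ext_toAb.{u} (flatInj_sheafHom M I) tfPre_const m) (extZeroIso M) n
  exact ⟨e, fun N N' φ x => he N N' φ x⟩

end Site

/-- The internal hom, on the category of modules of a scheme. -/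
noncomputable abbrev homX {X : Scheme.{u}} (F : X.Modules) [ModSite.HasSheafHom (O := X.sheaf) F] :
    X.Modules ⥤ X.Modules := ModSite.sheafHom (O := X.sheaf) F

/-- A natural additive equivalence of `Ext` with cohomology is linear. -/
theorem map_smul_of_natural {A : Type u} [CommRing A] {X : Scheme.{u}} [X.Over (Spec (CommRingCat.of A))]
    [HasExt.{u} X.Modules] {F : X.Modules} (H : X.Modules ⥤ X.Modules) {n : ℕ}
    (e : ∀ N, Abelian.Ext.{u} F N n ≃+ Coh.HH X (H.obj N) n)
    (he : ∀ (N N' : X.Modules) (φ : N ⟶ N') (x : Abelian.Ext.{u} F N n),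
      e N' (x.comp (Abelian.Ext.mk₀ φ) (add_zero n)) =
        Sheaf.H.map ((SheafOfModules.toSheaf X.ringCatSheaf).map (H.map φ)) n (e N x))
    (hH : ∀ (N : X.Modules) (r : Coh.Γtop X), H.map (Formal.smulModΓ N r) = Formal.smulModΓ (H.obj N) r)
    (N : X.Modules) (a : A) (x : Abelian.Ext.{u} F N n) : e N (a • x) = a • e N x := by
  rw [Abelian.Ext.smul_eq_comp_mk₀, KLin.smul_id, he, Formal.smulMod, hH]
  rfl

/-- **`Ext^n(F, N) = H^n(Hom(F, N))` for `F` finite locally free**, linearly over the base. -/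
theorem nonempty_ext_linearEquiv_HH {A : Type u} [CommRing A] {X : Scheme.{u}}
    [X.Over (Spec (CommRingCat.of A))] [HasExt.{u} X.Modules] (F : X.Modules) (hF : FlatMod.IsFinLocFree F)
    [ModSite.HasSheafHom (O := X.sheaf) F] (N : X.Modules) (n : ℕ) :
    Nonempty (Abelian.Ext.{u} F N n ≃ₗ[A] Coh.HH X ((homX F).obj N) n) := by
  haveI : HasExt.{u} (ModSite.Mod X.sheaf) := inferInstanceAs (HasExt.{u} X.Modules)
  obtain ⟨e, he⟩ := exists_ext_sheafHom_addEquiv (O := X.sheaf) F
    (fun A B g hg => haveI : Epi (C := X.Modules) g := hg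
      SheafHomExact.epi_sheafHom_map (X := X) hF (G := A) (G' := B) g) n
  let e' : Abelian.Ext.{u} F N n ≃+ Coh.HH X ((homX F).obj N) n := e N
  exact ⟨AddEquiv.toLinearEquiv e' fun a x => map_smul_of_natural (A := A) (homX F) (n := n) e he
    (fun M r => SheafHomExact.sheafHom_map_smulModΓ F M r) N a x⟩

/-- Isomorphic modules have linearly isomorphic cohomology. -/
theorem nonempty_HH_linearEquiv_of_iso {A : Type u} [CommRing A] {X : Scheme.{u}}
    [X.Over (Spec (CommRingCat.of A))] {M N : X.Modules} (e : M ≅ N) (n : ℕ) :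
    Nonempty (Coh.HH X M n ≃ₗ[A] Coh.HH X N n) := by
  have e₁ : ∀ {M N : X.Modules} (e : M ≅ N) (x : Coh.HH X M n),
      Sheaf.H.map ((SheafOfModules.toSheaf X.ringCatSheaf).map e.inv) n
        (Sheaf.H.map ((SheafOfModules.toSheaf X.ringCatSheaf).map e.hom) n x) = x := fun {M N} e x => by
    refine (Sheaf.H.map_comp_apply _ _ x).symm.trans ?_
    refine (congrArg (fun z => Sheaf.H.map z n x)
      (((SheafOfModules.toSheaf X.ringCatSheaf).map_comp _ _).symm.trans
        ((congrArg (SheafOfModules.toSheaf X.ringCatSheaf).map e.hom_inv_id).trans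
          ((SheafOfModules.toSheaf X.ringCatSheaf).map_id _)))).trans ?_
    exact Sheaf.H.map_id_apply _
  let f : Coh.HH X M n ≃+ Coh.HH X N n :=
    { (Sheaf.H.map ((SheafOfModules.toSheaf X.ringCatSheaf).map e.hom) n : Coh.HH X M n →+ Coh.HH X N n) with
      invFun := Sheaf.H.map ((SheafOfModules.toSheaf X.ringCatSheaf).map e.inv) n
      left_inv := e₁ e
      right_inv := e₁ e.symm }
  refine ⟨AddEquiv.toLinearEquiv f fun a x => ?_⟩
  have h : Coh.smulAb M (Coh.toGlobal (X ↘ Spec (CommRingCat.of A)) a) ≫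
      (SheafOfModules.toSheaf X.ringCatSheaf).map e.hom =
        (SheafOfModules.toSheaf X.ringCatSheaf).map e.hom ≫
          Coh.smulAb N (Coh.toGlobal (X ↘ Spec (CommRingCat.of A)) a) :=
    ((SheafOfModules.toSheaf X.ringCatSheaf).map_comp _ _).symm.trans
      ((congrArg (SheafOfModules.toSheaf X.ringCatSheaf).map (KLin.comp_smulModΓ e.hom _).symm).trans
        ((SheafOfModules.toSheaf X.ringCatSheaf).map_comp _ _))
  exact ((Sheaf.H.map_comp_apply _ _ x).symm.trans (congrArg (fun z => Sheaf.H.map z n x) h)).trans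
    (Sheaf.H.map_comp_apply _ _ x)

/-- The two internal homs agree. -/
noncomputable def homXIso {X : Scheme.{u}} (F : X.Modules) [ModSite.HasSheafHom (O := X.sheaf) F]
    [DCoh.HasSheafHom F] : homX F ≅ DCoh.sheafHom F :=
  (ModSite.sheafHomAdj (O := X.sheaf) F).rightAdjointUniq
    ((DCoh.sheafHomAdj F).ofNatIsoLeft (tensorSymm (O := X.sheaf) F))

end Groth.Agent.SSExist
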