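import Groth.Agent.SSExist.OverInj
import Mathlib.Algebra.Homology.HomotopyCategory.KInjective
import Mathlib.CategoryTheory.Abelian.Exact
import Mathlib.CategoryTheory.Sites.Abelian
import Mathlib.Algebra.Homology.ShortComplex.ExactFunctor
import Mathlib.CategoryTheory.Adjunction.Additive

/-!
# Extension by zero as a functor; restriction preserves K-injective complexes
-/

set_option autoImplicit false
set_option linter.style.haveILetI false

open CategoryTheory CategoryTheory.Limits Opposite

namespace Groth.Agent.SSExist

section General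

universe v v' u u'

variable {A : Type u} [Category.{v} A] [Abelian A] {B : Type u'} [Category.{v'} B] [Abelian B]

/-- The right adjoint of an exact functor preserves K-injective complexes. -/
theorem isKInjective_map_rightAdjoint {L : A ⥤ B} {R : B ⥤ A} [L.Additive] [R.Additive] (adj : L ⊣ R)
    [PreservesFiniteLimits L] [PreservesFiniteColimits L] (I : CochainComplex B ℤ) [I.IsKInjective] :
    CochainComplex.IsKInjective ((R.mapHomologicalComplex (ComplexShape.up ℤ)).obj I) where
  nonempty_homotopy_zero {K} f hK := by
    let LK := (L.mapHomologicalComplex (ComplexShape.up ℤ)).obj K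
    have hLK : LK.Acyclic := fun i => (hK i).map L
    let g : LK ⟶ I :=
      { f := fun i => (adj.homEquiv _ _).symm (f.f i)
        comm' := fun i j _ => by
          show (adj.homEquiv _ _).symm (f.f i) ≫ I.d i j = L.map (K.d i j) ≫ (adj.homEquiv _ _).symm (f.f j)
          rw [← adj.homEquiv_naturality_left_symm, ← adj.homEquiv_naturality_right_symm]
          exact congrArg _ (f.comm i j) }
    let η : K ⟶ (R.mapHomologicalComplex (ComplexShape.up ℤ)).obj LK :=
      { f := fun i => adj.unit.app (K.X i)
        comm' := fun i j _ => (adj.unit.naturality (K.d i j)).symm }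
    have hf : η ≫ (R.mapHomologicalComplex (ComplexShape.up ℤ)).map g = f := by
      ext i
      exact (adj.homEquiv_unit _ _ _).symm.trans (Equiv.apply_symm_apply _ _)
    exact ⟨(Homotopy.ofEq hf.symm).trans
      (((R.mapHomotopy (CochainComplex.IsKInjective.homotopyZero g hLK)).compLeft η).trans
        (Homotopy.ofEq (by rw [Functor.map_zero, comp_zero])))⟩

end General

universe u

variable {C : Type u} [SmallCategory C] {X : C}

lemma shriekDesc_dof {P : (Over X)ᵒᵖ ⥤ AddCommGrpCat.{u}} {G : Cᵒᵖ ⥤ AddCommGrpCat.{u}}
    (φ : P ⟶ (Over.forget X).op ⋙ G) (V : Cᵒᵖ) (g : V.unop ⟶ X) (x : P.obj (op (Over.mk g))) :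
    (shriekDesc φ).app V (dof P V g x) = φ.app (op (Over.mk g)) x :=
  dto_of P V (fam φ V) g x

lemma shriek_hom_ext {P : (Over X)ᵒᵖ ⥤ AddCommGrpCat.{u}} {G : Cᵒᵖ ⥤ AddCommGrpCat.{u}}
    {φ ψ : shriekPre P ⟶ G}
    (h : shriekUnit P ≫ Functor.whiskerLeft _ φ = shriekUnit P ≫ Functor.whiskerLeft _ ψ) : φ = ψ := by
  refine NatTrans.ext (funext fun V => AddCommGrpCat.hom_ext (dof_ext fun g x => ?_))
  exact ConcreteCategory.congr_hom (NatTrans.congr_app h (op (Over.mk g))) x

variable (X) in
/-- Extension by zero from `C/X`, as a functor. -/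
noncomputable def shriekF : ((Over X)ᵒᵖ ⥤ AddCommGrpCat.{u}) ⥤ (Cᵒᵖ ⥤ AddCommGrpCat.{u}) where
  obj := shriekPre
  map := shriekMap
  map_id P := shriek_hom_ext (by
    rw [shriekMap, shriekUnit_desc, Category.id_comp, Functor.whiskerLeft_id']
    exact (Category.comp_id _).symm)
  map_comp f g := shriek_hom_ext (by
    rw [shriekMap, shriekUnit_desc, Functor.whiskerLeft_comp, shriekMap, shriekMap, ← Category.assoc,
      shriekUnit_desc, Category.assoc, Category.assoc, shriekUnit_desc])

variable (X) in
/-- Extension by zero is left adjoint to restriction of presheaves. -/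
noncomputable def shriekAdjPre :
    shriekF X ⊣ (Functor.whiskeringLeft (Over X)ᵒᵖ Cᵒᵖ AddCommGrpCat.{u}).obj (Over.forget X).op :=
  Adjunction.mkOfHomEquiv
    { homEquiv := fun P G =>
        { toFun := fun φ => shriekUnit P ≫ Functor.whiskerLeft _ φ
          invFun := fun φ => shriekDesc φ
          left_inv := fun φ => shriek_hom_ext (shriekUnit_desc _)
          right_inv := fun φ => shriekUnit_desc φ }
      homEquiv_naturality_left_symm := fun {P Q G} f g => shriek_hom_ext (by
        show shriekUnit P ≫ Functor.whiskerLeft _ (shriekDesc (f ≫ g)) =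
          shriekUnit P ≫ Functor.whiskerLeft _ (shriekMap f ≫ shriekDesc g)
        rw [shriekUnit_desc, Functor.whiskerLeft_comp, shriekMap, ← Category.assoc, shriekUnit_desc,
          Category.assoc, shriekUnit_desc])
      homEquiv_naturality_right := fun {P G G'} f g => by
        show shriekUnit P ≫ Functor.whiskerLeft _ (f ≫ g) =
          (shriekUnit P ≫ Functor.whiskerLeft _ f) ≫ Functor.whiskerLeft _ g
        rw [Functor.whiskerLeft_comp, Category.assoc] }

variable (J : GrothendieckTopology C)

/-- Extension by zero on abelian sheaves. -/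
noncomputable abbrev shriekSh (X : C) : Sheaf (J.over X) AddCommGrpCat.{u} ⥤ Sheaf J AddCommGrpCat.{u} :=
  sheafToPresheaf (J.over X) AddCommGrpCat.{u} ⋙ shriekF X ⋙ presheafToSheaf J AddCommGrpCat.{u}

/-- Extension by zero is left adjoint to restriction of abelian sheaves. -/
noncomputable def shriekShAdj (X : C) : shriekSh J X ⊣ CohSite.push J (J.over X) (Over.forget X) :=
  Adjunction.restrictFullyFaithful ((shriekAdjPre X).comp (sheafificationAdjunction J AddCommGrpCat.{u}))
    (fullyFaithfulSheafToPresheaf (J.over X) AddCommGrpCat.{u}) (Functor.FullyFaithful.id _) (Iso.refl _) (Iso.refl _)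

/-- Restriction to `C/X` preserves K-injective complexes. -/
theorem isKInjective_restrictOver (X : C) (I : CochainComplex (Sheaf J AddCommGrpCat.{u}) ℤ) [I.IsKInjective] :
    CochainComplex.IsKInjective (((CohSite.push J (J.over X) (Over.forget X)).mapHomologicalComplex
      (ComplexShape.up ℤ)).obj I) := by
  let adj := shriekShAdj J X
  haveI : PreservesColimitsOfSize.{0, 0} (shriekSh J X) := adj.leftAdjoint_preservesColimits
  haveI : PreservesFiniteColimits (shriekSh J X) := PreservesColimitsOfSize.preservesFiniteColimits _
  haveI : (shriekSh J X).Additive := adj.left_adjoint_additive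
  haveI : (shriekSh J X).PreservesMonomorphisms := ⟨fun {A B} f hf => by
    haveI : Mono f.hom := (sheafToPresheaf (J.over X) AddCommGrpCat.{u}).map_mono f
    haveI := mono_shriekMap f.hom
    exact (presheafToSheaf J AddCommGrpCat.{u}).map_mono (shriekMap f.hom)⟩
  haveI : (shriekSh J X).PreservesHomology := by
    apply Functor.preservesHomology_of_preservesMonos_and_cokernels
  haveI : PreservesFiniteLimits (shriekSh J X) := Functor.preservesFiniteLimits_of_preservesHomology _
  exact isKInjective_map_rightAdjoint adj I

end Groth.Agent.SSExist
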