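import Mathlib.CategoryTheory.Limits.Types.Products
import Mathlib.CategoryTheory.Limits.Preserves.Shapes.BinaryProducts
import Mathlib.CategoryTheory.Limits.Preserves.Shapes.Terminal
import Mathlib.Algebra.Category.Grp.Basic
import Mathlib.CategoryTheory.Limits.Constructions.FiniteProductsOfBinaryProducts

/-!
# Images of abelian group objects under product preserving functors to types

If the hom-sets into an object `A` are abelian groups, naturally in the source, then `Φ.obj A` is
an abelian group for every finite-product preserving functor `Φ` to types.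
-/

set_option autoImplicit false

open CategoryTheory CategoryTheory.Limits

namespace Groth.Agent.SSExist

universe w v u

variable {S : Type u} [Category.{v} S]

/-- A natural structure of abelian group on the morphisms into `A`. -/
class AddObj (A : S) where
  /-- The group of morphisms from `Q` into `A`. -/
  grp (Q : S) : AddCommGroup (Q ⟶ A)
  comp_add {Q Q' : S} (f : Q' ⟶ Q) (a b : Q ⟶ A) :
    f ≫ (letI := grp Q; a + b) = (letI := grp Q'; f ≫ a + f ≫ b)

attribute [instance] AddObj.grp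

lemma comp_addHom {A Q Q' : S} [AddObj A] (f : Q' ⟶ Q) (a b : Q ⟶ A) :
    f ≫ (a + b) = f ≫ a + f ≫ b := AddObj.comp_add f a b

lemma comp_zeroHom {A Q Q' : S} [AddObj A] (f : Q' ⟶ Q) : f ≫ (0 : Q ⟶ A) = 0 := by
  have h := comp_addHom f (0 : Q ⟶ A) 0
  rw [add_zero] at h
  simpa using h

lemma comp_negHom {A Q Q' : S} [AddObj A] (f : Q' ⟶ Q) (a : Q ⟶ A) : f ≫ (-a) = -(f ≫ a) :=
  eq_neg_of_add_eq_zero_left (by rw [← comp_addHom, neg_add_cancel, comp_zeroHom])

variable [HasFiniteProducts S] (Φ : S ⥤ Type w) [PreservesFiniteProducts Φ]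

lemma exists_pair {A B : S} (x : Φ.obj A) (y : Φ.obj B) :
    ∃ w, Φ.map (prod.fst : A ⨯ B ⟶ A) w = x ∧ Φ.map (prod.snd : A ⨯ B ⟶ B) w = y := by
  let e := PreservesLimitPair.iso Φ A B ≪≫ Types.binaryProductIso _ _
  have h₁ : e.inv ≫ Φ.map prod.fst = ↾_root_.Prod.fst := by
    rw [Iso.inv_comp_eq]
    simp [e]
  have h₂ : e.inv ≫ Φ.map prod.snd = ↾_root_.Prod.snd := by
    rw [Iso.inv_comp_eq]
    simp [e]
  exact ⟨e.toEquiv.symm (x, y), ConcreteCategory.congr_hom h₁ ((x, y) : Φ.obj A × Φ.obj B),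
    ConcreteCategory.congr_hom h₂ ((x, y) : Φ.obj A × Φ.obj B)⟩

lemma pair_ext {A B : S} {z z' : Φ.obj (A ⨯ B)} (h₁ : Φ.map prod.fst z = Φ.map prod.fst z')
    (h₂ : Φ.map prod.snd z = Φ.map prod.snd z') : z = z' := by
  let e := PreservesLimitPair.iso Φ A B ≪≫ Types.binaryProductIso _ _
  have e₁ : e.hom ≫ ↾_root_.Prod.fst = Φ.map prod.fst := by simp [e]
  have e₂ : e.hom ≫ ↾_root_.Prod.snd = Φ.map prod.snd := by simp [e]
  apply e.toEquiv.injective
  refine _root_.Prod.ext ?_ ?_
  · show (e.hom ≫ ↾_root_.Prod.fst) z = (e.hom ≫ ↾_root_.Prod.fst) z'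
    rw [e₁, h₁]
  · show (e.hom ≫ ↾_root_.Prod.snd) z = (e.hom ≫ ↾_root_.Prod.snd) z'
    rw [e₂, h₂]

/-- The unique element of `Φ (⊤_ S)`. -/
noncomputable def pt : Φ.obj (⊤_ S) := (PreservesTerminal.iso Φ ≪≫ Types.terminalIso).inv PUnit.unit

lemma pt_eq (z : Φ.obj (⊤_ S)) : z = pt Φ :=
  (PreservesTerminal.iso Φ ≪≫ Types.terminalIso).toEquiv.injective (Subsingleton.elim (α := PUnit) _ _)

variable (A : S) [AddObj A]

/-- The sum of two elements of `Φ A`. -/
noncomputable def addVal (x y : Φ.obj A) : Φ.obj A :=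
  Φ.map ((prod.fst : A ⨯ A ⟶ A) + prod.snd) (exists_pair Φ x y).choose

/-- The zero element of `Φ A`. -/
noncomputable def zeroVal : Φ.obj A := Φ.map (0 : ⊤_ S ⟶ A) (pt Φ)

/-- The opposite of an element of `Φ A`. -/
noncomputable def negVal (x : Φ.obj A) : Φ.obj A := Φ.map (-(𝟙 A)) x

lemma map_addVal {Q : S} (a b : Q ⟶ A) (w : Φ.obj Q) :
    Φ.map (a + b) w = addVal Φ A (Φ.map a w) (Φ.map b w) := by
  have hw : Φ.map (prod.lift a b) w = (exists_pair Φ (Φ.map a w) (Φ.map b w)).choose := by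
    refine pair_ext Φ ?_ ?_
    · rw [(exists_pair Φ (Φ.map a w) (Φ.map b w)).choose_spec.1, ← ConcreteCategory.comp_apply,
        ← Φ.map_comp, prod.lift_fst]
    · rw [(exists_pair Φ (Φ.map a w) (Φ.map b w)).choose_spec.2, ← ConcreteCategory.comp_apply,
        ← Φ.map_comp, prod.lift_snd]
  rw [addVal, ← hw, ← ConcreteCategory.comp_apply, ← Φ.map_comp, comp_addHom, prod.lift_fst,
    prod.lift_snd]

lemma map_zeroVal {Q : S} (w : Φ.obj Q) : Φ.map (0 : Q ⟶ A) w = zeroVal Φ A := by
  rw [zeroVal, ← pt_eq Φ (Φ.map (terminal.from Q) w), ← ConcreteCategory.comp_apply, ← Φ.map_comp,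
    comp_zeroHom]

lemma map_negVal {Q : S} (a : Q ⟶ A) (w : Φ.obj Q) : Φ.map (-a) w = negVal Φ A (Φ.map a w) := by
  rw [negVal, ← ConcreteCategory.comp_apply, ← Φ.map_comp, comp_negHom, Category.comp_id]

/-- The group structure on `Φ A`. -/
@[reducible]
noncomputable def addCommGroupObj : AddCommGroup (Φ.obj A) :=
  letI : Add (Φ.obj A) := ⟨addVal Φ A⟩
  letI : Zero (Φ.obj A) := ⟨zeroVal Φ A⟩
  letI : Neg (Φ.obj A) := ⟨negVal Φ A⟩
  { toAdd := inferInstance
    toZero := inferInstance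
    toNeg := inferInstance
    nsmul := nsmulRec
    zsmul := zsmulRec
    add_assoc := fun x y z => by
      obtain ⟨w₁, rfl, rfl⟩ := exists_pair Φ x y
      obtain ⟨w, rfl, rfl⟩ := exists_pair Φ w₁ z
      show addVal Φ A (addVal Φ A _ _) _ = addVal Φ A _ (addVal Φ A _ _)
      simp only [← ConcreteCategory.comp_apply, ← Φ.map_comp, ← map_addVal, add_assoc]
    zero_add := fun x => by
      show addVal Φ A (zeroVal Φ A) x = x
      conv_lhs => rw [← map_zeroVal Φ A x, show x = Φ.map (𝟙 A) x by simp]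
      simp only [← ConcreteCategory.comp_apply, ← Φ.map_comp, Category.id_comp, ← map_addVal, zero_add]
      simp
    add_zero := fun x => by
      show addVal Φ A x (zeroVal Φ A) = x
      conv_lhs => rw [← map_zeroVal Φ A x, show x = Φ.map (𝟙 A) x by simp]
      simp only [← ConcreteCategory.comp_apply, ← Φ.map_comp, Category.id_comp, ← map_addVal, add_zero]
      simp
    neg_add_cancel := fun x => by
      show addVal Φ A (negVal Φ A x) x = zeroVal Φ A
      rw [← map_zeroVal Φ A x]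
      conv_lhs => rw [show x = Φ.map (𝟙 A) x by simp, ← map_negVal]
      rw [← map_addVal, neg_add_cancel]
    add_comm := fun x y => by
      obtain ⟨w, rfl, rfl⟩ := exists_pair Φ x y
      show addVal Φ A _ _ = addVal Φ A _ _
      rw [← map_addVal, ← map_addVal, add_comm] }

/-- A natural transformation is additive. -/
lemma app_addVal {Ψ : S ⥤ Type w} [PreservesFiniteProducts Ψ] (τ : Φ ⟶ Ψ) (x y : Φ.obj A) :
    τ.app A (addVal Φ A x y) = addVal Ψ A (τ.app A x) (τ.app A y) := by
  obtain ⟨w, rfl, rfl⟩ := exists_pair Φ x y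
  rw [← map_addVal, ← ConcreteCategory.comp_apply, τ.naturality, ConcreteCategory.comp_apply,
    map_addVal]
  simp only [← ConcreteCategory.comp_apply, ← τ.naturality]

/-- The image of an additive morphism is additive. -/
lemma map_map_addVal {B : S} [AddObj B] (g : A ⟶ B)
    (hg : ∀ {Q : S} (a b : Q ⟶ A), (a + b) ≫ g = a ≫ g + b ≫ g) (x y : Φ.obj A) :
    Φ.map g (addVal Φ A x y) = addVal Φ B (Φ.map g x) (Φ.map g y) := by
  obtain ⟨w, rfl, rfl⟩ := exists_pair Φ x y
  simp only [← map_addVal, ← ConcreteCategory.comp_apply, ← Φ.map_comp, hg]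

end Groth.Agent.SSExist
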