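import Groth.Agent.SSExist.ExtDerived
import Groth.Agent.SSExist.GroupTransfer
import Groth.Prelude.Def_CohSite
import Mathlib.CategoryTheory.Sites.Limits
import Mathlib.CategoryTheory.Abelian.GrothendieckCategory.EnoughInjectives
import Mathlib.CategoryTheory.Adjunction.Whiskering
import Mathlib.CategoryTheory.Yoneda

/-!
# Cohomology of an object of a site as a derived functor of sections
-/

set_option autoImplicit false
set_option linter.style.haveILetI false

open CategoryTheory CategoryTheory.Limits Opposite

namespace Groth.Agent.SSExist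

universe u

variable {C : Type u} [SmallCategory C] (J : GrothendieckTopology C)

/-- The free abelian sheaf on an object. -/
noncomputable abbrev freeAb (U : C) : Sheaf J AddCommGrpCat.{u} :=
  (presheafToSheaf J AddCommGrpCat.{u}).obj (yoneda.obj U ⋙ AddCommGrpCat.free)

/-- Sections over an object. -/
noncomputable abbrev secAb (U : C) : Sheaf J AddCommGrpCat.{u} ⥤ AddCommGrpCat.{u} :=
  sheafToPresheaf J AddCommGrpCat.{u} ⋙ (evaluation Cᵒᵖ AddCommGrpCat.{u}).obj (op U)

instance secAb_additive (U : C) : (secAb J U).Additive where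
  map_add := rfl

instance secAb_preservesFiniteLimits (U : C) : PreservesFiniteLimits (secAb J U) :=
  inferInstanceAs (PreservesFiniteLimits (sheafToPresheaf J AddCommGrpCat.{u} ⋙
    (evaluation Cᵒᵖ AddCommGrpCat.{u}).obj (op U)))

/-- The canonical section of the free sheaf. -/
noncomputable def genAb (U : C) : (freeAb J U).obj.obj (op U) :=
  (toSheafify J (yoneda.obj U ⋙ AddCommGrpCat.free)).app (op U)
    (FreeAbelianGroup.of (𝟙 U) : FreeAbelianGroup (U ⟶ U))

/-- Maps out of the free sheaf give sections. -/
noncomputable def evalGen (U : C) (F : Sheaf J AddCommGrpCat.{u}) :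
    (freeAb J U ⟶ F) →+ F.obj.obj (op U) :=
  AddMonoidHom.mk' (fun φ => φ.hom.app (op U) (genAb J U)) (fun _ _ => rfl)

lemma evalGen_bijective (U : C) (F : Sheaf J AddCommGrpCat.{u}) : Function.Bijective (evalGen J U F) := by
  let e := (((sheafificationAdjunction J AddCommGrpCat.{u}).homEquiv (yoneda.obj U ⋙ AddCommGrpCat.free) F).trans
    ((AddCommGrpCat.adj.whiskerRight Cᵒᵖ).homEquiv (yoneda.obj U) F.obj)).trans yonedaEquiv
  have h : (evalGen J U F : (freeAb J U ⟶ F) → F.obj.obj (op U)) = e := funext fun φ => rfl
  rw [h]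
  exact e.bijective

/-- Sections as maps out of the free sheaf. -/
noncomputable def secAbIso (U : C) : secAb J U ≅ preadditiveCoyoneda.obj (op (freeAb J U)) :=
  (NatIso.ofComponents (fun F => AddEquiv.toAddCommGrpIso
    (X := (preadditiveCoyoneda.obj (op (freeAb J U))).obj F) (Y := (secAb J U).obj F)
      (AddEquiv.ofBijective (evalGen J U F) (evalGen_bijective J U F))) (fun f => by ext φ; rfl)).symm

/-- `H^n(U, F)` as a right derived functor of sections. -/
lemma nonempty_HU_iso {J : GrothendieckTopology C} (F : Sheaf J AddCommGrpCat.{u}) (U : C) (n : ℕ) :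
    Nonempty (AddCommGrpCat.of (CohSite.HU F n U) ≅ ((secAb J U).rightDerived n).obj F) :=
  nonempty_ext_iso_rightDerived (secAb J U) (freeAb J U) (secAbIso J U) F n

end Groth.Agent.SSExist
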