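import Groth.Prelude.Def_LocCohZ
import Groth.Agent.SSExist.SiteSheaf
import Groth.Agent.CohVanish.LES
import Mathlib.CategoryTheory.Preadditive.Injective.Preserves
import Mathlib.CategoryTheory.Preadditive.Yoneda.Limits

/-!
# Sections with support in a closed subset
-/

set_option autoImplicit false
set_option linter.style.haveILetI false

open CategoryTheory CategoryTheory.Limits Opposite TopologicalSpace LocCohZ

namespace Groth.Agent.SSExist

universe u

variable {X : TopCat.{u}}

/-- Global sections vanishing on `U`, as a functor. -/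
noncomputable def gammaSub (U : Opens X) : CohTop.Ab X ⥤ AddCommGrpCat.{u} where
  obj F := AddCommGrpCat.of (sectZ F (le_top : U ≤ ⊤))
  map {F G} φ := AddCommGrpCat.ofHom (((φ.hom.app (op ⊤)).hom.comp (sectZ F le_top).subtype).codRestrict _
    (fun s => (ConcreteCategory.congr_hom (φ.hom.naturality (homOfLE (le_top : U ≤ ⊤)).op) s.1).symm.trans
      ((congrArg (φ.hom.app (op U)).hom s.2).trans (φ.hom.app (op U)).hom.map_zero)))
  map_id F := by
    ext s
    rfl
  map_comp f g := by
    ext s
    rfl

/-- Sections with support are maps out of `ℤ_X/ℤ_U`. -/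
noncomputable def gammaSubIso (U : Opens X) :
    gammaSub U ≅ preadditiveCoyoneda.obj (op (zq (le_top : U ≤ ⊤))) :=
  (NatIso.ofComponents (fun F => AddEquiv.toAddCommGrpIso
    (X := (preadditiveCoyoneda.obj (op (zq (le_top : U ≤ ⊤)))).obj F) (Y := (gammaSub U).obj F)
      (Abelian.Ext.addEquiv₀.symm.trans (sect0Equiv F (le_top : U ≤ ⊤))))
    (fun {F G} g => by
      ext φ
      apply Subtype.ext
      change CohFree.evalGen (Opens.grothendieckTopology X) (⊤ : Opens X) G
          (cokernel.π _ ≫ Abelian.Ext.addEquiv₀ (Abelian.Ext.addEquiv₀.symm (φ ≫ g))) =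
        (g.hom.app (op ⊤)).hom (CohFree.evalGen (Opens.grothendieckTopology X) (⊤ : Opens X) F
          (cokernel.π _ ≫ Abelian.Ext.addEquiv₀ (Abelian.Ext.addEquiv₀.symm φ)))
      rw [AddEquiv.apply_symm_apply, AddEquiv.apply_symm_apply]
      rfl)).symm

instance (U : Opens X) : (gammaSub U).Additive :=
  Functor.additive_of_iso (gammaSubIso U).symm

instance (U : Opens X) : PreservesFiniteLimits (gammaSub U) :=
  preservesFiniteLimits_of_natIso (gammaSubIso U).symm

lemma nonempty_HZc_iso (U : Opens X) (F : CohTop.Ab X) (n : ℕ) :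
    Nonempty (AddCommGrpCat.of (HZc F n U) ≅ ((gammaSub U).rightDerived n).obj F) :=
  nonempty_ext_iso_rightDerived (gammaSub U) (zq (le_top : U ≤ ⊤)) (gammaSubIso U) F n

/-- The restriction morphism `F ⟶ j_* (F|_U)`. -/
noncomputable def resTrans (U : Opens X) (F : CohTop.Ab X) :
    F ⟶ (CohTop.push (CohCx.incl U)).obj ((CohTop.restrFunctor U).obj F) :=
  ⟨{ app := fun W => F.obj.map (homOfLE (by rintro _ ⟨x, hx, rfl⟩; exact hx)).op
     naturality := fun W W' i => by
       change F.obj.map _ ≫ F.obj.map _ = F.obj.map _ ≫ F.obj.map _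
       rw [← F.obj.map_comp, ← F.obj.map_comp]
       rfl }⟩

lemma unit_app_eq_zero_iff (U : Opens X) (F : CohTop.Ab X) (V : Opens X) (s : F.obj.obj (op V)) :
    ((((TopCat.Sheaf.pullbackPushforwardAdjunction AddCommGrpCat.{u} (CohCx.incl U)).unit.app F).hom.app (op V)).hom s = 0) ↔
      (F.obj.map (homOfLE (inf_le_left : V ⊓ U ≤ V)).op).hom s = 0 := by
  let adj := TopCat.Sheaf.pullbackPushforwardAdjunction AddCommGrpCat.{u} (CohCx.incl U)
  constructor
  · intro h
    have hfac : adj.unit.app F ≫ (CohTop.push (CohCx.incl U)).map ((adj.homEquiv _ _).symm (resTrans U F)) =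
        resTrans U F := by
      exact (adj.homEquiv_unit _ _ _).symm.trans (Equiv.apply_symm_apply _ _)
    have h' := ConcreteCategory.congr_hom (NatTrans.congr_app (congrArg (·.hom) hfac) (op V)) s
    have h₀ : ((resTrans U F).hom.app (op V)).hom s = 0 :=
      h'.symm.trans ((congrArg (((CohTop.push (CohCx.incl U)).map
        ((adj.homEquiv _ _).symm (resTrans U F))).hom.app (op V)).hom h).trans (map_zero _))
    have hW : (V ⊓ U : Opens X) ≤ (U.isOpenEmbedding.isOpenMap.functor (X := TopCat.of U) (Y := X) (f := CohCx.incl U)).obj ((Opens.map (CohCx.incl U)).obj V) :=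
      fun x hx => ⟨⟨x, hx.2⟩, hx.1, rfl⟩
    have h₁ := (congrArg (F.obj.map (homOfLE hW).op).hom h₀).trans (F.obj.map (homOfLE hW).op).hom.map_zero
    refine Eq.trans ?_ h₁
    show _ = (F.obj.map _ ≫ F.obj.map _) s
    rw [← F.obj.map_comp]
    rfl
  · intro h
    let G := (CohTop.pull (CohCx.incl U)).obj F
    let η : F ⟶ (CohTop.push (CohCx.incl U)).obj G := adj.unit.app F
    let i : (V ⊓ U : Opens X) ⟶ V := homOfLE inf_le_left
    have hi : IsIso ((Opens.map (CohCx.incl U)).map i).op := by
      have he : (Opens.map (CohCx.incl U)).obj (V ⊓ U) = (Opens.map (CohCx.incl U)).obj V :=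
        Opens.ext (Set.ext fun x => ⟨fun hx => hx.1, fun hx => ⟨hx, x.2⟩⟩)
      rw [Subsingleton.elim ((Opens.map (CohCx.incl U)).map i) (eqToHom he)]
      infer_instance
    have h₁ : (G.obj.map ((Opens.map (CohCx.incl U)).map i).op).hom ((η.hom.app (op V)).hom s) = 0 :=
      (ConcreteCategory.congr_hom (η.hom.naturality i.op) s).symm.trans ((congrArg (η.hom.app _).hom h).trans (map_zero _))
    exact ((ConcreteCategory.bijective_of_isIso (G.obj.map ((Opens.map (CohCx.incl U)).map i).op)).1
      (h₁.trans (map_zero _).symm))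

/-- The unit `F ⟶ j_* j⁻¹ F`. -/
noncomputable abbrev suppEta (U : Opens X) (F : CohTop.Ab X) :
    F ⟶ (CohTop.push (CohCx.incl U)).obj ((CohTop.pull (CohCx.incl U)).obj F) :=
  (TopCat.Sheaf.pullbackPushforwardAdjunction AddCommGrpCat.{u} (CohCx.incl U)).unit.app F

lemma sectSupp_injective (U : Opens X) (F : CohTop.Ab X) (V : Opens X) :
    Function.Injective ((kernel.ι (suppEta U F)).hom.app (op V)).hom :=
  (AddCommGrpCat.mono_iff_injective _).1
    ((secAb (Opens.grothendieckTopology X) V).map_mono
      (kernel.ι (suppEta U F)))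

lemma mem_sectSupp_iff (U : Opens X) (F : CohTop.Ab X) (V : Opens X) (s : F.obj.obj (op V)) :
    (∃ t : (CohCx.sectSupp U F).obj.obj (op V),
      ((kernel.ι (suppEta U F)).hom.app (op V)).hom t = s) ↔
      (F.obj.map (homOfLE (inf_le_left : V ⊓ U ≤ V)).op).hom s = 0 := by
  rw [← unit_app_eq_zero_iff]
  let η := suppEta U F
  constructor
  · rintro ⟨t, rfl⟩
    exact ConcreteCategory.congr_hom (NatTrans.congr_app (congrArg (·.hom) (kernel.condition η)) (op V)) t
  · intro h
    let Sc := ShortComplex.mk (kernel.ι η) η (kernel.condition η)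
    have hex : Sc.Exact := ShortComplex.exact_of_f_is_kernel _ (kernelIsKernel _)
    exact ((ShortComplex.ab_exact_iff _).1 (hex.map_of_mono_of_preservesKernel
      (secAb (Opens.grothendieckTopology X) V) (inferInstanceAs (Mono (kernel.ι η))) inferInstance)) s h

/-- Global sections of the sheaf of sections with support. -/
noncomputable def sectSuppSecIso (U : Opens X) :
    sectSuppF U ⋙ secAb (Opens.grothendieckTopology X) (⊤ : Opens X) ≅ gammaSub U :=
  have hmem : ∀ (F : CohTop.Ab X) (t : (CohCx.sectSupp U F).obj.obj (op ⊤)),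
      ((kernel.ι (suppEta U F)).hom.app (op ⊤)).hom t ∈
        sectZ F (le_top : U ≤ ⊤) := fun F t => by
    have h := (mem_sectSupp_iff U F ⊤ _).1 ⟨t, rfl⟩
    have h' := congrArg (F.obj.map (homOfLE (le_inf le_top le_rfl : U ≤ ⊤ ⊓ U)).op).hom h
    rw [map_zero] at h'
    refine Eq.trans ?_ h'
    show _ = (F.obj.map _ ≫ F.obj.map _) _
    rw [← F.obj.map_comp]
    rfl
  NatIso.ofComponents (fun F => AddEquiv.toAddCommGrpIso
    (X := (sectSuppF U ⋙ secAb (Opens.grothendieckTopology X) (⊤ : Opens X)).obj F) (Y := (gammaSub U).obj F)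
    (AddEquiv.ofBijective ((((kernel.ι (suppEta U F)).hom.app (op ⊤)).hom).codRestrict _ (hmem F))
      ⟨fun a b h => sectSupp_injective U F ⊤ (congrArg Subtype.val h), fun s => by
        obtain ⟨t, ht⟩ := (mem_sectSupp_iff U F ⊤ s.1).2 (by
          have h := congrArg (F.obj.map (homOfLE (inf_le_right : ⊤ ⊓ U ≤ U)).op).hom (show (F.obj.map (homOfLE (le_top : U ≤ ⊤)).op).hom s.1 = 0 from s.2)
          rw [map_zero] at h
          refine Eq.trans ?_ h
          show _ = (F.obj.map _ ≫ F.obj.map _) _
          rw [← F.obj.map_comp]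
          rfl)
        exact ⟨t, Subtype.ext ht⟩⟩))
    (fun {F G} φ => by
      ext t
      apply Subtype.ext
      exact ConcreteCategory.congr_hom (NatTrans.congr_app (congrArg (fun z : CohCx.sectSupp U F ⟶ G => z.hom) (kernel.lift_ι _ _ _)) (op (⊤ : Opens X))) t)

/-- The sheaf of sections with support of a flasque sheaf is flasque. -/
lemma isFlasque_sectSupp (U : Opens X) (F : CohTop.Ab X) [TopCat.Sheaf.IsFlasque F] :
    TopCat.Sheaf.IsFlasque ((sectSuppF U).obj F) where
  epi {W V} i := by
    rw [AddCommGrpCat.epi_iff_surjective]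
    intro t
    let ι := kernel.ι (suppEta U F)
    have hs : (F.obj.map (homOfLE (inf_le_left : V.unop ⊓ U ≤ V.unop)).op).hom ((ι.hom.app V).hom t) = 0 :=
      (mem_sectSupp_iff U F V.unop _).1 ⟨t, rfl⟩
    let T : Opens X := V.unop ⊔ (W.unop ⊓ U)
    let cov : Bool → Opens X := fun b => if b then V.unop else W.unop ⊓ U
    let iT : ∀ b, cov b ⟶ T := fun b => homOfLE (by cases b; exacts [le_sup_right, le_sup_left])
    have hcov : T ≤ iSup cov := sup_le (le_iSup cov true) (le_iSup cov false)
    let sf : ∀ b, F.obj.obj (op (cov b)) := fun b =>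
      match b with
      | true => (ι.hom.app V).hom t
      | false => 0
    have hcompat : TopCat.Presheaf.IsCompatible F.obj cov sf := by
      intro a b
      cases a <;> cases b
      · rfl
      · refine (map_zero _).trans ?_
        have h := congrArg (F.obj.map (homOfLE (show cov false ⊓ cov true ≤ V.unop ⊓ U from
          le_inf inf_le_right (inf_le_left.trans inf_le_right))).op).hom hs
        rw [map_zero] at h
        refine h.symm.trans ?_
        show (F.obj.map _ ≫ F.obj.map _) _ = _
        rw [← F.obj.map_comp]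
        rfl
      · refine Eq.trans ?_ (map_zero _).symm
        have h := congrArg (F.obj.map (homOfLE (show cov true ⊓ cov false ≤ V.unop ⊓ U from
          le_inf inf_le_left (inf_le_right.trans inf_le_right))).op).hom hs
        rw [map_zero] at h
        refine Eq.trans ?_ h
        show _ = (F.obj.map _ ≫ F.obj.map _) _
        rw [← F.obj.map_comp]
        rfl
      · rfl
    obtain ⟨g, hg, -⟩ := TopCat.Sheaf.existsUnique_gluing' F cov T iT hcov sf hcompat
    have hT : T ≤ W.unop := sup_le i.unop.le inf_le_left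
    haveI : Epi (F.obj.map (homOfLE hT).op) := TopCat.Presheaf.IsFlasque.epi _
    obtain ⟨s, hs'⟩ := (AddCommGrpCat.epi_iff_surjective (F.obj.map (homOfLE hT).op)).1 inferInstance g
    obtain ⟨t', ht'⟩ := (mem_sectSupp_iff U F W.unop s).2 (by
      refine Eq.trans ?_ (hg false)
      rw [← hs']
      show _ = (F.obj.map _ ≫ F.obj.map _) _
      rw [← F.obj.map_comp]
      rfl)
    refine ⟨t', sectSupp_injective U F V.unop ?_⟩
    refine (ConcreteCategory.congr_hom (ι.hom.naturality i) t').trans ?_
    refine Eq.trans (congrArg (F.obj.map i).hom ht') ?_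
    refine Eq.trans ?_ (hg true)
    rw [← hs']
    show _ = (F.obj.map _ ≫ F.obj.map _) _
    rw [← F.obj.map_comp]
    rfl

lemma isZero_rightDerived_secAb_of_flasque (F : CohTop.Ab X) [TopCat.Sheaf.IsFlasque F] (V : Opens X)
    (q : ℕ) (hq : 0 < q) : IsZero (((secAb (Opens.grothendieckTopology X) V).rightDerived q).obj F) := by
  obtain ⟨k, rfl⟩ := Nat.exists_eq_succ_of_ne_zero hq.ne'
  haveI : Subsingleton (CohTop.HU F (k + 1) V) := CohVanish.subsingleton_of_flasque F V k
  exact (AddCommGrpCat.isZero_of_subsingleton _).of_iso (nonempty_HU_iso F V (k + 1)).some.symm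

end Groth.Agent.SSExist
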