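import Groth.Agent.SSExist.SiteSheaf
import Groth.Agent.TriH.Acyclic
import Groth.Prelude.Def_CohSite
import Groth.Prelude.Def_CohCx
import Groth.Prelude.Def_ToposFin2
import Mathlib.Algebra.Homology.DerivedCategory.Ext.EnoughInjectives
import Mathlib.CategoryTheory.Sites.Adjunction

/-!
# Totally acyclic abelian sheaves
-/

set_option autoImplicit false
set_option linter.style.haveILetI false

open CategoryTheory CategoryTheory.Limits Opposite CategoryTheory.Abelian

namespace Groth.Agent.SSExist

section Class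

universe v v' u u'

variable {A : Type u} [Category.{v} A] [Abelian A] [EnoughInjectives A]
  {B : Type u'} [Category.{v'} B] [Abelian B] (F : A ⥤ B) [F.Additive] [PreservesFiniteLimits F]

/-- A class of objects with exact images of injective cosyzygy sequences consists of acyclic objects. -/
lemma isAcyclicObj_of_class (P : A → Prop)
    (hP : ∀ S : ShortComplex A, S.ShortExact → P S.X₁ → Injective S.X₂ → P S.X₃ ∧ Epi (F.map S.g))
    (X : A) (hX : P X) : TriH.IsAcyclicObj F X := by
  suffices h : ∀ (i : ℕ) (Y : A), P Y → IsZero ((F.rightDerived (i + 1)).obj Y) by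
    rintro (_ | i) hi
    · exact absurd hi (lt_irrefl 0)
    · exact h i X hX
  intro i
  induction i with
  | zero =>
    intro Y hY
    let S := ShortComplex.mk (Injective.ι Y) (cokernel.π (Injective.ι Y)) (cokernel.condition _)
    have hS : S.ShortExact :=
      { exact := ShortComplex.exact_of_g_is_cokernel _ (cokernelIsCokernel _), mono_f := inferInstanceAs (Mono (Injective.ι Y)) }
    haveI : Injective S.X₂ := inferInstanceAs (Injective (Injective.under Y))
    haveI := (hP S hS hY inferInstance).2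
    have e := F.rightDerivedZeroIsoSelf.hom.naturality S.g
    haveI : Epi (F.rightDerivedZeroIsoSelf.hom.app S.X₂ ≫ F.map S.g) := epi_comp _ _
    haveI : Epi ((F.rightDerived 0).map S.g) := by
      rw [show (F.rightDerived 0).map S.g = (F.rightDerivedZeroIsoSelf.hom.app S.X₂ ≫ F.map S.g) ≫
        F.rightDerivedZeroIsoSelf.inv.app S.X₃ by rw [← e, Category.assoc, Iso.hom_inv_id_app,
          Category.comp_id]]
      infer_instance
    have hδ : (TriH.RDer.derivedLES F).δ S hS 0 1 rfl = 0 := by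
      rw [← cancel_epi ((F.rightDerived 0).map S.g), comp_zero]
      exact (TriH.RDer.derivedLES F).comp_δ S hS 0 1 rfl
    exact ((TriH.RDer.derivedLES F).exact₁ S hS 0 1 rfl).isZero_X₂ hδ
      ((F.isZero_rightDerived_obj_injective_succ 0 S.X₂).eq_of_tgt _ _)
  | succ i ih =>
    intro Y hY
    let S := ShortComplex.mk (Injective.ι Y) (cokernel.π (Injective.ι Y)) (cokernel.condition _)
    have hS : S.ShortExact :=
      { exact := ShortComplex.exact_of_g_is_cokernel _ (cokernelIsCokernel _), mono_f := inferInstanceAs (Mono (Injective.ι Y)) }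
    haveI : Injective S.X₂ := inferInstanceAs (Injective (Injective.under Y))
    exact ((TriH.RDer.derivedLES F).exact₁ S hS (i + 1) (i + 1 + 1) rfl).isZero_X₂
      ((ih S.X₃ (hP S hS hY inferInstance).1).eq_of_src _ _)
      ((F.isZero_rightDerived_obj_injective_succ (i + 1) S.X₂).eq_of_tgt _ _)

end Class

universe u

variable {C : Type u} [SmallCategory C] (J : GrothendieckTopology C)

/-- The free abelian sheaf is left adjoint to the underlying sheaf of sets. -/
noncomputable def freeAbAdj : ToposFin.freeAb J ⊣ sheafCompose J (forget AddCommGrpCat.{u}) :=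
  Sheaf.adjunction J AddCommGrpCat.adj.{u}

/-- The free sheaf on a presheaf of sets is the free sheaf on the associated sheaf. -/
noncomputable def freeShIso :
    (Functor.whiskeringRight Cᵒᵖ (Type u) AddCommGrpCat.{u}).obj AddCommGrpCat.free.{u} ⋙
        presheafToSheaf J AddCommGrpCat.{u} ≅
      presheafToSheaf J (Type u) ⋙ ToposFin.freeAb J :=
  Adjunction.leftAdjointUniq
    (((AddCommGrpCat.adj.{u}.whiskerRight Cᵒᵖ).comp (sheafificationAdjunction J AddCommGrpCat.{u})).ofNatIsoRight
      (NatIso.ofComponents (fun _ => Iso.refl _) (fun _ => by simp; rfl) :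
        sheafToPresheaf J AddCommGrpCat.{u} ⋙ (Functor.whiskeringRight Cᵒᵖ AddCommGrpCat.{u} (Type u)).obj (forget _) ≅
          sheafCompose J (forget AddCommGrpCat.{u}) ⋙ sheafToPresheaf J (Type u)))
    ((sheafificationAdjunction J (Type u)).comp (freeAbAdj J))

variable {J} {F : Sheaf J AddCommGrpCat.{u}}

lemma mono_freeAb_map {Y X : Sheaf J (Type u)} (f : Y ⟶ X) [Mono f] : Mono ((ToposFin.freeAb J).map f) := by
  haveI : Mono f.hom := (sheafToPresheaf J (Type u)).map_mono f
  haveI : ∀ V, Mono ((Functor.whiskerRight f.hom AddCommGrpCat.free.{u}).app V) := fun V => by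
    show Mono (AddCommGrpCat.free.map (f.hom.app V))
    have hf : Function.Injective (f.hom.app V) := (mono_iff_injective _).1 inferInstance
    rw [AddCommGrpCat.mono_iff_injective]
    by_cases h : Nonempty (Y.obj.obj V)
    · obtain ⟨g, hg⟩ := hf.hasLeftInverse
      refine Function.LeftInverse.injective (g := FreeAbelianGroup.map g) fun x => ?_
      refine (FreeAbelianGroup.map_comp_apply (f := f.hom.app V) (g := g) x).symm.trans ?_
      rw [show g ∘ (f.hom.app V) = id from funext hg]
      exact FreeAbelianGroup.map_id_apply x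
    · haveI : IsEmpty (Y.obj.obj V) := not_nonempty_iff.1 h
      exact fun a b _ => Subsingleton.elim (α := FreeAbelianGroup (Y.obj.obj V)) a b
  haveI : Mono (Functor.whiskerRight f.hom AddCommGrpCat.free.{u}) := NatTrans.mono_of_mono_app _
  exact (presheafToSheaf J AddCommGrpCat.{u}).map_mono (Functor.whiskerRight f.hom AddCommGrpCat.free.{u})

/-- Relative cohomology of a totally acyclic sheaf vanishes. -/
lemma subsingleton_ext_cokernel_freeAb (hF : CohCx.IsTotallyAcyclic F) {Y X : Sheaf J (Type u)} (f : Y ⟶ X) (p : ℕ) :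
    Subsingleton (Ext.{u} (cokernel ((ToposFin.freeAb J).map f)) F (p + 1)) := by
  let adj := freeAbAdj J
  let L := ToposFin.freeAb J
  let A := cokernel (L.map f)
  have hc : f ≫ adj.homEquiv X A (cokernel.π (L.map f)) = f ≫ adj.homEquiv X A 0 := by
    rw [← adj.homEquiv_naturality_left, ← adj.homEquiv_naturality_left, cokernel.condition, comp_zero]
  let d : pushout f f ⟶ (sheafCompose J (forget AddCommGrpCat.{u})).obj A :=
    pushout.desc (adj.homEquiv X A (cokernel.π (L.map f))) (adj.homEquiv X A 0) hc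
  let s : L.obj (pushout f f) ⟶ A := (adj.homEquiv _ _).symm d
  let r : A ⟶ L.obj (pushout f f) := cokernel.desc _ (L.map (pushout.inl f f) - L.map (pushout.inr f f))
    (by rw [Preadditive.comp_sub, ← L.map_comp, ← L.map_comp, pushout.condition, sub_self])
  have h₁ : L.map (pushout.inl f f) ≫ s = cokernel.π (L.map f) := by
    rw [← adj.homEquiv_naturality_left_symm, pushout.inl_desc, Equiv.symm_apply_apply]
  have h₂ : L.map (pushout.inr f f) ≫ s = 0 := by
    rw [← adj.homEquiv_naturality_left_symm, pushout.inr_desc, Equiv.symm_apply_apply]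
  have hrs : r ≫ s = 𝟙 A := by
    refine (cancel_epi (cokernel.π (L.map f))).1 ?_
    rw [← Category.assoc, cokernel.π_desc, Preadditive.sub_comp, h₁, h₂, sub_zero, Category.comp_id]
  haveI : Subsingleton (Ext.{u} (L.obj (pushout f f)) F (p + 1)) := hF (pushout f f) p
  refine subsingleton_of_forall_eq 0 fun x => ?_
  have h0 : (Ext.mk₀ s).comp x (zero_add _) = 0 := Subsingleton.elim _ _
  have h := congrArg (fun y => (Ext.mk₀ r).comp y (zero_add (p + 1))) h0
  rw [Ext.comp_zero, ← Ext.comp_assoc (Ext.mk₀ r) (Ext.mk₀ s) x (zero_add 0) (zero_add _) (by omega),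
    Ext.mk₀_comp_mk₀, hrs, Ext.mk₀_id_comp] at h
  exact h

/-- Morphisms out of free sheaves into totally acyclic sheaves extend along monomorphisms. -/
lemma exists_extend_freeAb (hF : CohCx.IsTotallyAcyclic F) {Y X : Sheaf J (Type u)} (f : Y ⟶ X) [Mono f]
    (φ : (ToposFin.freeAb J).obj Y ⟶ F) :
    ∃ ψ : (ToposFin.freeAb J).obj X ⟶ F, (ToposFin.freeAb J).map f ≫ ψ = φ := by
  let m := (ToposFin.freeAb J).map f
  haveI : Mono m := mono_freeAb_map f
  let S := ShortComplex.mk m (cokernel.π m) (cokernel.condition m)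
  have hS : S.ShortExact :=
    { exact := ShortComplex.exact_of_g_is_cokernel _ (cokernelIsCokernel m), mono_f := inferInstanceAs (Mono m) }
  haveI := subsingleton_ext_cokernel_freeAb hF f 0
  obtain ⟨x, hx⟩ := Ext.contravariant_sequence_exact₁ hS F (Ext.mk₀ φ) (n₁ := 1) (by omega) (Subsingleton.elim _ _)
  obtain ⟨ψ, rfl⟩ := (Ext.mk₀_bijective _ _).2 x
  rw [Ext.mk₀_comp_mk₀] at hx
  exact ⟨ψ, (Ext.mk₀_bijective _ _).1 hx⟩

lemma isTotallyAcyclic_of_injective (I : Sheaf J AddCommGrpCat.{u}) [Injective I] : CohCx.IsTotallyAcyclic I :=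
  fun _ _ => Ext.subsingleton_of_injective _ _ _

lemma isTotallyAcyclic_cokernel {S : ShortComplex (Sheaf J AddCommGrpCat.{u})} (hS : S.ShortExact)
    (h₁ : CohCx.IsTotallyAcyclic S.X₁) (h₂ : CohCx.IsTotallyAcyclic S.X₂) : CohCx.IsTotallyAcyclic S.X₃ := by
  intro K p
  refine subsingleton_of_forall_eq 0 fun x => ?_
  haveI := h₁ K (p + 1)
  haveI := h₂ K p
  obtain ⟨y, rfl⟩ := Ext.covariant_sequence_exact₃ _ hS x rfl (Subsingleton.elim _ _)
  rw [Subsingleton.elim y 0, Ext.zero_comp]

lemma exists_lift_of_subsingleton {S : ShortComplex (Sheaf J AddCommGrpCat.{u})} (hS : S.ShortExact)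
    (A : Sheaf J AddCommGrpCat.{u}) [Subsingleton (Ext.{u} A S.X₁ 1)] (φ : A ⟶ S.X₃) :
    ∃ ψ : A ⟶ S.X₂, ψ ≫ S.g = φ := by
  obtain ⟨y, hy⟩ := Ext.covariant_sequence_exact₃ _ hS (Ext.mk₀ φ) (n₁ := 1) rfl (Subsingleton.elim _ _)
  obtain ⟨ψ, rfl⟩ := (Ext.mk₀_bijective _ _).2 y
  rw [Ext.mk₀_comp_mk₀] at hy
  exact ⟨ψ, (Ext.mk₀_bijective _ _).1 hy⟩

/-- A kernel of an epimorphism of totally acyclic sheaves, surjective on all sheaves of sets, is totally acyclic. -/
lemma isTotallyAcyclic_kernel {S : ShortComplex (Sheaf J AddCommGrpCat.{u})} (hS : S.ShortExact)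
    (h₂ : CohCx.IsTotallyAcyclic S.X₂) (h₃ : CohCx.IsTotallyAcyclic S.X₃)
    (h : ∀ (K : Sheaf J (Type u)) (φ : (ToposFin.freeAb J).obj K ⟶ S.X₃), ∃ ψ, ψ ≫ S.g = φ) :
    CohCx.IsTotallyAcyclic S.X₁ := by
  intro K p
  refine subsingleton_of_forall_eq 0 fun x => ?_
  haveI := h₂ K p
  obtain ⟨y, rfl⟩ := Ext.covariant_sequence_exact₁ _ hS x (Subsingleton.elim _ _) (n₀ := p) rfl
  cases p with
  | zero =>
    obtain ⟨φ, rfl⟩ := (Ext.mk₀_bijective _ _).2 y
    obtain ⟨ψ, rfl⟩ := h K φ
    rw [← Ext.mk₀_comp_mk₀, Ext.comp_assoc_of_second_deg_zero, ShortComplex.ShortExact.comp_extClass,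
      Ext.comp_zero]
  | succ p =>
    haveI := h₃ K p
    rw [Subsingleton.elim y 0, Ext.zero_comp]

/-- Totally acyclic sheaves have no cohomology on objects. -/
lemma subsingleton_ext_freeObj (hF : CohCx.IsTotallyAcyclic F) (U : C) (p : ℕ) :
    Subsingleton (Ext.{u} (freeAb J U) F (p + 1)) := by
  let e := (freeShIso J).app (yoneda.obj U)
  haveI : Subsingleton (Ext.{u} ((presheafToSheaf J (Type u) ⋙ ToposFin.freeAb J).obj (yoneda.obj U)) F (p + 1)) :=
    hF _ p
  refine subsingleton_of_forall_eq 0 fun x => ?_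
  have h0 : (Ext.mk₀ e.inv).comp x (zero_add _) = 0 := Subsingleton.elim _ _
  have h := congrArg (fun y => (Ext.mk₀ e.hom).comp y (zero_add (p + 1))) h0
  rw [Ext.comp_zero, ← Ext.comp_assoc (Ext.mk₀ e.hom) (Ext.mk₀ e.inv) x (zero_add 0) (zero_add _) (by omega),
    Ext.mk₀_comp_mk₀, e.hom_inv_id] at h
  exact (Ext.mk₀_id_comp x).symm.trans h

lemma secAb_map_surjective {S : ShortComplex (Sheaf J AddCommGrpCat.{u})} (hS : S.ShortExact)
    (h₁ : CohCx.IsTotallyAcyclic S.X₁) (U : C) : Function.Surjective ((secAb J U).map S.g) := by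
  intro t
  haveI := subsingleton_ext_freeObj h₁ U 0
  obtain ⟨φ, rfl⟩ := (evalGen_bijective J U S.X₃).2 t
  obtain ⟨ψ, rfl⟩ := exists_lift_of_subsingleton hS _ φ
  exact ⟨evalGen J U S.X₂ ψ, rfl⟩

/-- Totally acyclic sheaves are acyclic for direct images. -/
theorem isAcyclicObj_push {D : Type u} [SmallCategory D] (K : GrothendieckTopology D) (u : D ⥤ C)
    [u.IsContinuous K J] [(CohSite.push J K u).Additive] (hF : CohCx.IsTotallyAcyclic F) :
    TriH.IsAcyclicObj (CohSite.push J K u) F :=
  isAcyclicObj_of_class _ CohCx.IsTotallyAcyclic (fun S hS h₁ hI =>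
    ⟨isTotallyAcyclic_cokernel hS h₁ (haveI := hI; isTotallyAcyclic_of_injective _), by
      haveI : ∀ V, Epi (((CohSite.push J K u).map S.g).hom.app V) := fun V =>
        (AddCommGrpCat.epi_iff_surjective _).2 (secAb_map_surjective hS h₁ (u.obj V.unop))
      haveI : Epi ((CohSite.push J K u).map S.g).hom := NatTrans.epi_of_epi_app _
      exact (sheafToPresheaf K AddCommGrpCat.{u}).epi_of_epi_map
        (inferInstanceAs (Epi ((CohSite.push J K u).map S.g).hom))⟩) F hF

end Groth.Agent.SSExist
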