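import Groth.Agent.SSExist.BotSS
import Groth.Agent.SSExist.TotAc
import Mathlib.CategoryTheory.Sites.IsSheafFor

/-!
# Acyclicity on objects and cohomology of covering sieves
-/

set_option autoImplicit false
set_option linter.style.haveILetI false

open CategoryTheory CategoryTheory.Limits Opposite CategoryTheory.Abelian

namespace Groth.Agent.SSExist

universe u

variable {C : Type u} [SmallCategory C] {J : GrothendieckTopology C}

/-- For a covering sieve, the free sheaf on the sieve is the free sheaf on the base. -/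
noncomputable def freeCoverIso {X : C} {R : Sieve X} (hR : R ∈ J X) :
    (ToposFin.freeAb J).obj ((presheafToSheaf J (Type u)).obj R.functor) ≅ freeAb J X :=
  haveI : IsIso ((presheafToSheaf J (Type u)).map R.functorInclusion) := by
    rw [← GrothendieckTopology.W_iff]
    haveI : Presheaf.IsLocallySurjective J R.functorInclusion := ⟨fun {V} k =>
      J.superset_covering (fun W g hg => ⟨⟨g ≫ k, hg⟩, rfl⟩) (J.pullback_stable k hR)⟩
    haveI : Presheaf.IsLocallyInjective J R.functorInclusion :=
      Presheaf.isLocallyInjective_of_injective J _ fun V => Subtype.val_injective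
    exact J.W_of_isLocallyBijective _
  (ToposFin.freeAb J).mapIso (asIso ((presheafToSheaf J (Type u)).map R.functorInclusion)) ≪≫
    ((freeShIso J).app (yoneda.obj X)).symm

/-- Morphisms out of a covering sieve into a sheaf. -/
noncomputable def coverCoyIso {X : C} {R : Sieve X} (hR : R ∈ J X) :
    toBot J ⋙ preadditiveCoyoneda.obj (op (freeBot R.functor)) ≅ preadditiveCoyoneda.obj (op (freeAb J X)) :=
  botCoyIso J R.functor ≪≫ preadditiveCoyoneda.mapIso (freeCoverIso hR).symm.op

/-- Vanishing of higher cohomology on objects. -/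
def ObjAcyclic (F : Sheaf J AddCommGrpCat.{u}) : Prop :=
  ∀ (X : C) (q : ℕ), Subsingleton (Ext.{u} (freeAb J X) F (q + 1))

/-- Vanishing of higher presheaf cohomology on covering sieves. -/
def SieveAcyclic (F : Sheaf J AddCommGrpCat.{u}) : Prop :=
  ∀ (X : C) (R : Sieve X), R ∈ J X → ∀ q : ℕ, Subsingleton (Ext.{u} (freeBot R.functor) ((toBot J).obj F) (q + 1))

lemma injective_toBot (I : Sheaf J AddCommGrpCat.{u}) [Injective I] : Injective ((toBot J).obj I) :=
  haveI := toBot_preservesInjectiveObjects J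
  (toBot J).injective_obj_of_injective inferInstance

lemma exists_injSES (F : Sheaf J AddCommGrpCat.{u}) : ∃ S : ShortComplex (Sheaf J AddCommGrpCat.{u}),
    S.ShortExact ∧ S.X₁ = F ∧ Injective S.X₂ :=
  ⟨ShortComplex.mk (Injective.ι F) (cokernel.π (Injective.ι F)) (cokernel.condition _),
    { exact := ShortComplex.exact_of_g_is_cokernel _ (cokernelIsCokernel _)
      mono_f := inferInstanceAs (Mono (Injective.ι F)) }, rfl, Injective.injective_under F⟩

lemma toBot_shortExact {S : ShortComplex (Sheaf J AddCommGrpCat.{u})} (hS : S.ShortExact)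
    (h : ∀ V, Function.Surjective (S.g.hom.app V)) : (S.map (toBot J)).ShortExact := by
  haveI : (toBot J).PreservesZeroMorphisms := inferInstance
  let T := S.map (sheafToPresheaf J AddCommGrpCat.{u})
  haveI := hS.mono_f
  haveI : ∀ V, Epi (T.g.app V) := fun V => (AddCommGrpCat.epi_iff_surjective _).2 (h V)
  have hT : T.ShortExact :=
    { exact := hS.exact.map_of_mono_of_preservesKernel _ hS.mono_f inferInstance
      mono_f := (sheafToPresheaf J AddCommGrpCat.{u}).map_mono S.f
      epi_g := NatTrans.epi_of_epi_app _ }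
  exact hT.map_of_exact (sheafBotEquivalence AddCommGrpCat.{u}).inverse

lemma surjective_of_objAcyclic {S : ShortComplex (Sheaf J AddCommGrpCat.{u})} (hS : S.ShortExact)
    (h : ObjAcyclic S.X₁) (V : Cᵒᵖ) : Function.Surjective (S.g.hom.app V) := by
  intro t
  haveI := h V.unop 0
  obtain ⟨φ, rfl⟩ := (evalGen_bijective J V.unop S.X₃).2 t
  obtain ⟨ψ, rfl⟩ := exists_lift_of_subsingleton hS _ φ
  exact ⟨evalGen J V.unop S.X₂ ψ, rfl⟩

lemma objAcyclic_cokernel {S : ShortComplex (Sheaf J AddCommGrpCat.{u})} (hS : S.ShortExact)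
    (h : ObjAcyclic S.X₁) [Injective S.X₂] : ObjAcyclic S.X₃ := fun X q => by
  refine subsingleton_of_forall_eq 0 fun x => ?_
  haveI := h X (q + 1)
  obtain ⟨y, rfl⟩ := Ext.covariant_sequence_exact₃ _ hS x rfl (Subsingleton.elim _ _)
  rw [Ext.eq_zero_of_injective y, Ext.zero_comp]

lemma surjective_map_of_natIso {A : Type (u + 1)} [Category.{u} A] (G G' : A ⥤ AddCommGrpCat.{u}) (e : G ≅ G')
    {X Y : A} (g : X ⟶ Y) (h : Function.Surjective (G'.map g)) : Function.Surjective (G.map g) := by
  intro t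
  obtain ⟨s, hs⟩ := h (e.hom.app Y t)
  exact ⟨e.inv.app X s, (ConcreteCategory.congr_hom (e.inv.naturality g) s).symm.trans
    ((congrArg (e.inv.app Y) hs).trans (ConcreteCategory.congr_hom (e.hom_inv_id_app Y) t))⟩

lemma mk₀_comp_extClass_eq_zero {A : Type (u + 1)} [Category.{u} A] [Abelian A] [HasExt.{u} A] {S : ShortComplex A}
    (hS : S.ShortExact) {X : A} (φ : X ⟶ S.X₃) (h : ∃ ψ, ψ ≫ S.g = φ) :
    (Ext.mk₀ φ).comp hS.extClass (zero_add 1) = 0 := by
  obtain ⟨ψ, rfl⟩ := h
  rw [← Ext.mk₀_comp_mk₀, Ext.comp_assoc_of_second_deg_zero, ShortComplex.ShortExact.comp_extClass, Ext.comp_zero]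

/-- Acyclic sheaves on objects are acyclic on covering sieves. -/
theorem sieveAcyclic_of_objAcyclic {F : Sheaf J AddCommGrpCat.{u}} (hF : ObjAcyclic F) : SieveAcyclic F := by
  intro X R hR q
  induction q generalizing F with
  | zero =>
    obtain ⟨S, hS, rfl, hI⟩ := exists_injSES F
    haveI := hI
    have hT := toBot_shortExact hS (surjective_of_objAcyclic hS hF)
    haveI : Injective (S.map (toBot J)).X₂ := injective_toBot S.X₂
    refine subsingleton_of_forall_eq 0 fun x => ?_
    obtain ⟨y, rfl⟩ := Ext.covariant_sequence_exact₁ _ hT x (Ext.eq_zero_of_injective _) (n₀ := 0) rfl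
    obtain ⟨φ, rfl⟩ := (Ext.mk₀_bijective _ _).2 y
    haveI := hF X 0
    refine mk₀_comp_extClass_eq_zero hT φ ?_
    exact surjective_map_of_natIso _ _ (coverCoyIso (J := J) hR) S.g
      (fun t => exists_lift_of_subsingleton hS _ t) φ
  | succ q ih =>
    obtain ⟨S, hS, rfl, hI⟩ := exists_injSES F
    haveI := hI
    have hT := toBot_shortExact hS (surjective_of_objAcyclic hS hF)
    haveI : Injective (S.map (toBot J)).X₂ := injective_toBot S.X₂
    refine subsingleton_of_forall_eq 0 fun x => ?_
    obtain ⟨y, rfl⟩ := Ext.covariant_sequence_exact₁ _ hT x (Ext.eq_zero_of_injective _) (n₀ := q + 1) rfl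
    haveI : Subsingleton (Ext.{u} (freeBot R.functor) (S.map (toBot J)).X₃ (q + 1)) := ih (objAcyclic_cokernel hS hF)
    rw [Subsingleton.elim y 0, Ext.zero_comp]
    rfl

lemma surjective_of_sieveAcyclic {S : ShortComplex (Sheaf J AddCommGrpCat.{u})} (hS : S.ShortExact)
    (h : ∀ (X : C) (R : Sieve X), R ∈ J X → Subsingleton (Ext.{u} (freeBot R.functor) ((toBot J).obj S.X₁) 1))
    (V : Cᵒᵖ) : Function.Surjective (S.g.hom.app V) := by
  intro t
  haveI := hS.mono_f
  haveI := hS.epi_g
  haveI : Sheaf.IsLocallySurjective S.g := (Sheaf.isLocallySurjective_iff_epi' AddCommGrpCat.{u} S.g).2 inferInstance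
  let R : Sieve V.unop := Presheaf.imageSieve S.g.hom t
  have hR : R ∈ J V.unop := Presheaf.imageSieve_mem J S.g.hom t
  let T := S.map (sheafToPresheaf J AddCommGrpCat.{u})
  haveI : Mono T.f := (sheafToPresheaf J AddCommGrpCat.{u}).map_mono S.f
  let π := cokernel.π T.f
  let j : cokernel T.f ⟶ T.X₃ := cokernel.desc T.f T.g T.zero
  haveI : Mono j := (hS.exact.map_of_mono_of_preservesKernel (sheafToPresheaf J AddCommGrpCat.{u}) hS.mono_f
    inferInstance).mono_cokernelDesc
  have hj : ∀ W, Function.Injective (j.app W) := fun W => (AddCommGrpCat.mono_iff_injective _).1 inferInstance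
  have hπj : ∀ W s, j.app W (π.app W s) = S.g.hom.app W s := fun W s =>
    ConcreteCategory.congr_hom (NatTrans.congr_app (cokernel.π_desc T.f T.g T.zero) W) s
  let val : ∀ W : Cᵒᵖ, R.functor.obj W → (cokernel T.f).obj W := fun W k =>
    π.app W (Classical.choose k.2)
  have hval : ∀ W k, j.app W (val W k) = S.X₃.obj.map k.1.op t := fun W k =>
    (hπj W _).trans (Classical.choose_spec k.2)
  let ξ : R.functor ⋙ AddCommGrpCat.free.{u} ⟶ cokernel T.f :=
    { app := fun W => AddCommGrpCat.ofHom (FreeAbelianGroup.lift (val W))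
      naturality := fun W W' g => by
        refine AddCommGrpCat.hom_ext (FreeAbelianGroup.lift_ext _ _ fun k => hj W' ?_)
        refine (congrArg (j.app W') ((congrArg (FreeAbelianGroup.lift (val W')) (FreeAbelianGroup.lift_apply_of _ k)).trans
          (FreeAbelianGroup.lift_apply_of _ _))).trans ((hval W' _).trans ?_)
        refine Eq.trans ?_ ((congrArg (fun z => j.app W' ((cokernel T.f).map g z))
          (FreeAbelianGroup.lift_apply_of (val W) k)).trans (ConcreteCategory.congr_hom (j.naturality g) _)).symm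
        refine Eq.trans ?_ (congrArg (S.X₃.obj.map g) (hval W k)).symm
        exact ConcreteCategory.congr_hom (S.X₃.obj.map_comp k.1.op g) t }
  let S' := (ShortComplex.mk T.f π (cokernel.condition _)).map (sheafBotEquivalence AddCommGrpCat.{u}).inverse
  haveI : (sheafBotEquivalence (C := C) AddCommGrpCat.{u}).inverse.Additive := { map_add := rfl }
  have hS' : S'.ShortExact :=
    ShortComplex.ShortExact.map_of_exact
      { exact := ShortComplex.exact_of_g_is_cokernel _ (cokernelIsCokernel T.f) } _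
  let adj := sheafificationAdjunction (⊥ : GrothendieckTopology C) AddCommGrpCat.{u}
  haveI : Subsingleton (Ext.{u} (freeBot R.functor) S'.X₁ 1) := h _ R hR
  obtain ⟨ψ, hψ⟩ := exists_lift_of_subsingleton hS' _ ((adj.homEquiv _ S'.X₃).symm ξ)
  let ψ₀ : R.functor ⋙ AddCommGrpCat.free.{u} ⟶ S.X₂.obj := adj.homEquiv _ S'.X₂ ψ
  have hψ₀ : ψ₀ ≫ π = ξ := by
    refine (adj.homEquiv_naturality_right ψ S'.g).symm.trans ?_
    rw [hψ, Equiv.apply_symm_apply]
  let x : Presieve.FamilyOfElements (S.X₂.obj ⋙ forget AddCommGrpCat.{u}) R.arrows := fun W k hk =>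
    ψ₀.app (op W) (FreeAbelianGroup.of (⟨k, hk⟩ : R.functor.obj (op W)))
  have hx : x.Compatible := by
    rw [Presieve.compatible_iff_sieveCompatible]
    intro W W' k g hk
    refine Eq.trans ?_ (ConcreteCategory.congr_hom (ψ₀.naturality g.op) _)
    exact congrArg (ψ₀.app (op W')) (FreeAbelianGroup.lift_apply_of
      (fun z : R.functor.obj (op W) => FreeAbelianGroup.of (R.functor.map g.op z)) ⟨k, hk⟩).symm
  have hsheaf : ∀ G : Sheaf J AddCommGrpCat.{u}, Presieve.IsSheaf J (G.obj ⋙ forget AddCommGrpCat.{u}) := fun G =>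
    (isSheaf_iff_isSheaf_of_type J _).1 ((Presheaf.isSheaf_iff_isSheaf_forget J _ (forget AddCommGrpCat.{u})).1 G.property)
  refine ⟨((hsheaf S.X₂) R hR).amalgamate x hx, ((hsheaf S.X₃).isSeparated R hR).ext fun W k hk => ?_⟩
  refine (ConcreteCategory.congr_hom (S.g.hom.naturality k.op) _).symm.trans ?_
  refine (congrArg (S.g.hom.app (op W)) (((hsheaf S.X₂) R hR).valid_glue hx k hk)).trans ?_
  refine (hπj _ _).symm.trans ?_
  refine (congrArg (j.app (op W)) ((ConcreteCategory.congr_hom (NatTrans.congr_app hψ₀ (op W)) _).trans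
    (FreeAbelianGroup.lift_apply_of _ _))).trans ?_
  exact hval (op W) ⟨k, hk⟩

/-- Sheaves acyclic on covering sieves are acyclic on objects. -/
theorem objAcyclic_of_sieveAcyclic {F : Sheaf J AddCommGrpCat.{u}} (hF : SieveAcyclic F) : ObjAcyclic F := by
  intro X q
  induction q generalizing F with
  | zero =>
    obtain ⟨S, hS, rfl, hI⟩ := exists_injSES F
    haveI := hI
    refine subsingleton_of_forall_eq 0 fun x => ?_
    obtain ⟨y, rfl⟩ := Ext.covariant_sequence_exact₁ _ hS x (Ext.eq_zero_of_injective _) (n₀ := 0) rfl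
    obtain ⟨φ, rfl⟩ := (Ext.mk₀_bijective _ _).2 y
    obtain ⟨s, hs⟩ := surjective_of_sieveAcyclic hS (fun X R hR => hF X R hR 0) (op X) (evalGen J X S.X₃ φ)
    obtain ⟨ψ, rfl⟩ := (evalGen_bijective J X S.X₂).2 s
    have : φ = ψ ≫ S.g := (evalGen_bijective J X S.X₃).1 hs.symm
    subst this
    rw [← Ext.mk₀_comp_mk₀, Ext.comp_assoc_of_second_deg_zero, ShortComplex.ShortExact.comp_extClass,
      Ext.comp_zero]
  | succ q ih =>
    obtain ⟨S, hS, rfl, hI⟩ := exists_injSES F
    haveI := hI
    have hsur := surjective_of_sieveAcyclic hS (fun X R hR => hF X R hR 0)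
    have hT := toBot_shortExact hS hsur
    haveI : Injective (S.map (toBot J)).X₂ := injective_toBot S.X₂
    have hQ : SieveAcyclic S.X₃ := fun X R hR p => by
      refine subsingleton_of_forall_eq 0 fun z => ?_
      haveI : Subsingleton (Ext.{u} (freeBot R.functor) (S.map (toBot J)).X₁ (p + 1 + 1)) := hF X R hR (p + 1)
      obtain ⟨w, rfl⟩ := Ext.covariant_sequence_exact₃ (freeBot R.functor) hT z rfl (Subsingleton.elim _ _)
      rw [Ext.eq_zero_of_injective w, Ext.zero_comp]
      rfl
    refine subsingleton_of_forall_eq 0 fun x => ?_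
    obtain ⟨y, rfl⟩ := Ext.covariant_sequence_exact₁ _ hS x (Ext.eq_zero_of_injective _) (n₀ := q + 1) rfl
    haveI := ih hQ
    rw [Subsingleton.elim y 0, Ext.zero_comp]

end Groth.Agent.SSExist
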