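import Groth.Agent.SSExist.CechSieve
import Groth.Agent.SSExist.SieveAcyclic

/-!
# Čech cohomology and cohomology on sites with fibre products
-/

set_option autoImplicit false
set_option linter.style.haveILetI false

open CategoryTheory CategoryTheory.Limits Opposite CategoryTheory.Abelian

namespace Groth.Agent.SSExist

section Class

universe v v' u u'

variable {A : Type u} [Category.{v} A] [Abelian A] [HasInjectiveResolutions A]
  {B : Type u'} [Category.{v'} B] [Abelian B] (Φ : A ⥤ CochainComplex B ℕ) [Φ.Additive]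

/-- Cohomology of complexes computes derived functors on a class of objects. -/
theorem nonempty_rightDerived_hZero_iso_of_class [PreservesFiniteLimits (hZero Φ)]
    (hinj : ∀ I : A, Injective I → ∀ n, IsZero ((Φ.obj I).homology (n + 1))) (P : A → Prop)
    (hP : ∀ S : ShortComplex A, S.ShortExact → P S.X₁ → Injective S.X₂ → P S.X₃ ∧ (S.map Φ).ShortExact)
    (n : ℕ) (X : A) (hX : P X) :
    Nonempty (((hZero Φ).rightDerived n).obj X ≅ (Φ.obj X).homology n) := by
  haveI := TriH.FinDim.enoughInjectives_of_hasInjectiveResolutions (A := A)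
  cases n with
  | zero => exact ⟨(hZero Φ).rightDerivedZeroIsoSelf.app X⟩
  | succ n =>
    induction n generalizing X with
    | zero =>
      let S := ShortComplex.mk (Injective.ι X) (cokernel.π (Injective.ι X)) (cokernel.condition _)
      have hS : S.ShortExact :=
        { exact := ShortComplex.exact_of_g_is_cokernel _ (cokernelIsCokernel _)
          mono_f := inferInstanceAs (Mono (Injective.ι X)) }
      have hI : Injective S.X₂ := inferInstanceAs (Injective (Injective.under X))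
      have hT := (hP S hS hX hI).2
      let Δ := TriH.RDer.derivedLES (hZero Φ)
      haveI : Epi (Δ.δ S hS 0 1 rfl) := (Δ.exact₁ S hS 0 1 rfl).epi_f
        ((haveI := hI; (hZero Φ).isZero_rightDerived_obj_injective_succ 0 S.X₂).eq_of_tgt _ _)
      haveI : Epi (hT.δ 0 1 rfl) := (hT.homology_exact₁ 0 1 rfl).epi_f
        ((hinj S.X₂ hI 0).eq_of_tgt _ _)
      exact ⟨IsColimit.coconePointUniqueUpToIso (Δ.exact₃ S hS 0 1 rfl).gIsCokernel (cokernelIsCokernel _) ≪≫
        cokernel.mapIso _ _ ((hZero Φ).rightDerivedZeroIsoSelf.app S.X₂) ((hZero Φ).rightDerivedZeroIsoSelf.app S.X₃)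
          ((hZero Φ).rightDerivedZeroIsoSelf.hom.naturality S.g) ≪≫
        IsColimit.coconePointUniqueUpToIso (cokernelIsCokernel _) (hT.homology_exact₃ 0 1 rfl).gIsCokernel⟩
    | succ m ih =>
      let S := ShortComplex.mk (Injective.ι X) (cokernel.π (Injective.ι X)) (cokernel.condition _)
      have hS : S.ShortExact :=
        { exact := ShortComplex.exact_of_g_is_cokernel _ (cokernelIsCokernel _)
          mono_f := inferInstanceAs (Mono (Injective.ι X)) }
      have hI : Injective S.X₂ := inferInstanceAs (Injective (Injective.under X))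
      have hT := (hP S hS hX hI).2
      let Δ := TriH.RDer.derivedLES (hZero Φ)
      haveI : Epi (Δ.δ S hS (m + 1) (m + 1 + 1) rfl) := (Δ.exact₁ S hS (m + 1) (m + 1 + 1) rfl).epi_f
        ((haveI := hI; (hZero Φ).isZero_rightDerived_obj_injective_succ (m + 1) S.X₂).eq_of_tgt _ _)
      haveI : Mono (Δ.δ S hS (m + 1) (m + 1 + 1) rfl) := (Δ.exact₃ S hS (m + 1) (m + 1 + 1) rfl).mono_g
        ((haveI := hI; (hZero Φ).isZero_rightDerived_obj_injective_succ m S.X₂).eq_of_src _ _)
      haveI : Epi (hT.δ (m + 1) (m + 1 + 1) rfl) := (hT.homology_exact₁ (m + 1) (m + 1 + 1) rfl).epi_f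
        ((hinj S.X₂ hI (m + 1)).eq_of_tgt _ _)
      haveI : Mono (hT.δ (m + 1) (m + 1 + 1) rfl) := (hT.homology_exact₃ (m + 1) (m + 1 + 1) rfl).mono_g
        ((hinj S.X₂ hI m).eq_of_src _ _)
      haveI : IsIso (Δ.δ S hS (m + 1) (m + 1 + 1) rfl) := isIso_of_mono_of_epi _
      have hiso : IsIso (hT.δ (m + 1) (m + 1 + 1) rfl) := isIso_of_mono_of_epi _
      obtain ⟨e⟩ := ih S.X₃ (hP S hS hX hI).1
      exact ⟨(asIso (Δ.δ S hS (m + 1) (m + 1 + 1) rfl)).symm ≪≫ e ≪≫
        @asIso _ _ _ _ (hT.δ (m + 1) (m + 1 + 1) rfl) hiso⟩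

end Class

universe u

variable {C : Type u} [SmallCategory C] [HasPullbacks C] {J : GrothendieckTopology C} {X : C} {ι : Type u}
  (Y : ι → Over X)

/-- The Čech complex of a sheaf. -/
noncomputable abbrev cechJ (J : GrothendieckTopology C) :
    Sheaf J AddCommGrpCat.{u} ⥤ CochainComplex AddCommGrpCat.{u} ℕ :=
  toBot J ⋙ cechBot Y

lemma isZero_cechH_injective (I : Sheaf J AddCommGrpCat.{u}) [Injective I] (n : ℕ) :
    IsZero (CohCx.cechH I.obj Y (n + 1)) := by
  haveI := injective_toBot I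
  exact (isEffaceable_cechBot Y).injective ((toBot J).obj I) inferInstance n

/-- Zeroth Čech cohomology of a covering is sections. -/
noncomputable def cechJCoyIso (hY : famSieve Y ∈ J X) :
    hZero (cechJ Y J) ≅ preadditiveCoyoneda.obj (op (freeAb J X)) :=
  Functor.isoWhiskerLeft (toBot J) (cechBotCoyIso Y) ≪≫ coverCoyIso hY

lemma cechJ_shortExact {S : ShortComplex (Sheaf J AddCommGrpCat.{u})} (hS : S.ShortExact)
    (h : ∀ (n : ℕ) (x : Fin (n + 1) → ι), Function.Surjective (S.g.hom.app (op (prodObj Y x).left))) :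
    (S.map (cechJ Y J)).ShortExact := by
  let T := S.map (sheafToPresheaf J AddCommGrpCat.{u})
  refine HomologicalComplex.shortExact_of_degreewise_shortExact _ fun n => ?_
  have hex : ∀ V : Cᵒᵖ, (T.map ((evaluation Cᵒᵖ AddCommGrpCat.{u}).obj V)).Exact ∧
      Function.Injective (S.f.hom.app V) := fun V => by
    haveI := hS.mono_f
    have h1 := hS.exact.map_of_mono_of_preservesKernel (sheafToPresheaf J AddCommGrpCat.{u}) hS.mono_f inferInstance
    haveI : Mono T.f := (sheafToPresheaf J AddCommGrpCat.{u}).map_mono S.f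
    exact ⟨h1.map_of_mono_of_preservesKernel ((evaluation Cᵒᵖ AddCommGrpCat.{u}).obj V) inferInstance inferInstance,
      (AddCommGrpCat.mono_iff_injective _).1 (inferInstanceAs (Mono (T.f.app V)))⟩
  refine { exact := ?_, mono_f := ?_, epi_g := ?_ }
  · rw [ShortComplex.ab_exact_iff]
    intro a ha
    have hv : ∀ x : Fin (n + 1) → ι, ∃ v, S.f.hom.app (op (prodObj Y x).left) v = cproj Y S.X₂.obj n x a := fun x =>
      (ShortComplex.ab_exact_iff _).1 (hex _).1 _
        ((cechF_map_cproj Y S.g.hom n x a).symm.trans ((congrArg (cproj Y S.X₃.obj n x) ha).trans (map_zero _)))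
    choose v hv using hv
    exact ⟨cmk Y S.X₁.obj n v, cproj_ext Y fun x =>
      (cechF_map_cproj Y S.f.hom n x _).trans ((congrArg _ (cproj_cmk Y S.X₁.obj n v x)).trans (hv x))⟩
  · rw [AddCommGrpCat.mono_iff_injective]
    intro a b hab
    refine cproj_ext Y fun x => (hex (op (prodObj Y x).left)).2 ?_
    exact (cechF_map_cproj Y S.f.hom n x a).symm.trans
      ((congrArg (cproj Y S.X₂.obj n x) hab).trans (cechF_map_cproj Y S.f.hom n x b))
  · rw [AddCommGrpCat.epi_iff_surjective]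
    intro c
    choose v hv using fun x : Fin (n + 1) → ι => h n x (cproj Y S.X₃.obj n x c)
    exact ⟨cmk Y S.X₂.obj n v, cproj_ext Y fun x =>
      (cechF_map_cproj Y S.g.hom n x _).trans ((congrArg _ (cproj_cmk Y S.X₂.obj n v x)).trans (hv x))⟩

/-- Čech cohomology for an acyclic covering is cohomology. -/
theorem nonempty_cechH_addEquiv_HU (hY : famSieve Y ∈ J X) (F : Sheaf J AddCommGrpCat.{u})
    (h : ∀ (p : ℕ) (a : Fin (p + 1) → ι) (q : ℕ), Subsingleton (Ext.{u} (freeAb J (prodObj Y a).left) F (q + 1)))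
    (p : ℕ) : Nonempty (CohCx.cechH F.obj Y p ≃+ CohSite.HU F p X) := by
  haveI : PreservesFiniteLimits (hZero (cechJ Y J)) := preservesFiniteLimits_of_natIso (cechJCoyIso Y hY).symm
  obtain ⟨e⟩ := nonempty_rightDerived_hZero_iso_of_class (cechJ Y J)
    (fun I hI n => haveI := hI; isZero_cechH_injective Y I n)
    (fun G => ∀ (p : ℕ) (a : Fin (p + 1) → ι) (q : ℕ), Subsingleton (Ext.{u} (freeAb J (prodObj Y a).left) G (q + 1)))
    (fun S hS h₁ hI => by
      haveI := hI
      refine ⟨fun n x q => subsingleton_of_forall_eq 0 fun z => ?_, cechJ_shortExact Y hS fun n x => ?_⟩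
      · haveI := h₁ n x (q + 1)
        obtain ⟨w, rfl⟩ := Ext.covariant_sequence_exact₃ _ hS z rfl (Subsingleton.elim _ _)
        rw [Ext.eq_zero_of_injective w, Ext.zero_comp]
      · intro t
        haveI := h₁ n x 0
        obtain ⟨φ, rfl⟩ := (evalGen_bijective J (prodObj Y x).left S.X₃).2 t
        obtain ⟨ψ, rfl⟩ := exists_lift_of_subsingleton hS _ φ
        exact ⟨evalGen J (prodObj Y x).left S.X₂ ψ, rfl⟩) p F h
  obtain ⟨e'⟩ := nonempty_ext_iso_rightDerived (hZero (cechJ Y J)) (freeAb J X) (cechJCoyIso Y hY) F p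
  exact ⟨(e.symm ≪≫ e'.symm : CohCx.cechH F.obj Y p ≅ AddCommGrpCat.of (CohSite.HU F p X)).addCommGroupIsoToAddEquiv⟩

/-- Restrictions of a section as a morphism out of the generated sieve. -/
noncomputable def sieveRestr (P : Cᵒᵖ ⥤ AddCommGrpCat.{u}) (t : P.obj (op X)) : sieveFree Y ⟶ P where
  app V := AddCommGrpCat.ofHom (FreeAbelianGroup.lift fun k => P.map k.1.op t)
  naturality V W g := by
    refine AddCommGrpCat.hom_ext (FreeAbelianGroup.lift_ext _ _ fun k => ?_)
    refine ((congrArg (FreeAbelianGroup.lift fun k : (famSieve Y).functor.obj W => P.map k.1.op t)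
      (sieveFree_map_of Y (V := V.unop) g.unop k)).trans (FreeAbelianGroup.lift_apply_of _ _)).trans ?_
    refine Eq.trans ?_ (congrArg (P.map g) (FreeAbelianGroup.lift_apply_of
      (fun k : (famSieve Y).functor.obj V => P.map k.1.op t) k)).symm
    exact ConcreteCategory.congr_hom (P.map_comp k.1.op g) t

/-- Surjectivity of sections from vanishing of first Čech cohomology on a covering with local lifts. -/
theorem exists_preimage_of_cechH_one {S : ShortComplex (Sheaf J AddCommGrpCat.{u})} (hS : S.ShortExact)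
    (hY : famSieve Y ∈ J X) (h1 : IsZero (CohCx.cechH S.X₁.obj Y 1)) (t : S.X₃.obj.obj (op X))
    (hloc : ∀ i, ∃ s, S.g.hom.app (op (Y i).left) s = S.X₃.obj.map (Y i).hom.op t) :
    ∃ s, S.g.hom.app (op X) s = t := by
  let T := S.map (sheafToPresheaf J AddCommGrpCat.{u})
  haveI := hS.mono_f
  haveI hTm : Mono T.f := (sheafToPresheaf J AddCommGrpCat.{u}).map_mono S.f
  have hT := hS.exact.map_of_mono_of_preservesKernel (sheafToPresheaf J AddCommGrpCat.{u}) hS.mono_f inferInstance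
  have hf : ∀ V, Function.Injective (S.f.hom.app V) := fun V =>
    (AddCommGrpCat.mono_iff_injective _).1 (inferInstanceAs (Mono (T.f.app V)))
  choose s hs using hloc
  let c : ((cechF Y).obj S.X₂.obj).X 0 := cmk Y S.X₂.obj 0 fun x => S.X₂.obj.map (Pi.π (Y ∘ x) 0).left.op (s (x 0))
  let r := sieveRestr Y S.X₃.obj t
  have hgc : ((cechF Y).map S.g.hom).f 0 c = sieveToCech Y S.X₃.obj r := cproj_ext Y fun x => by
    refine (cechF_map_cproj Y S.g.hom 0 x c).trans ?_
    refine Eq.trans ?_ ((cproj_sieveToCech Y S.X₃.obj r x).trans (FreeAbelianGroup.lift_apply_of _ _)).symm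
    refine (congrArg _ (cproj_cmk Y S.X₂.obj 0 _ x)).trans ?_
    refine (ConcreteCategory.congr_hom (S.g.hom.naturality _) _).trans ?_
    refine (congrArg (S.X₃.obj.map (Pi.π (Y ∘ x) 0).left.op) (hs (x 0))).trans ?_
    refine (ConcreteCategory.congr_hom (S.X₃.obj.map_comp _ _) t).symm.trans ?_
    exact congrArg (fun k : (prodObj Y x).left ⟶ X => S.X₃.obj.map k.op t) (Over.w (Pi.π (Y ∘ x) 0))
  have hgd : ((cechF Y).map S.g.hom).f 1 (((cechF Y).obj S.X₂.obj).d 0 1 c) = 0 :=
    (ConcreteCategory.congr_hom (((cechF Y).map S.g.hom).comm 0 1) c).symm.trans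
      ((congrArg (((cechF Y).obj S.X₃.obj).d 0 1) hgc).trans (d_sieveToCech Y S.X₃.obj r))
  have hv : ∀ x : Fin 2 → ι, ∃ v, S.f.hom.app (op (prodObj Y x).left) v =
      cproj Y S.X₂.obj 1 x (((cechF Y).obj S.X₂.obj).d 0 1 c) := fun x =>
    (ShortComplex.ab_exact_iff _).1
      (hT.map_of_mono_of_preservesKernel ((evaluation Cᵒᵖ AddCommGrpCat.{u}).obj _) hTm inferInstance) _
      ((cechF_map_cproj Y S.g.hom 1 x _).symm.trans ((congrArg (cproj Y S.X₃.obj 1 x) hgd).trans (map_zero _)))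
  choose v hv using hv
  let b : ((cechF Y).obj S.X₁.obj).X 1 := cmk Y S.X₁.obj 1 v
  have hfb : ((cechF Y).map S.f.hom).f 1 b = ((cechF Y).obj S.X₂.obj).d 0 1 c := cproj_ext Y fun x =>
    (cechF_map_cproj Y S.f.hom 1 x b).trans ((congrArg _ (cproj_cmk Y S.X₁.obj 1 v x)).trans (hv x))
  have hb : ((cechF Y).obj S.X₁.obj).d 1 2 b = 0 := cproj_ext Y fun x => hf _ (by
    refine (cechF_map_cproj Y S.f.hom 2 x _).symm.trans ?_
    rw [map_zero, map_zero]
    refine Eq.trans (congrArg (cproj Y S.X₂.obj 2 x) ?_) (map_zero _)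
    exact (ConcreteCategory.congr_hom (((cechF Y).map S.f.hom).comm 1 2) b).symm.trans
      ((congrArg (((cechF Y).obj S.X₂.obj).d 1 2) hfb).trans
        (ConcreteCategory.congr_hom (((cechF Y).obj S.X₂.obj).d_comp_d 0 1 2) c)))
  have h1' : ((cechF Y).obj S.X₁.obj).ExactAt 1 := (HomologicalComplex.exactAt_iff_isZero_homology _ _).2 h1
  rw [HomologicalComplex.exactAt_iff' _ 0 1 2 (by simp) (by simp), ShortComplex.ab_exact_iff] at h1'
  obtain ⟨a, ha⟩ := h1' b hb
  let c' : ((cechF Y).obj S.X₂.obj).X 0 := c - ((cechF Y).map S.f.hom).f 0 a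
  have hc' : ((cechF Y).obj S.X₂.obj).d 0 1 c' = 0 := by
    refine (map_sub _ _ _).trans (sub_eq_zero.2 ?_)
    exact hfb.symm.trans ((congrArg (((cechF Y).map S.f.hom).f 1) ha.symm).trans
      (ConcreteCategory.congr_hom (((cechF Y).map S.f.hom).comm 0 1) a).symm)
  obtain ⟨ψ, hψ⟩ := sieveToCech_surjective Y hc'
  have hψg : ψ ≫ S.g.hom = r := by
    refine sieveToCech_injective Y S.X₃.obj (cproj_ext Y fun x => ?_)
    refine (cproj_sieveToCech Y S.X₃.obj _ x).trans ?_
    refine (congrArg (S.g.hom.app _) ((cproj_sieveToCech Y S.X₂.obj ψ x).symm.trans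
      (congrArg (cproj Y S.X₂.obj 0 x) hψ))).trans ?_
    refine (congrArg (S.g.hom.app _) (map_sub (cproj Y S.X₂.obj 0 x).hom _ _)).trans ?_
    refine (map_sub _ _ _).trans ?_
    refine Eq.trans ?_ (congrArg (cproj Y S.X₃.obj 0 x) hgc)
    refine Eq.trans ?_ (cechF_map_cproj Y S.g.hom 0 x c).symm
    refine (congrArg (_ - ·) ?_).trans (sub_zero _)
    refine (congrArg (S.g.hom.app _) (cechF_map_cproj Y S.f.hom 0 x a)).trans ?_
    exact ConcreteCategory.congr_hom (NatTrans.congr_app (congrArg (·.hom) S.zero) _) _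
  let fam : Presieve.FamilyOfElements (S.X₂.obj ⋙ forget AddCommGrpCat.{u}) (famSieve Y).arrows := fun W k hk =>
    ψ.app (op W) (FreeAbelianGroup.of (⟨k, hk⟩ : (famSieve Y).functor.obj (op W)))
  have hfam : fam.Compatible := by
    rw [Presieve.compatible_iff_sieveCompatible]
    intro W W' k g hk
    exact (sieveHom_map ψ g ⟨k, hk⟩ _ rfl).symm
  have hsheaf : ∀ G : Sheaf J AddCommGrpCat.{u}, Presieve.IsSheaf J (G.obj ⋙ forget AddCommGrpCat.{u}) := fun G =>
    (isSheaf_iff_isSheaf_of_type J _).1 ((Presheaf.isSheaf_iff_isSheaf_forget J _ (forget AddCommGrpCat.{u})).1 G.property)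
  refine ⟨((hsheaf S.X₂) _ hY).amalgamate fam hfam, ((hsheaf S.X₃).isSeparated _ hY).ext fun W k hk => ?_⟩
  refine (ConcreteCategory.congr_hom (S.g.hom.naturality k.op) _).symm.trans ?_
  refine (congrArg (S.g.hom.app (op W)) (((hsheaf S.X₂) _ hY).valid_glue hfam k hk)).trans ?_
  exact (ConcreteCategory.congr_hom (NatTrans.congr_app hψg (op W)) _).trans (FreeAbelianGroup.lift_apply_of _ _)

lemma surjective_of_cechH_one {S : ShortComplex (Sheaf J AddCommGrpCat.{u})} (hS : S.ShortExact) (U : C)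
    (h : ∀ T ∈ J U, ∃ (κ : Type u) (W : κ → Over U), (∀ i, (T : Sieve U).arrows (W i).hom) ∧
      famSieve W ∈ J U ∧ IsZero (CohCx.cechH S.X₁.obj W 1)) :
    Function.Surjective (S.g.hom.app (op U)) := by
  intro t
  haveI := hS.epi_g
  haveI : Sheaf.IsLocallySurjective S.g := (Sheaf.isLocallySurjective_iff_epi' AddCommGrpCat.{u} S.g).2 inferInstance
  obtain ⟨κ, W, hW, hWJ, hW1⟩ := h (Presheaf.imageSieve S.g.hom t) (Presheaf.imageSieve_mem J S.g.hom t)
  exact exists_preimage_of_cechH_one W hS hWJ hW1 t hW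

/-- Cartan's criterion for a class of coverings. -/
theorem subsingleton_HU_of_cech (B : Set C) (Cov : ∀ (U : C) (κ : Type u), (κ → Over U) → Prop)
    (h1 : ∀ (U : C) (κ : Type u) (W : κ → Over U), Cov U κ W → U ∈ B ∧ famSieve W ∈ J U ∧
      ∀ (p : ℕ) (a : Fin (p + 1) → κ), (∏ᶜ fun k => W (a k)).left ∈ B)
    (h2 : ∀ U ∈ B, ∀ T ∈ J U, ∃ (κ : Type u) (W : κ → Over U), Cov U κ W ∧ ∀ i, (T : Sieve U).arrows (W i).hom)
    (p : ℕ) (F : Sheaf J AddCommGrpCat.{u})
    (h3 : ∀ (U : C) (κ : Type u) (W : κ → Over U), Cov U κ W → ∀ n, IsZero (CohCx.cechH F.obj W (n + 1)))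
    (U : C) (hU : U ∈ B) : Subsingleton (Ext.{u} (freeAb J U) F (p + 1)) := by
  induction p generalizing F U with
  | zero =>
    obtain ⟨S, hS, rfl, hI⟩ := exists_injSES F
    haveI := hI
    refine subsingleton_of_forall_eq 0 fun x => ?_
    obtain ⟨y, rfl⟩ := Ext.covariant_sequence_exact₁ _ hS x (Ext.eq_zero_of_injective _) (n₀ := 0) rfl
    obtain ⟨φ, rfl⟩ := (Ext.mk₀_bijective _ _).2 y
    refine mk₀_comp_extClass_eq_zero hS φ ?_
    obtain ⟨s, hs⟩ := surjective_of_cechH_one hS U (fun T hT => by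
      obtain ⟨κ, W, hW, hWT⟩ := h2 U hU T hT
      exact ⟨κ, W, hWT, (h1 U κ W hW).2.1, h3 U κ W hW 0⟩) (evalGen J U S.X₃ φ)
    obtain ⟨ψ, rfl⟩ := (evalGen_bijective J U S.X₂).2 s
    exact ⟨ψ, (evalGen_bijective J U S.X₃).1 hs⟩
  | succ p ih =>
    obtain ⟨S, hS, rfl, hI⟩ := exists_injSES F
    haveI := hI
    have hsur : ∀ V ∈ B, Function.Surjective (S.g.hom.app (op V)) := fun V hV =>
      surjective_of_cechH_one hS V (fun T hT => by
        obtain ⟨κ, W, hW, hWT⟩ := h2 V hV T hT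
        exact ⟨κ, W, hWT, (h1 V κ W hW).2.1, h3 V κ W hW 0⟩)
    have hQ : ∀ (V : C) (κ : Type u) (W : κ → Over V), Cov V κ W →
        ∀ n, IsZero (CohCx.cechH S.X₃.obj W (n + 1)) := by
      intro V κ W hW n
      have hT := cechJ_shortExact W hS (fun m x => hsur _ ((h1 V κ W hW).2.2 m x))
      exact (hT.homology_exact₃ (n + 1) (n + 1 + 1) rfl).isZero_X₂
        ((isZero_cechH_injective W S.X₂ n).eq_of_src _ _) ((h3 V κ W hW (n + 1)).eq_of_tgt _ _)
    refine subsingleton_of_forall_eq 0 fun x => ?_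
    obtain ⟨y, rfl⟩ := Ext.covariant_sequence_exact₁ _ hS x (Ext.eq_zero_of_injective _) (n₀ := p + 1) rfl
    haveI := ih S.X₃ hQ U hU
    rw [Subsingleton.elim y 0, Ext.zero_comp]

end Groth.Agent.SSExist
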