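import Groth.Agent.TriH.Acyclic
import Groth.Agent.TriH.FinDimDer
import Mathlib.Algebra.Homology.HomologySequence

/-!
# Derived functors of the zeroth cohomology of an exact functor to complexes
-/

set_option autoImplicit false
set_option linter.style.haveILetI false

open CategoryTheory CategoryTheory.Limits

namespace Groth.Agent.SSExist

universe v v' u u'

variable {A : Type u} [Category.{v} A] [Abelian A] {B : Type u'} [Category.{v'} B] [Abelian B]
  (Φ : A ⥤ CochainComplex B ℕ) [Φ.Additive]

/-- Zeroth cohomology of an exact functor to cochain complexes. -/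
noncomputable abbrev hZero : A ⥤ B := Φ ⋙ HomologicalComplex.homologyFunctor B (ComplexShape.up ℕ) 0

/-- Exact functors to complexes and injective acyclicity. -/
structure IsEffaceable : Prop where
  exact (S : ShortComplex A) (hS : S.ShortExact) : (S.map Φ).ShortExact
  injective (I : A) (hI : Injective I) (n : ℕ) : IsZero ((Φ.obj I).homology (n + 1))

lemma preservesFiniteLimits_hZero (h : IsEffaceable Φ) : PreservesFiniteLimits (hZero Φ) := by
  refine (Functor.preservesFiniteLimits_iff_forall_exact_map_and_mono _).2 fun S hS => ⟨?_, ?_⟩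
  · exact (h.exact S hS).homology_exact₂ 0
  · have hT := h.exact S hS
    haveI : Mono (Φ.map S.f) := hT.mono_f
    show Mono (HomologicalComplex.homologyMap (Φ.map S.f) 0)
    have e := HomologicalComplex.homologyπ_naturality (Φ.map S.f) 0
    haveI : IsIso ((Φ.obj S.X₁).homologyπ 0) := inferInstanceAs (IsIso (CochainComplex.isoHomologyπ₀ _).hom)
    haveI : IsIso ((Φ.obj S.X₂).homologyπ 0) := inferInstanceAs (IsIso (CochainComplex.isoHomologyπ₀ _).hom)
    rw [show HomologicalComplex.homologyMap (Φ.map S.f) 0 = inv ((Φ.obj S.X₁).homologyπ 0) ≫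
      HomologicalComplex.cyclesMap (Φ.map S.f) 0 ≫ (Φ.obj S.X₂).homologyπ 0 by rw [← e, IsIso.inv_hom_id_assoc]]
    infer_instance

variable [HasInjectiveResolutions A]

/-- Cohomology of the complexes computes the derived functors of the zeroth cohomology. -/
theorem nonempty_rightDerived_hZero_iso (h : IsEffaceable Φ) (n : ℕ) (X : A) :
    Nonempty (((hZero Φ).rightDerived n).obj X ≅ (Φ.obj X).homology n) := by
  haveI := TriH.FinDim.enoughInjectives_of_hasInjectiveResolutions (A := A)
  haveI := preservesFiniteLimits_hZero Φ h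
  cases n with
  | zero => exact ⟨(hZero Φ).rightDerivedZeroIsoSelf.app X⟩
  | succ n =>
    induction n generalizing X with
    | zero =>
      let S := ShortComplex.mk (Injective.ι X) (cokernel.π (Injective.ι X)) (cokernel.condition _)
      have hS : S.ShortExact :=
        { exact := ShortComplex.exact_of_g_is_cokernel _ (cokernelIsCokernel _)
          mono_f := inferInstanceAs (Mono (Injective.ι X)) }
      have hT := h.exact S hS
      have hI : Injective S.X₂ := inferInstanceAs (Injective (Injective.under X))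
      let Δ := TriH.RDer.derivedLES (hZero Φ)
      haveI : Epi (Δ.δ S hS 0 1 rfl) := (Δ.exact₁ S hS 0 1 rfl).epi_f
        ((haveI := hI; (hZero Φ).isZero_rightDerived_obj_injective_succ 0 S.X₂).eq_of_tgt _ _)
      haveI : Epi (hT.δ 0 1 rfl) := (hT.homology_exact₁ 0 1 rfl).epi_f
        ((h.injective S.X₂ hI 0).eq_of_tgt _ _)
      exact ⟨IsColimit.coconePointUniqueUpToIso (Δ.exact₃ S hS 0 1 rfl).gIsCokernel (cokernelIsCokernel _) ≪≫
        cokernel.mapIso _ _ ((hZero Φ).rightDerivedZeroIsoSelf.app S.X₂) ((hZero Φ).rightDerivedZeroIsoSelf.app S.X₃)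
          ((hZero Φ).rightDerivedZeroIsoSelf.hom.naturality S.g) ≪≫
        IsColimit.coconePointUniqueUpToIso (cokernelIsCokernel _) (hT.homology_exact₃ 0 1 rfl).gIsCokernel⟩
    | succ m ih =>
      let S := ShortComplex.mk (Injective.ι X) (cokernel.π (Injective.ι X)) (cokernel.condition _)
      have hS : S.ShortExact :=
        { exact := ShortComplex.exact_of_g_is_cokernel _ (cokernelIsCokernel _)
          mono_f := inferInstanceAs (Mono (Injective.ι X)) }
      have hT := h.exact S hS
      have hI : Injective S.X₂ := inferInstanceAs (Injective (Injective.under X))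
      let Δ := TriH.RDer.derivedLES (hZero Φ)
      haveI : Epi (Δ.δ S hS (m + 1) (m + 1 + 1) rfl) := (Δ.exact₁ S hS (m + 1) (m + 1 + 1) rfl).epi_f
        ((haveI := hI; (hZero Φ).isZero_rightDerived_obj_injective_succ (m + 1) S.X₂).eq_of_tgt _ _)
      haveI : Mono (Δ.δ S hS (m + 1) (m + 1 + 1) rfl) := (Δ.exact₃ S hS (m + 1) (m + 1 + 1) rfl).mono_g
        ((haveI := hI; (hZero Φ).isZero_rightDerived_obj_injective_succ m S.X₂).eq_of_src _ _)
      haveI : Epi (hT.δ (m + 1) (m + 1 + 1) rfl) := (hT.homology_exact₁ (m + 1) (m + 1 + 1) rfl).epi_f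
        ((h.injective S.X₂ hI (m + 1)).eq_of_tgt _ _)
      haveI : Mono (hT.δ (m + 1) (m + 1 + 1) rfl) := (hT.homology_exact₃ (m + 1) (m + 1 + 1) rfl).mono_g
        ((h.injective S.X₂ hI m).eq_of_src _ _)
      haveI : IsIso (Δ.δ S hS (m + 1) (m + 1 + 1) rfl) := isIso_of_mono_of_epi _
      have hiso : IsIso (hT.δ (m + 1) (m + 1 + 1) rfl) := isIso_of_mono_of_epi _
      obtain ⟨e⟩ := ih S.X₃
      exact ⟨(asIso (Δ.δ S hS (m + 1) (m + 1 + 1) rfl)).symm ≪≫ e ≪≫
        @asIso _ _ _ _ (hT.δ (m + 1) (m + 1 + 1) rfl) hiso⟩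

end Groth.Agent.SSExist
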