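import Mathlib.Algebra.Homology.ShortComplex.Ab
import Mathlib.CategoryTheory.Abelian.Injective.Ext
import Mathlib.CategoryTheory.Abelian.RightDerived
import Mathlib.CategoryTheory.Preadditive.Yoneda.Basic

/-!
# `Ext` is the right derived functor of `Hom`, as functors
-/

set_option autoImplicit false
set_option linter.style.haveILetI false

open CategoryTheory CategoryTheory.Limits Opposite CategoryTheory.Abelian

namespace Groth.Agent.SSExist

universe v u

variable {C : Type u} [Category.{v} C] [Abelian C] [HasExt.{v} C] (X : C)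

/-- The complex of morphisms into an injective resolution. -/
noncomputable abbrev homCx {Y : C} (R : InjectiveResolution Y) : CochainComplex AddCommGrpCat.{v} ℕ :=
  ((preadditiveCoyoneda.obj (op X)).mapHomologicalComplex (ComplexShape.up ℕ)).obj R.cocomplex

variable {X} {Y : C} (R : InjectiveResolution Y) (n : ℕ)

lemma cycles_cond (z : (homCx X R).cycles n) :
    ((homCx X R).iCycles n z : X ⟶ R.cocomplex.X n) ≫ R.cocomplex.d n (n + 1) = 0 :=
  ConcreteCategory.congr_hom ((homCx X R).iCycles_d n (n + 1)) z

lemma extMk_congr {f f' : X ⟶ R.cocomplex.X n} (h : f = f') (hf : f ≫ R.cocomplex.d n (n + 1) = 0)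
    (hf' : f' ≫ R.cocomplex.d n (n + 1) = 0) : R.extMk f (n + 1) rfl hf = R.extMk f' (n + 1) rfl hf' := by
  subst h
  rfl

/-- The Ext class of a cocycle. -/
noncomputable def cyclesToExt : (homCx X R).cycles n ⟶ AddCommGrpCat.of (Ext.{v} X Y n) :=
  AddCommGrpCat.ofHom (AddMonoidHom.mk'
    (fun z => R.extMk ((homCx X R).iCycles n z : X ⟶ R.cocomplex.X n) (n + 1) rfl (cycles_cond R n z))
    (fun a b => by
      rw [R.add_extMk]
      congr 1
      exact map_add ((homCx X R).iCycles n).hom a b))

lemma toCycles_cyclesToExt : (homCx X R).toCycles ((ComplexShape.up ℕ).prev n) n ≫ cyclesToExt R n = 0 := by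
  ext y
  have hy : ((homCx X R).iCycles n ((homCx X R).toCycles _ n y) : X ⟶ R.cocomplex.X n) =
      y ≫ R.cocomplex.d ((ComplexShape.up ℕ).prev n) n :=
    ConcreteCategory.congr_hom ((homCx X R).toCycles_i ((ComplexShape.up ℕ).prev n) n) y
  show R.extMk ((homCx X R).iCycles n ((homCx X R).toCycles _ n y) : X ⟶ R.cocomplex.X n) (n + 1) rfl
    (cycles_cond R n _) = 0
  cases n with
  | zero =>
    have h0 : R.cocomplex.d ((ComplexShape.up ℕ).prev 0) 0 = 0 := R.cocomplex.shape _ _ (by simp)
    simp only [hy, h0, comp_zero]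
    exact R.extMk_zero _ _
  | succ p =>
    rw [R.extMk_eq_zero_iff _ _ _ _ p rfl]
    have e : (ComplexShape.up ℕ).prev (p + 1) = p := by simp
    revert y
    rw [e]
    exact fun y hy => ⟨y, hy.symm⟩

/-- The comparison map from derived `Hom` to `Ext`. -/
noncomputable def homologyToExt : (homCx X R).homology n ⟶ AddCommGrpCat.of (Ext.{v} X Y n) :=
  ((homCx X R).homologyIsCokernel _ n rfl).desc (CokernelCofork.ofπ (cyclesToExt R n) (toCycles_cyclesToExt R n))

lemma π_homologyToExt : (homCx X R).homologyπ n ≫ homologyToExt R n = cyclesToExt (X := X) R n :=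
  ((homCx X R).homologyIsCokernel _ n rfl).fac _ WalkingParallelPair.one

lemma iCycles_injective : Function.Injective ((homCx X R).iCycles n) :=
  (AddCommGrpCat.mono_iff_injective _).1 inferInstance

instance isIso_homologyToExt : IsIso (homologyToExt (X := X) R n) := by
  rw [ConcreteCategory.isIso_iff_bijective]
  constructor
  · refine (injective_iff_map_eq_zero (homologyToExt R n).hom).2 fun a ha => ?_
    obtain ⟨z, rfl⟩ := (AddCommGrpCat.epi_iff_surjective ((homCx X R).homologyπ n)).1 inferInstance a
    have hz : R.extMk ((homCx X R).iCycles n z : X ⟶ R.cocomplex.X n) (n + 1) rfl (cycles_cond R n z) = 0 :=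
      (ConcreteCategory.congr_hom (π_homologyToExt R n) z).symm.trans ha
    cases n with
    | zero =>
      rw [← R.extEquivCohomologyClass.apply_eq_iff_eq, R.extEquivCohomologyClass_extMk,
        R.extEquivCohomologyClass_zero, CochainComplex.HomComplex.CohomologyClass.mk_eq_zero_iff,
        CochainComplex.HomComplex.Cocycle.fromSingleMk_mem_coboundaries_iff _ _ _ _ _ (-1 : ℤ) (by norm_num)] at hz
      obtain ⟨g, hg⟩ := hz
      have : ((homCx X R).iCycles 0 z : X ⟶ R.cocomplex.X 0) = 0 := by
        refine (cancel_mono (f := (R.cochainComplexXIso ((0 : ℕ) : ℤ) 0 rfl).inv)).1 ?_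
        refine hg.symm.trans (Eq.trans ?_ zero_comp.symm)
        rw [(R.cochainComplex.isZero_of_isStrictlyGE 0 (-1) (by norm_num)).eq_of_tgt g 0]
        exact zero_comp
      rw [show z = 0 from iCycles_injective R 0 (this.trans (map_zero ((homCx X R).iCycles 0).hom).symm), map_zero]
    | succ p =>
      obtain ⟨g, hg⟩ := (R.extMk_eq_zero_iff _ _ _ _ p rfl).1 hz
      have hz' : z = (homCx X R).toCycles p (p + 1) g := iCycles_injective R (p + 1)
        (hg.symm.trans (ConcreteCategory.congr_hom ((homCx X R).toCycles_i p (p + 1)) g).symm)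
      rw [hz']
      exact ConcreteCategory.congr_hom ((homCx X R).toCycles_comp_homologyπ p (p + 1)) g
  · intro α
    obtain ⟨f, hf, rfl⟩ := R.extMk_surjective α (n + 1) rfl
    let S := ShortComplex.mk ((homCx X R).iCycles n) ((homCx X R).d n (n + 1)) ((homCx X R).iCycles_d _ _)
    have hS : S.Exact := S.exact_of_f_is_kernel ((homCx X R).cyclesIsKernel n (n + 1) (by simp))
    obtain ⟨z, hz⟩ := (ShortComplex.ab_exact_iff S).1 hS f hf
    refine ⟨(homCx X R).homologyπ n z, (ConcreteCategory.congr_hom (π_homologyToExt R n) z).trans ?_⟩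
    exact extMk_congr R n hz (cycles_cond R n z) hf

variable {R} {Y' : C} {R' : InjectiveResolution Y'} {g : Y ⟶ Y'}

lemma homologyToExt_naturality (φ : InjectiveResolution.Hom R R' g) :
    HomologicalComplex.homologyMap
        (((preadditiveCoyoneda.obj (op X)).mapHomologicalComplex (ComplexShape.up ℕ)).map φ.hom) n ≫
      homologyToExt R' n = homologyToExt R n ≫ (extFunctorObj X n).map g := by
  refine (cancel_epi ((homCx X R).homologyπ n)).1 ?_
  refine ((Category.assoc _ _ _).symm.trans ((congrArg (· ≫ homologyToExt R' n)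
    (HomologicalComplex.homologyπ_naturality _ n)).trans ((Category.assoc _ _ _).trans
      (congrArg (_ ≫ ·) (π_homologyToExt R' n))))).trans ?_
  refine Eq.trans ?_ ((Category.assoc _ _ _).symm.trans (congrArg (· ≫ (extFunctorObj X n).map g)
    (π_homologyToExt R n))).symm
  ext z
  refine Eq.trans ?_ (InjectiveResolution.extMk_comp_mk₀ _ (n + 1) rfl (cycles_cond R n z) φ).symm
  refine extMk_congr R' n ?_ (cycles_cond R' n _) _
  exact ConcreteCategory.congr_hom (HomologicalComplex.cyclesMap_i
    (((preadditiveCoyoneda.obj (op X)).mapHomologicalComplex (ComplexShape.up ℕ)).map φ.hom) n) z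

variable (X) in
/-- `Ext^n(X, -)` is the `n`-th right derived functor of `Hom(X, -)`. -/
noncomputable def rightDerivedExtIso [HasInjectiveResolutions C] :
    (preadditiveCoyoneda.obj (op X)).rightDerived n ≅ extFunctorObj X n :=
  NatIso.ofComponents
    (fun Y => (injectiveResolution Y).isoRightDerivedObj (preadditiveCoyoneda.obj (op X)) n ≪≫
      @asIso _ _ _ _ (homologyToExt (X := X) (injectiveResolution Y) n) (isIso_homologyToExt _ n))
    (fun {Y Y'} g => by
      let φ : InjectiveResolution.Hom (injectiveResolution Y) (injectiveResolution Y') g :=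
        { hom := InjectiveResolution.desc g (injectiveResolution Y') (injectiveResolution Y)
          ι_f_zero_comp_hom_f_zero := (InjectiveResolution.desc_commutes_zero g _ _).trans
            (congrArg (· ≫ _) (CochainComplex.single₀_map_f_zero g).symm) }
      have h := InjectiveResolution.isoRightDerivedObj_hom_naturality g (injectiveResolution Y) (injectiveResolution Y')
        φ.hom (InjectiveResolution.desc_commutes_zero g _ _) (preadditiveCoyoneda.obj (op X)) n
      rw [Iso.trans_hom, Iso.trans_hom, asIso_hom, asIso_hom, ← Category.assoc, h, Category.assoc, Category.assoc]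
      exact congrArg (_ ≫ ·) (homologyToExt_naturality n φ))

end Groth.Agent.SSExist
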