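import Groth.Agent.SSExist.SiteSheaf
import Groth.Agent.SSExist.ExtNatural
import Mathlib.CategoryTheory.Sites.SheafCohomology.Basic
import Mathlib.CategoryTheory.Sites.Abelian
import Mathlib.Algebra.Homology.ShortComplex.PreservesHomology

/-!
# Cohomology presheaves as derived functors of the inclusion in presheaves
-/

set_option autoImplicit false
set_option linter.style.haveILetI false

open CategoryTheory CategoryTheory.Limits Opposite CategoryTheory.Abelian

namespace Groth.Agent.SSExist

universe u

variable {C : Type u} [SmallCategory C] {J : GrothendieckTopology C}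

/-- The map of free abelian sheaves on representables. -/
noncomputable abbrev freeMap {V W : C} (k : W ⟶ V) : freeAb J W ⟶ freeAb J V :=
  (presheafToSheaf J AddCommGrpCat.{u}).map (Functor.whiskerRight (yoneda.map k) AddCommGrpCat.free.{u})

lemma evalGen_freeMap {V W : C} (k : W ⟶ V) (G : Sheaf J AddCommGrpCat.{u}) (φ : freeAb J V ⟶ G) :
    evalGen J W G (freeMap k ≫ φ) = G.obj.map k.op (evalGen J V G φ) := by
  let adj := sheafificationAdjunction J AddCommGrpCat.{u}
  have h1 : ∀ (U : C) (ψ : freeAb J U ⟶ G),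
      evalGen J U G ψ = (adj.homEquiv _ G ψ).app (op U) (FreeAbelianGroup.of (𝟙 U)) := fun U ψ => rfl
  refine (h1 W _).trans ?_
  rw [adj.homEquiv_naturality_left]
  refine (congrArg ((adj.homEquiv _ G φ).app (op W)) (FreeAbelianGroup.lift_apply_of _ (𝟙 W))).trans ?_
  refine Eq.trans ?_ (congrArg (G.obj.map k.op) (h1 V φ)).symm
  refine Eq.trans ?_ (ConcreteCategory.congr_hom ((adj.homEquiv _ G φ).naturality k.op) (FreeAbelianGroup.of (𝟙 V)))
  refine congrArg ((adj.homEquiv _ G φ).app (op W)) ?_
  exact (congrArg FreeAbelianGroup.of ((Category.id_comp k).trans (Category.comp_id k).symm)).trans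
    (FreeAbelianGroup.lift_apply_of (fun g : V ⟶ V => FreeAbelianGroup.of (k ≫ g)) (𝟙 V)).symm

/-- The section as a morphism. -/
noncomputable def ofSec (V : C) (G : Sheaf J AddCommGrpCat.{u}) : G.obj.obj (op V) →+ (freeAb J V ⟶ G) :=
  (AddEquiv.ofBijective (evalGen J V G) (evalGen_bijective J V G)).symm.toAddMonoidHom

lemma evalGen_ofSec (V : C) (G : Sheaf J AddCommGrpCat.{u}) (s : G.obj.obj (op V)) :
    evalGen J V G (ofSec V G s) = s :=
  (AddEquiv.ofBijective (evalGen J V G) (evalGen_bijective J V G)).apply_symm_apply s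

lemma ofSec_eq_iff {V : C} {G : Sheaf J AddCommGrpCat.{u}} (s : G.obj.obj (op V)) (φ : freeAb J V ⟶ G) :
    ofSec V G s = φ ↔ s = evalGen J V G φ :=
  ⟨fun h => h ▸ (evalGen_ofSec V G s).symm, fun h => (evalGen_bijective J V G).1 ((evalGen_ofSec V G s).trans h)⟩

lemma ofSec_comp {V : C} {G G' : Sheaf J AddCommGrpCat.{u}} (s : G.obj.obj (op V)) (g : G ⟶ G') :
    ofSec V G s ≫ g = ofSec V G' (g.hom.app (op V) s) :=
  ((ofSec_eq_iff _ _).2 (congrArg (g.hom.app (op V)) (evalGen_ofSec V G s)).symm).symm

lemma ofSec_map {V W : C} (k : W ⟶ V) {G : Sheaf J AddCommGrpCat.{u}} (s : G.obj.obj (op V)) :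
    freeMap k ≫ ofSec V G s = ofSec W G (G.obj.map k.op s) :=
  ((ofSec_eq_iff _ _).2 ((congrArg (G.obj.map k.op) (evalGen_ofSec V G s)).symm.trans
    (evalGen_freeMap k G _).symm)).symm

variable {M : Sheaf J AddCommGrpCat.{u}} (R : InjectiveResolution M) (n : ℕ)

/-- The complex of presheaves of an injective resolution. -/
noncomputable abbrev preCx : CochainComplex (Cᵒᵖ ⥤ AddCommGrpCat.{u}) ℕ :=
  ((sheafToPresheaf J AddCommGrpCat.{u}).mapHomologicalComplex (ComplexShape.up ℕ)).obj R.cocomplex

lemma preCycles_cond (V : Cᵒᵖ) (z : ((preCx R).cycles n).obj V) :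
    ofSec V.unop (R.cocomplex.X n) (((preCx R).iCycles n).app V z) ≫ R.cocomplex.d n (n + 1) = 0 := by
  rw [ofSec_comp]
  have h : (R.cocomplex.d n (n + 1)).hom.app V (((preCx R).iCycles n).app V z) = 0 :=
    ConcreteCategory.congr_hom (NatTrans.congr_app ((preCx R).iCycles_d n (n + 1)) V) z
  exact (congrArg (ofSec V.unop (R.cocomplex.X (n + 1))) h).trans (map_zero _)

lemma extMk_congr' {X : Sheaf J AddCommGrpCat.{u}} {f f' : X ⟶ R.cocomplex.X n} (h : f = f')
    (hf : f ≫ R.cocomplex.d n (n + 1) = 0) (hf' : f' ≫ R.cocomplex.d n (n + 1) = 0) :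
    R.extMk f (n + 1) rfl hf = R.extMk f' (n + 1) rfl hf' := by
  subst h
  rfl

/-- Cocycles to cohomology classes, naturally in the object. -/
noncomputable def cyclesToCoh : (preCx R).cycles n ⟶ M.cohomologyPresheaf n where
  app V := AddCommGrpCat.ofHom (AddMonoidHom.mk'
    (fun z => R.extMk (ofSec V.unop (R.cocomplex.X n) (((preCx R).iCycles n).app V z)) (n + 1) rfl
      (preCycles_cond R n V z))
    (fun a b => by
      rw [R.add_extMk]
      refine extMk_congr' R n ?_ _ _
      exact (congrArg (ofSec V.unop (R.cocomplex.X n)) (map_add (((preCx R).iCycles n).app V).hom a b)).trans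
        (map_add _ _ _)))
  naturality {V W} k := by
    ext z
    refine Eq.trans ?_ (InjectiveResolution.mk₀_comp_extMk (R := R) _ (n + 1) rfl (preCycles_cond R n V z)
      (freeMap k.unop)).symm
    refine extMk_congr' R n ?_ (preCycles_cond R n W _) _
    exact (congrArg (ofSec W.unop (R.cocomplex.X n))
      (ConcreteCategory.congr_hom (((preCx R).iCycles n).naturality k) z)).trans (ofSec_map k.unop _).symm

lemma toCycles_cyclesToCoh : (preCx R).toCycles ((ComplexShape.up ℕ).prev n) n ≫ cyclesToCoh R n = 0 := by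
  ext V y
  have hy : ofSec V.unop (R.cocomplex.X n) (((preCx R).iCycles n).app V
      (((preCx R).toCycles ((ComplexShape.up ℕ).prev n) n).app V y)) =
      ofSec V.unop _ y ≫ R.cocomplex.d ((ComplexShape.up ℕ).prev n) n := by
    rw [ofSec_comp]
    exact congrArg (ofSec V.unop (R.cocomplex.X n))
      (ConcreteCategory.congr_hom (NatTrans.congr_app ((preCx R).toCycles_i ((ComplexShape.up ℕ).prev n) n) V) y)
  show R.extMk (ofSec V.unop (R.cocomplex.X n) (((preCx R).iCycles n).app V
      (((preCx R).toCycles ((ComplexShape.up ℕ).prev n) n).app V y))) (n + 1) rfl (preCycles_cond R n V _) = 0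
  cases n with
  | zero =>
    have h0 : R.cocomplex.d ((ComplexShape.up ℕ).prev 0) 0 = 0 := R.cocomplex.shape _ _ (by simp)
    simp only [hy, h0, comp_zero]
    exact R.extMk_zero _ _
  | succ p =>
    rw [R.extMk_eq_zero_iff _ _ _ _ p rfl]
    have e : (ComplexShape.up ℕ).prev (p + 1) = p := by simp
    revert y
    rw [e]
    exact fun y hy => ⟨_, hy.symm⟩

/-- The comparison of homology presheaves with cohomology presheaves. -/
noncomputable def homologyToCoh : (preCx R).homology n ⟶ M.cohomologyPresheaf n :=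
  ((preCx R).homologyIsCokernel _ n rfl).desc (CokernelCofork.ofπ (cyclesToCoh R n) (toCycles_cyclesToCoh R n))

lemma π_homologyToCoh : (preCx R).homologyπ n ≫ homologyToCoh R n = cyclesToCoh R n :=
  ((preCx R).homologyIsCokernel _ n rfl).fac _ WalkingParallelPair.one

lemma isIso_homologyToCoh : IsIso (homologyToCoh R n) := by
  haveI hiso : ∀ V, IsIso ((homologyToCoh R n).app V) := by
    intro V
    rw [ConcreteCategory.isIso_iff_bijective]
    have hinj : Function.Injective (((preCx R).iCycles n).app V) :=
      (AddCommGrpCat.mono_iff_injective _).1 inferInstance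
    have hcoh : ∀ z, (homologyToCoh R n).app V (((preCx R).homologyπ n).app V z) = (cyclesToCoh R n).app V z :=
      fun z => ConcreteCategory.congr_hom (NatTrans.congr_app (π_homologyToCoh R n) V) z
    constructor
    · refine (injective_iff_map_eq_zero ((homologyToCoh R n).app V).hom).2 fun a ha => ?_
      obtain ⟨z, rfl⟩ := (AddCommGrpCat.epi_iff_surjective (((preCx R).homologyπ n).app V)).1 inferInstance a
      have hz : R.extMk (ofSec V.unop (R.cocomplex.X n) (((preCx R).iCycles n).app V z)) (n + 1) rfl
          (preCycles_cond R n V z) = 0 := (hcoh z).symm.trans ha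
      cases n with
      | zero =>
        rw [← R.extEquivCohomologyClass.apply_eq_iff_eq, R.extEquivCohomologyClass_extMk,
          R.extEquivCohomologyClass_zero, CochainComplex.HomComplex.CohomologyClass.mk_eq_zero_iff,
          CochainComplex.HomComplex.Cocycle.fromSingleMk_mem_coboundaries_iff _ _ _ _ _ (-1 : ℤ) (by norm_num)] at hz
        obtain ⟨g, hg⟩ := hz
        have h0 : ofSec V.unop (R.cocomplex.X 0) (((preCx R).iCycles 0).app V z) = 0 := by
          refine (cancel_mono (f := (R.cochainComplexXIso ((0 : ℕ) : ℤ) 0 rfl).inv)).1 ?_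
          refine hg.symm.trans (Eq.trans ?_ zero_comp.symm)
          rw [(R.cochainComplex.isZero_of_isStrictlyGE 0 (-1) (by norm_num)).eq_of_tgt g 0]
          exact zero_comp
        have h1 : ((preCx R).iCycles 0).app V z = 0 :=
          ((ofSec_eq_iff _ _).1 h0).trans (map_zero (evalGen J V.unop _))
        rw [show z = 0 from hinj (h1.trans (map_zero (((preCx R).iCycles 0).app V).hom).symm), map_zero]
      | succ p =>
        obtain ⟨g, hg⟩ := (R.extMk_eq_zero_iff _ _ _ _ p rfl).1 hz
        let y : (R.cocomplex.X p).obj.obj V := evalGen J V.unop _ g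
        have hy : ((preCx R).iCycles (p + 1)).app V z = (R.cocomplex.d p (p + 1)).hom.app V y :=
          (ofSec_eq_iff _ _).1 hg.symm
        have hz' : z = ((preCx R).toCycles p (p + 1)).app V y := hinj (hy.trans
          (ConcreteCategory.congr_hom (NatTrans.congr_app ((preCx R).toCycles_i p (p + 1)) V) y).symm)
        rw [hz']
        exact ConcreteCategory.congr_hom (NatTrans.congr_app ((preCx R).toCycles_comp_homologyπ p (p + 1)) V) y
    · intro α
      obtain ⟨f, hf, rfl⟩ := R.extMk_surjective α (n + 1) rfl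
      let s : (R.cocomplex.X n).obj.obj V := evalGen J V.unop _ f
      let S := ShortComplex.mk ((preCx R).iCycles n) ((preCx R).d n (n + 1)) ((preCx R).iCycles_d _ _)
      have hS : S.Exact := S.exact_of_f_is_kernel ((preCx R).cyclesIsKernel n (n + 1) (by simp))
      haveI : Mono S.f := inferInstanceAs (Mono ((preCx R).iCycles n))
      have hS' := hS.map_of_mono_of_preservesKernel ((evaluation Cᵒᵖ AddCommGrpCat.{u}).obj V) inferInstance
        inferInstance
      have hs : (R.cocomplex.d n (n + 1)).hom.app V s = 0 :=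
        (congrArg (evalGen J V.unop _) hf).trans (map_zero _)
      obtain ⟨z, hz⟩ := (ShortComplex.ab_exact_iff _).1 hS' s hs
      refine ⟨((preCx R).homologyπ n).app V z, (hcoh z).trans ?_⟩
      exact extMk_congr' R n ((ofSec_eq_iff _ _).2 hz) (preCycles_cond R n V z) hf
  exact NatIso.isIso_of_isIso_app _

variable (J) in
/-- The derived functors of the inclusion of sheaves in presheaves are the cohomology presheaves. -/
lemma nonempty_rightDerived_sheafToPresheaf_iso (M : Sheaf J AddCommGrpCat.{u}) (n : ℕ) :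
    Nonempty (((sheafToPresheaf J AddCommGrpCat.{u}).rightDerived n).obj M ≅ M.cohomologyPresheaf n) :=
  ⟨(injectiveResolution M).isoRightDerivedObj _ n ≪≫
    @asIso _ _ _ _ (homologyToCoh (injectiveResolution M) n) (isIso_homologyToCoh _ n)⟩

/-- Derived functors of the composite with an exact functor on presheaves. -/
lemma nonempty_rightDerived_of_exact {B : Type (u + 1)} [Category.{u} B] [Abelian B]
    (T : Sheaf J AddCommGrpCat.{u} ⥤ B) [T.Additive] (G : (Cᵒᵖ ⥤ AddCommGrpCat.{u}) ⥤ B) [G.Additive]
    [PreservesFiniteLimits G] [PreservesFiniteColimits G]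
    (e : T ≅ sheafToPresheaf J AddCommGrpCat.{u} ⋙ G) (M : Sheaf J AddCommGrpCat.{u}) (n : ℕ) :
    Nonempty ((T.rightDerived n).obj M ≅ G.obj (M.cohomologyPresheaf n)) := by
  exact ⟨(injectiveResolution M).isoRightDerivedObj T n ≪≫
    (HomologicalComplex.homologyFunctor B (ComplexShape.up ℕ) n).mapIso
      ((NatIso.mapHomologicalComplex e (ComplexShape.up ℕ)).app _) ≪≫
    ((preCx (injectiveResolution M)).sc n).mapHomologyIso G ≪≫
    G.mapIso (@asIso _ _ _ _ (homologyToCoh (injectiveResolution M) n) (isIso_homologyToCoh _ n))⟩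

end Groth.Agent.SSExist

namespace Groth.Agent.SSExist

universe u

variable {C D : Type u} [SmallCategory C] [SmallCategory D] (J : GrothendieckTopology C) (K : GrothendieckTopology D)
  (u : D ⥤ C) [u.IsContinuous K J]

/-- Restriction of presheaves followed by sheafification. -/
noncomputable abbrev restrSheafify : (Cᵒᵖ ⥤ AddCommGrpCat.{u}) ⥤ Sheaf K AddCommGrpCat.{u} :=
  (Functor.whiskeringLeft Dᵒᵖ Cᵒᵖ AddCommGrpCat.{u}).obj u.op ⋙ presheafToSheaf K AddCommGrpCat.{u}

/-- The direct image through presheaves. -/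
noncomputable def pushIso :
    u.sheafPushforwardContinuous AddCommGrpCat.{u} K J ≅ sheafToPresheaf J AddCommGrpCat.{u} ⋙ restrSheafify K u :=
  haveI : IsIso (sheafificationAdjunction K AddCommGrpCat.{u}).counit := inferInstance
  (Functor.rightUnitor _).symm ≪≫
    Functor.isoWhiskerLeft (u.sheafPushforwardContinuous AddCommGrpCat.{u} K J)
      (asIso (sheafificationAdjunction K AddCommGrpCat.{u}).counit).symm

lemma nonempty_rightDerived_push_iso [(u.sheafPushforwardContinuous AddCommGrpCat.{u} K J).Additive]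
    (F : Sheaf J AddCommGrpCat.{u}) (i : ℕ) :
    Nonempty (((u.sheafPushforwardContinuous AddCommGrpCat.{u} K J).rightDerived i).obj F ≅
      (presheafToSheaf K AddCommGrpCat.{u}).obj (u.op ⋙ F.cohomologyPresheaf i)) := by
  haveI : (restrSheafify (C := C) K u).Additive := inferInstance
  haveI : PreservesFiniteLimits (restrSheafify (C := C) K u) := comp_preservesFiniteLimits _ _
  haveI : PreservesFiniteColimits (restrSheafify (C := C) K u) := comp_preservesFiniteColimits _ _
  exact nonempty_rightDerived_of_exact _ (restrSheafify K u) (pushIso J K u) F i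

end Groth.Agent.SSExist
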