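import Groth.Agent.SSExist.CechSite
import Groth.Prelude.Def_CohTop

/-!
# Čech complexes of opens as Čech complexes over the union
-/

set_option autoImplicit false
set_option linter.style.haveILetI false

open CategoryTheory CategoryTheory.Limits Opposite AlgebraicTopology TopologicalSpace

namespace Groth.Agent.SSExist.TopBridge

universe u

section General

variable {D : Type (u)} [Category.{u} D] [HasFiniteProducts D] {ι : Type u} (U : ι → D)
  (P : Dᵒᵖ ⥤ AddCommGrpCat.{u})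

/-- The value on a tuple. -/
noncomputable def gproj (n : ℕ) (x : Fin (n + 1) → ι) :
    ((cechComplexFunctor U).obj P).X n ⟶ P.obj (op (∏ᶜ (U ∘ x))) :=
  Pi.π (fun x : Fin (n + 1) → ι => P.obj (op (∏ᶜ (U ∘ x)))) x

/-- A face map. -/
noncomputable abbrev gface {n : ℕ} (x : Fin (n + 2) → ι) (j : Fin (n + 2)) :
    ∏ᶜ (U ∘ x) ⟶ ∏ᶜ (U ∘ (x ∘ j.succAbove)) :=
  Pi.lift fun a => Pi.π (U ∘ x) (j.succAbove a)

lemma d_gproj (n : ℕ) (x : Fin (n + 2) → ι) :
    ((cechComplexFunctor U).obj P).d n (n + 1) ≫ gproj U P (n + 1) x =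
      ∑ j : Fin (n + 2), (-1 : ℤ) ^ (j : ℕ) • (gproj U P n (x ∘ j.succAbove) ≫ P.map (gface U x j).op) := by
  let Q := (FormalCoproduct.cosimplicialObjectFunctor (FormalCoproduct.mk _ U).cech).obj P
  have h : ((cechComplexFunctor U).obj P).d n (n + 1) = AlternatingCofaceMapComplex.objD Q n := by
    simp [cechComplexFunctor, FormalCoproduct.cochainComplexFunctor, alternatingCofaceMapComplex,
      AlternatingCofaceMapComplex.obj, Q]
  rw [h, AlternatingCofaceMapComplex.objD]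
  refine (Preadditive.sum_comp _ _ _).trans (Finset.sum_congr rfl fun j _ => ?_)
  refine (Preadditive.zsmul_comp _ _ _).trans (congrArg (_ • ·) ?_)
  exact Pi.lift_π (fun i : Fin (n + 2) → ι =>
    Pi.π (fun x : Fin (n + 1) → ι => P.obj (op (∏ᶜ (U ∘ x)))) (i ∘ j.succAbove) ≫ P.map (gface U i j).op) x

end General

variable {X : TopCat.{u}} {ι : Type u} (U : ι → Opens X)

/-- A family of opens over its union. -/
noncomputable abbrev overSup : ι → Over (iSup U) := fun i => Over.mk (homOfLE (le_iSup U i))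

lemma prod_eq {n : ℕ} (x : Fin (n + 1) → ι) : (∏ᶜ (U ∘ x)) = (∏ᶜ (overSup U ∘ x)).left := by
  refine le_antisymm (leOfHom ?_) (leOfHom (Pi.lift fun a => (Pi.π (overSup U ∘ x) a).left))
  let s : Over.mk ((Pi.π (U ∘ x) 0 ≫ homOfLE (le_iSup U (x 0)) : (∏ᶜ (U ∘ x)) ⟶ iSup U)) ⟶ ∏ᶜ (overSup U ∘ x) :=
    Pi.lift fun a => Over.homMk (Pi.π (U ∘ x) a) (Subsingleton.elim _ _)
  exact s.left

lemma iInf_eq {n : ℕ} (x : Fin (n + 1) → ι) : (⨅ k, U (x k)) = (∏ᶜ (overSup U ∘ x)).left :=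
  (le_antisymm (leOfHom (Pi.lift fun a => homOfLE (iInf_le (fun k => U (x k)) a)))
    (le_iInf fun a => leOfHom (Pi.π (U ∘ x) a))).trans (prod_eq U x)

variable (P : (Opens X)ᵒᵖ ⥤ AddCommGrpCat.{u})

/-- The termwise comparison. -/
noncomputable def xIso (n : ℕ) :
    ((cechComplexFunctor (overSup U)).obj ((Over.forget (iSup U)).op ⋙ P)).X n ≅ ((cechComplexFunctor U).obj P).X n :=
  Pi.mapIso fun x : Fin (n + 1) → ι => eqToIso (congrArg (fun V => P.obj (op V)) (prod_eq U x).symm)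

lemma xIso_gproj (n : ℕ) (x : Fin (n + 1) → ι) :
    (xIso U P n).hom ≫ gproj U P n x = gproj (overSup U) ((Over.forget (iSup U)).op ⋙ P) n x ≫
      P.map (eqToHom (prod_eq U x)).op := by
  refine (Pi.map_π (fun x : Fin (n + 1) → ι =>
    (eqToIso (congrArg (fun V => P.obj (op V)) (prod_eq U x).symm)).hom) x).trans ?_
  simp [gproj, eqToHom_map]
  rfl

/-- The comparison of Čech complexes. -/
noncomputable def cxIso :
    (cechComplexFunctor (overSup U)).obj ((Over.forget (iSup U)).op ⋙ P) ≅ (cechComplexFunctor U).obj P :=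
  HomologicalComplex.Hom.isoOfComponents (xIso U P) fun i j hij => by
    obtain rfl : i + 1 = j := hij
    refine Pi.hom_ext _ _ fun x => ?_
    show ((xIso U P i).hom ≫ _) ≫ gproj U P (i + 1) x = (_ ≫ (xIso U P (i + 1)).hom) ≫ gproj U P (i + 1) x
    rw [Category.assoc, Category.assoc, d_gproj, xIso_gproj, ← Category.assoc, d_gproj, Preadditive.comp_sum,
      Preadditive.sum_comp]
    refine Finset.sum_congr rfl fun k _ => ?_
    rw [Preadditive.comp_zsmul, Preadditive.zsmul_comp, ← Category.assoc, xIso_gproj, Category.assoc, Category.assoc]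
    refine congrArg (_ • ·) (congrArg (_ ≫ ·) ?_)
    refine (P.map_comp _ _).symm.trans (Eq.trans (congrArg P.map (Subsingleton.elim _ _)) (P.map_comp _ _))

/-- Čech cohomology of opens as Čech cohomology over the union. -/
noncomputable def cechHIso (p : ℕ) : CohCx.cechH P (overSup U) p ≅ CohTop.cechH P U p :=
  (HomologicalComplex.homologyFunctor _ _ p).mapIso (cxIso U P)

variable {U}

lemma famSieve_mem : famSieve (overSup U) ∈ Opens.grothendieckTopology X (iSup U) := by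
  intro x hx
  obtain ⟨i, hi⟩ := Opens.mem_iSup.1 hx
  exact ⟨U i, homOfLE (le_iSup U i), ⟨U i, 𝟙 _, _, ⟨i⟩, Category.id_comp _⟩, hi⟩

variable (U)

/-- Čech cohomology for an acyclic family of opens. -/
theorem nonempty_addEquiv_HU (F : CohTop.Ab X)
    (h : ∀ (p : ℕ) (a : Fin (p + 1) → ι) (q : ℕ), Subsingleton (CohTop.HU F (q + 1) (iInf fun k => U (a k))))
    (p : ℕ) : Nonempty (CohTop.cechH F.obj U p ≃+ CohTop.HU F p (iSup U)) := by
  obtain ⟨e⟩ := nonempty_cechH_addEquiv_HU (J := Opens.grothendieckTopology X) (overSup U) famSieve_mem F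
    (fun p a q => by
      have := h p a q
      rwa [iInf_eq U a] at this) p
  exact ⟨(cechHIso U F.obj p).symm.addCommGroupIsoToAddEquiv.trans e⟩

/-- Cartan's criterion for opens. -/
theorem subsingleton_HU (F : CohTop.Ab X) (B : Set (Opens X)) (Cov : ∀ (ι : Type u), (ι → Opens X) → Prop)
    (h1 : ∀ (ι : Type u) (V : ι → Opens X), Cov ι V →
      iSup V ∈ B ∧ ∀ (p : ℕ) (a : Fin (p + 1) → ι), (iInf fun k => V (a k)) ∈ B)
    (h2 : ∀ U ∈ B, ∀ (κ : Type u) (W : κ → Opens X), iSup W = U →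
      ∃ (ι : Type u) (V : ι → Opens X), Cov ι V ∧ iSup V = U ∧ ∀ i, ∃ k, V i ≤ W k)
    (h3 : ∀ (ι : Type u) (V : ι → Opens X), Cov ι V → ∀ p : ℕ, IsZero (CohTop.cechH F.obj V (p + 1)))
    (V : Opens X) (hV : V ∈ B) (p : ℕ) : Subsingleton (CohTop.HU F (p + 1) V) := by
  refine subsingleton_HU_of_cech (J := Opens.grothendieckTopology X) B
    (fun V κ Y => ∃ (W : κ → Opens X), Cov κ W ∧ ∃ e : iSup W = V,
      Y = fun i => Over.mk (homOfLE ((le_iSup W i).trans e.le))) ?_ ?_ p F ?_ V hV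
  · rintro V κ Y ⟨W, hW, rfl, rfl⟩
    exact ⟨(h1 κ W hW).1, famSieve_mem, fun q a => (iInf_eq W a) ▸ (h1 κ W hW).2 q a⟩
  · intro V hV T hT
    have hs : (⨆ a : {W : Opens X // ∃ h : W ≤ V, T.arrows (homOfLE h)}, a.1) = V := by
      refine le_antisymm (iSup_le fun a => a.2.1) fun x hx => ?_
      obtain ⟨W, f, hf, hxW⟩ := hT x hx
      exact Opens.mem_iSup.2 ⟨⟨W, leOfHom f, (Subsingleton.elim f (homOfLE (leOfHom f))) ▸ hf⟩, hxW⟩
    obtain ⟨κ, W, hW, e, hle⟩ := h2 V hV _ _ hs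
    refine ⟨κ, _, ⟨W, hW, e, rfl⟩, fun i => ?_⟩
    obtain ⟨⟨W', hW', hT'⟩, hk⟩ := hle i
    have := T.downward_closed hT' (homOfLE hk)
    have key : ∀ {A : Opens X} (f g : A ⟶ V), T.arrows f → T.arrows g := fun f g h => Subsingleton.elim f g ▸ h
    exact key _ _ this
  · rintro V κ Y ⟨W, hW, rfl, rfl⟩ n
    exact IsZero.of_iso (h3 κ W hW n) (cechHIso W F.obj (n + 1))

end Groth.Agent.SSExist.TopBridge
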