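import Groth.Agent.ModGroth.FlatSeq
import Groth.Agent.ModGroth.Basic
import Groth.Agent.TriH.ExtCoefface
import Groth.Prelude.Def_ModSite2

/-!
# Modules extending along monomorphisms with flat cokernel

Injective modules and internal homs into injective modules have this property, and it suffices for
the vanishing of Ext groups out of flat modules and of the cohomology of the underlying abelian
sheaf.
-/

set_option autoImplicit false
set_option linter.style.haveILetI false

open CategoryTheory CategoryTheory.Limits CategoryTheory.Abelian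

namespace Groth.Agent.SSExist

universe w v u

/-- Ext vanishing from an extension property, by killing classes with covers. -/
lemma subsingleton_ext_of_extends {A : Type u} [Category.{v} A] [Abelian A] [HasExt.{w} A] (H : A)
    (P : A → Prop) (hcov : ∀ B : A, ∃ (E : A) (p : E ⟶ B), Epi p ∧ P E)
    (hker : ∀ S : ShortComplex A, S.ShortExact → P S.X₂ → P S.X₃ → P S.X₁)
    (hext : ∀ S : ShortComplex A, S.ShortExact → P S.X₂ → P S.X₃ →
      ∀ φ : S.X₁ ⟶ H, ∃ ψ : S.X₂ ⟶ H, S.f ≫ ψ = φ)
    (n : ℕ) (Q : A) (hQ : P Q) : Subsingleton (Ext.{w} Q H (n + 1)) := by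
  induction n generalizing Q with
  | zero =>
    refine subsingleton_of_forall_eq 0 fun x => ?_
    obtain ⟨E₀, p₀, hp₀, hx⟩ := TriH.exists_epi_comp_eq_zero x
    obtain ⟨E, q, hq, hE⟩ := hcov E₀
    let S := ShortComplex.mk _ _ (kernel.condition (q ≫ p₀))
    have hS : S.ShortExact := { exact := ShortComplex.exact_kernel _ }
    have hx' : (Ext.mk₀ S.g).comp x (zero_add 1) = 0 := by
      show (Ext.mk₀ (q ≫ p₀)).comp x (zero_add 1) = 0
      rw [← Ext.mk₀_comp_mk₀_assoc, hx, Ext.comp_zero]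
    obtain ⟨z, rfl⟩ := Ext.contravariant_sequence_exact₃ hS H x hx' (add_comm 1 0)
    obtain ⟨φ, rfl⟩ := (Ext.mk₀_bijective _ _).2 z
    obtain ⟨ψ, rfl⟩ := hext S hS hE hQ φ
    rw [← Ext.mk₀_comp_mk₀, ShortComplex.ShortExact.extClass_comp_assoc hS]
  | succ n ih =>
    refine subsingleton_of_forall_eq 0 fun x => ?_
    obtain ⟨E₀, p₀, hp₀, hx⟩ := TriH.exists_epi_comp_eq_zero x
    obtain ⟨E, q, hq, hE⟩ := hcov E₀
    let S := ShortComplex.mk _ _ (kernel.condition (q ≫ p₀))
    have hS : S.ShortExact := { exact := ShortComplex.exact_kernel _ }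
    have hx' : (Ext.mk₀ S.g).comp x (zero_add (n + 2)) = 0 := by
      show (Ext.mk₀ (q ≫ p₀)).comp x (zero_add (n + 2)) = 0
      rw [← Ext.mk₀_comp_mk₀_assoc, hx, Ext.comp_zero]
    obtain ⟨z, rfl⟩ := Ext.contravariant_sequence_exact₃ hS H x hx' (add_comm 1 (n + 1))
    haveI := ih S.X₁ (hker S hS hE hQ)
    rw [Subsingleton.elim z 0, Ext.comp_zero]

open Groth.Agent.ModGroth

variable {C : Type u} [SmallCategory C] {J : GrothendieckTopology C} {O : Sheaf J CommRingCat.{u}}

/-- Morphisms into `H` extend along monomorphisms with flat cokernel. -/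
def FlatInj (H : ModSite.Mod O) : Prop :=
  ∀ S : ShortComplex (ModSite.Mod O), S.ShortExact → ModSite.IsFlat S.X₃ →
    ∀ φ : S.X₁ ⟶ H, ∃ ψ : S.X₂ ⟶ H, S.f ≫ ψ = φ

lemma flatInj_of_injective (I : ModSite.Mod O) [Injective I] : FlatInj I := fun S hS _ φ =>
  haveI := hS.mono_f
  ⟨Injective.factorThru φ S.f, Injective.comp_factorThru _ _⟩

lemma flatInj_sheafHom (M I : ModSite.Mod O) [ModSite.HasSheafHom M] [Injective I] :
    FlatInj ((ModSite.sheafHom M).obj I) := fun S hS hF φ => by
  haveI := tR_preservesZeroMorphisms M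
  haveI : Mono ((tR M).map S.f) := (shortExact_map_tR hS hF M).mono_f
  let adj := ModSite.sheafHomAdj M
  refine ⟨adj.homEquiv _ _ (Injective.factorThru ((adj.homEquiv _ _).symm φ) ((tR M).map S.f)), ?_⟩
  rw [← adj.homEquiv_naturality_left, Injective.comp_factorThru, Equiv.apply_symm_apply]

lemma subsingleton_ext_flat [HasExt.{w} (ModSite.Mod O)] {H : ModSite.Mod O} (hH : FlatInj H)
    {Q : ModSite.Mod O} (hQ : ModSite.IsFlat Q) (n : ℕ) : Subsingleton (Ext.{w} Q H (n + 1)) :=
  subsingleton_ext_of_extends H ModSite.IsFlat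
    (fun B => let ⟨E, p, hE, hp⟩ := exists_flat_epi B; ⟨E, p, hp, hE⟩)
    (fun _ hS h₂ h₃ => isFlat_left hS h₂ h₃) (fun S hS _ h₃ φ => hH S hS h₃ φ) n Q hQ

end Groth.Agent.SSExist
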