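import Groth.Agent.SSExist.H0Derived
import Mathlib.AlgebraicTopology.AlternatingFaceMapComplex
import Mathlib.CategoryTheory.Abelian.FunctorCategory
import Mathlib.CategoryTheory.Limits.FunctorCategory.EpiMono

/-!
# Derived functors of the limit of cosimplicial objects
-/

set_option autoImplicit false
set_option linter.style.haveILetI false
set_option backward.isDefEq.respectTransparency false

open CategoryTheory CategoryTheory.Limits AlgebraicTopology Simplicial

namespace Groth.Agent.SSExist.Cosimp

universe v u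

variable {B : Type u} [Category.{v} B] [Abelian B]

/-- The complex of a cosimplicial object. -/
noncomputable def cxF (B : Type u) [Category.{v} B] [Abelian B] : (SimplexCategory ⥤ B) ⥤ CochainComplex B ℕ where
  obj X := AlternatingCofaceMapComplex.obj X
  map f := AlternatingCofaceMapComplex.map f
  map_id X := (alternatingCofaceMapComplex B).map_id X
  map_comp f g := (alternatingCofaceMapComplex B).map_comp f g

/-- Adjoining a new initial vertex. -/
def dec : SimplexCategory ⥤ SimplexCategory where
  obj n := ⦋n.len + 1⦌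
  map {n m} φ := SimplexCategory.Hom.mk (a := ⦋n.len + 1⦌) (b := ⦋m.len + 1⦌)
    { toFun := Fin.cons 0 (fun i => (φ.toOrderHom i).succ)
      monotone' := fun i j hij => by
        induction i using Fin.cases with
        | zero => simp
        | succ i =>
          induction j using Fin.cases with
          | zero => exact absurd hij (by simp)
          | succ j => simpa using φ.toOrderHom.monotone (Fin.succ_le_succ_iff.1 hij) }
  map_id n := by
    ext i : 3
    induction i using Fin.cases <;> simp
  map_comp {n m k} φ ψ := by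
    ext i : 3
    induction i using Fin.cases <;> simp

lemma dec_map_δ {n : ℕ} (i : Fin (n + 2)) : dec.map (SimplexCategory.δ i) = SimplexCategory.δ i.succ := by
  ext j : 3
  induction j using Fin.cases with
  | zero => simp [dec, SimplexCategory.δ]
  | succ j => simp [dec, SimplexCategory.δ]

/-- The natural map to the shifted object. -/
def toDec (X : SimplexCategory ⥤ B) : X ⟶ dec ⋙ X where
  app n := X.map (SimplexCategory.δ (n := n.len) 0)
  naturality {n m} φ := by
    change X.map φ ≫ X.map (SimplexCategory.δ 0) = X.map (SimplexCategory.δ 0) ≫ X.map (dec.map φ)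
    rw [← X.map_comp, ← X.map_comp]
    congr 1

instance mono_toDec (X : SimplexCategory ⥤ B) : Mono (toDec X) := by
  haveI : ∀ n, Mono ((toDec X).app n) := fun n =>
    (SplitMono.mk (X.map (SimplexCategory.σ (n := n.len) 0)) (by
      change X.map _ ≫ X.map _ = _
      rw [← X.map_comp]
      erw [SimplexCategory.δ_comp_σ_self (i := (0 : Fin (n.len + 1)))]
      exact X.map_id _)).mono
  exact NatTrans.mono_of_mono_app _

/-- The complex of a shifted object is acyclic in positive degrees. -/
theorem isZero_homology_dec (X : SimplexCategory ⥤ B) (n : ℕ) :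
    IsZero (((cxF B).obj (dec ⋙ X)).homology (n + 1)) := by
  refine HomologicalComplex.ExactAt.isZero_homology ?_
  rw [HomologicalComplex.exactAt_iff' _ n (n + 1) (n + 1 + 1) (by simp) (by simp),
    ShortComplex.exact_iff_exact_up_to_refinements]
  intro A x hx
  refine ⟨A, 𝟙 A, inferInstance, x ≫ X.map (SimplexCategory.σ (n := n + 1) 0), ?_⟩
  let Y : CosimplicialObject B := X
  let Z : CosimplicialObject B := dec ⋙ X
  have hδ : ∀ {m : ℕ} (i : Fin (m + 2)), Z.δ i = Y.δ i.succ := fun {m} i => congrArg X.map (dec_map_δ i)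
  have hd : ∀ m : ℕ, ((cxF B).obj (dec ⋙ X)).d m (m + 1) =
      ∑ i : Fin (m + 2), (-1 : ℤ) ^ (i : ℕ) • Z.δ i := fun m =>
    CochainComplex.of_d (fun k => (dec ⋙ X).obj ⦋k⦌) (AlternatingCofaceMapComplex.objD (dec ⋙ X)) m
  change x ≫ ((cxF B).obj (dec ⋙ X)).d (n + 1) (n + 1 + 1) = 0 at hx
  change 𝟙 A ≫ x = (x ≫ X.map (SimplexCategory.σ (n := n + 1) 0)) ≫
    ((cxF B).obj (dec ⋙ X)).d n (n + 1)
  rw [hd, Preadditive.comp_sum] at hx
  simp only [Preadditive.comp_zsmul, hδ] at hx
  rw [Category.id_comp, hd, Preadditive.comp_sum]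
  simp only [Preadditive.comp_zsmul, hδ, Category.assoc]
  have h := eq_whisker hx (Y.σ (0 : Fin (n + 3)))
  simp only [Preadditive.sum_comp, Preadditive.zsmul_comp, Category.assoc, zero_comp] at h
  rw [Fin.sum_univ_succ] at h
  simp only [Fin.val_zero, pow_zero, one_smul, Fin.val_succ, pow_succ, mul_neg, mul_one, neg_smul,
    Finset.sum_neg_distrib] at h
  have h0 : Y.δ (Fin.succ (0 : Fin (n + 3))) ≫ Y.σ (0 : Fin (n + 3)) = 𝟙 _ := CosimplicialObject.δ_comp_σ_succ Y
  have hs : ∀ i : Fin (n + 2), Y.δ i.succ.succ ≫ Y.σ (0 : Fin (n + 3)) = Y.σ (0 : Fin (n + 2)) ≫ Y.δ i.succ :=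
    fun i => CosimplicialObject.δ_comp_σ_of_gt Y (i := i.succ) (j := (0 : Fin (n + 2))) (Fin.succ_pos i)
  rw [h0] at h
  simp only [hs] at h
  exact (Category.comp_id x).symm.trans (eq_of_sub_eq_zero ((sub_eq_add_neg _ _).trans h))

instance : (cxF B).Additive where
  map_add {X Y f g} := by
    ext k
    rfl

/-- Cosimplicial objects and their complexes. -/
theorem isEffaceable [EnoughInjectives (SimplexCategory ⥤ B)] :
    IsEffaceable (cxF B) where
  exact S hS := HomologicalComplex.shortExact_of_degreewise_shortExact _ fun k =>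
    hS.map_of_exact ((evaluation SimplexCategory B).obj ⦋k⦌)
  injective I hI n := by
    haveI := hI
    have hcomp : toDec I ≫ Injective.factorThru (𝟙 I) (toDec I) = 𝟙 I := Injective.comp_factorThru _ _
    rw [IsZero.iff_id_eq_zero, ← HomologicalComplex.homologyMap_id,
      ← (cxF B).map_id, ← hcomp, Functor.map_comp, HomologicalComplex.homologyMap_comp]
    exact ((isZero_homology_dec I n).eq_of_tgt (HomologicalComplex.homologyMap
      ((cxF B).map (toDec I)) (n + 1)) 0).symm ▸ zero_comp

variable [HasLimitsOfShape SimplexCategory B]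

lemma d_zero_one (X : SimplexCategory ⥤ B) :
    ((cxF B).obj X).d 0 1 =
      X.map (SimplexCategory.δ (n := 0) 0) - X.map (SimplexCategory.δ (n := 0) 1) := by
  refine (CochainComplex.of_d (fun k => X.obj ⦋k⦌) (AlternatingCofaceMapComplex.objD X) 0).trans ?_
  simp [AlternatingCofaceMapComplex.objD, Fin.sum_univ_two, sub_eq_add_neg, CosimplicialObject.δ]

lemma iCycles_edge (X : SimplexCategory ⥤ B) {n : SimplexCategory} (i j : Fin (n.len + 1)) :
    ((cxF B).obj X).iCycles 0 ≫ X.map (SimplexCategory.const ⦋0⦌ n i) =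
      ((cxF B).obj X).iCycles 0 ≫ X.map (SimplexCategory.const ⦋0⦌ n j) := by
  wlog hij : i ≤ j generalizing i j
  · exact (this j i (le_of_not_ge hij)).symm
  let e : ⦋1⦌ ⟶ n := SimplexCategory.mkHom
    { toFun := ![i, j]
      monotone' := fun a b hab => by fin_cases a <;> fin_cases b <;> simp_all }
  have h : ((cxF B).obj X).iCycles 0 ≫ X.map (SimplexCategory.δ (n := 0) 0) =
      ((cxF B).obj X).iCycles 0 ≫ X.map (SimplexCategory.δ (n := 0) 1) := by
    rw [← sub_eq_zero, ← Preadditive.comp_sub, ← d_zero_one]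
    exact HomologicalComplex.iCycles_d _ _ _
  have e0 : SimplexCategory.const ⦋0⦌ n i = SimplexCategory.δ (n := 0) 1 ≫ e := by
    ext a : 3; fin_cases a; rfl
  have e1 : SimplexCategory.const ⦋0⦌ n j = SimplexCategory.δ (n := 0) 0 ≫ e := by
    ext a : 3; fin_cases a; rfl
  rw [e0, e1, X.map_comp, X.map_comp, reassoc_of% h]

/-- The cone of the degree zero cycles. -/
noncomputable def cyclesCone (X : SimplexCategory ⥤ B) : Cone X where
  pt := ((cxF B).obj X).cycles 0
  π :=
    { app n := ((cxF B).obj X).iCycles 0 ≫ X.map (SimplexCategory.const ⦋0⦌ n 0)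
      naturality {n m} φ := by
        dsimp
        rw [Category.id_comp, Category.assoc, ← X.map_comp, SimplexCategory.const_comp]
        exact iCycles_edge X _ _ }

lemma limitπ_d (X : SimplexCategory ⥤ B) :
    limit.π X ⦋0⦌ ≫ ((cxF B).obj X).d 0 1 = 0 := by
  rw [d_zero_one]
  erw [Preadditive.comp_sub]
  rw [limit.w, limit.w, sub_self]

/-- The limit is the degree zero cycles. -/
noncomputable def limIsoCycles (X : SimplexCategory ⥤ B) :
    limit X ≅ ((cxF B).obj X).cycles 0 where
  hom := HomologicalComplex.liftCycles _ (limit.π X ⦋0⦌) 1 (by simp) (limitπ_d X)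
  inv := limit.lift X (cyclesCone X)
  hom_inv_id := limit.hom_ext fun n => by
    rw [Category.assoc, limit.lift_π]
    dsimp [cyclesCone]
    rw [HomologicalComplex.liftCycles_i_assoc, Category.id_comp]
    exact limit.w X _
  inv_hom_id := by
    rw [← cancel_mono (((cxF B).obj X).iCycles 0), Category.assoc,
      HomologicalComplex.liftCycles_i, limit.lift_π, Category.id_comp]
    dsimp [cyclesCone]
    rw [show SimplexCategory.const ⦋0⦌ ⦋0⦌ 0 = 𝟙 _ from SimplexCategory.const_eq_id, X.map_id]
    exact Category.comp_id _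

/-- The limit is zeroth cohomology. -/
noncomputable def hZeroIso :
    hZero (cxF B) ≅ lim :=
  (NatIso.ofComponents (fun X => limIsoCycles X ≪≫ CochainComplex.isoHomologyπ₀ _) (fun {X Y} φ => by
    change limMap φ ≫ (limIsoCycles Y).hom ≫ ((cxF B).obj Y).homologyπ 0 =
      ((limIsoCycles X).hom ≫ ((cxF B).obj X).homologyπ 0) ≫ HomologicalComplex.homologyMap ((cxF B).map φ) 0
    rw [Category.assoc, HomologicalComplex.homologyπ_naturality, ← Category.assoc, ← Category.assoc]
    refine congrArg (· ≫ ((cxF B).obj Y).homologyπ 0) ?_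
    rw [← cancel_mono (((cxF B).obj Y).iCycles 0)]
    simp only [limIsoCycles, Category.assoc, HomologicalComplex.liftCycles_i, HomologicalComplex.cyclesMap_i,
      HomologicalComplex.liftCycles_i_assoc]
    exact limMap_π φ ⦋0⦌) :
      lim ≅ hZero (cxF B)).symm

/-- Derived functors of the limit of cosimplicial objects. -/
theorem nonempty_rightDerived_lim_iso [EnoughInjectives (SimplexCategory ⥤ B)]
    [(lim : (SimplexCategory ⥤ B) ⥤ B).Additive] (X : SimplexCategory ⥤ B) (n : ℕ) :
    Nonempty (((lim : (SimplexCategory ⥤ B) ⥤ B).rightDerived n).obj X ≅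
      ((cxF B).obj X).homology n) := by
  obtain ⟨e⟩ := nonempty_rightDerived_hZero_iso
    (cxF B) isEffaceable n X
  let R := injectiveResolution X
  exact ⟨R.isoRightDerivedObj lim n ≪≫ (HomologicalComplex.homologyFunctor _ _ n).mapIso
    ((NatIso.mapHomologicalComplex hZeroIso.symm (ComplexShape.up ℕ)).app R.cocomplex) ≪≫
    (R.isoRightDerivedObj _ n).symm ≪≫ e⟩

end Groth.Agent.SSExist.Cosimp
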