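import Groth.Prelude.Def_CohTop
import Mathlib.Topology.Sheaves.SheafCondition.Sites
import Mathlib.CategoryTheory.Functor.Flat
import Mathlib.CategoryTheory.Sites.Pullback
import Mathlib.CategoryTheory.Preadditive.Injective.Preserves
import Mathlib.Algebra.Category.Grp.FilteredColimits

/-!
# Direct images of abelian sheaves on spaces preserve injectives
-/

set_option autoImplicit false
set_option linter.style.haveILetI false

open CategoryTheory CategoryTheory.Limits TopologicalSpace

namespace Groth.Agent.SSExist

universe u

lemma preservesFiniteLimits_pullTop {X Y : TopCat.{u}} (f : X ⟶ Y) : PreservesFiniteLimits (CohTop.pull f) := by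
  haveI : PreservesFiniteLimits ((Opens.map f).op.lan : (_ ⥤ (Opens X)ᵒᵖ ⥤ AddCommGrpCat.{u})) :=
    lan_preservesFiniteLimits_of_flat _ _
  exact Functor.sheafPullbackConstruction.preservesFiniteLimits _ _ _ _

lemma preservesInjectiveObjects_pushTop {X Y : TopCat.{u}} (f : X ⟶ Y) : (CohTop.push f).PreservesInjectiveObjects :=
  haveI := preservesFiniteLimits_pullTop f
  Functor.preservesInjectiveObjects_of_adjunction_of_preservesMonomorphisms
    (TopCat.Sheaf.pullbackPushforwardAdjunction AddCommGrpCat.{u} f)

end Groth.Agent.SSExist
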