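import Groth.Agent.SSExist.PullbackExact
import Groth.Agent.SSExist.SiteSheaf
import Mathlib.Algebra.Homology.DerivedCategory.Ext.ExactSequences
import Mathlib.Algebra.Homology.DerivedCategory.Ext.EnoughInjectives

/-!
# Direct images of totally acyclic sheaves
-/

set_option autoImplicit false
set_option linter.style.haveILetI false

open CategoryTheory CategoryTheory.Limits CategoryTheory.Abelian Opposite

namespace Groth.Agent.SSExist

universe u

variable {C D : Type u} [SmallCategory C] [SmallCategory D] (J : GrothendieckTopology C)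
  (K : GrothendieckTopology D) (u : D ⥤ C) [u.IsContinuous K J] [(CohSite.push J K u).PreservesInjectiveObjects]

omit [(CohSite.push J K u).PreservesInjectiveObjects] in
lemma preservesFiniteLimits_push : PreservesFiniteLimits (CohSite.push J K u) := by
  haveI := (u.sheafAdjunctionContinuous AddCommGrpCat.{u} K J).rightAdjoint_preservesLimits
  infer_instance

/-- One step of dimension shifting. -/
lemma push_step (F : Sheaf J AddCommGrpCat.{u})
    (hF : ∀ (U : C) (q : ℕ), Subsingleton (CohSite.HU F (q + 1) U)) (V : D) :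
    Subsingleton (CohSite.HU ((CohSite.push J K u).obj F) 1 V) ∧
      ∃ G : Sheaf J AddCommGrpCat.{u}, (∀ (U : C) (q : ℕ), Subsingleton (CohSite.HU G (q + 1) U)) ∧
        ∀ q : ℕ, Subsingleton (CohSite.HU ((CohSite.push J K u).obj G) (q + 1) V) →
          Subsingleton (CohSite.HU ((CohSite.push J K u).obj F) (q + 2) V) := by
  let P := CohSite.push J K u
  let I := Injective.under F
  let Sc : ShortComplex (Sheaf J AddCommGrpCat.{u}) := ShortComplex.mk (Injective.ι F) (cokernel.π _) (cokernel.condition _)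
  have hS : Sc.ShortExact :=
    { exact := ShortComplex.exact_of_g_is_cokernel _ (cokernelIsCokernel _) }
  have hG : ∀ (U : C) (q : ℕ), Subsingleton (Ext (freeAb J U) Sc.X₃ (q + 1)) := fun U q =>
    subsingleton_of_forall_eq 0 fun x => by
      haveI : Subsingleton (Ext (freeAb J U) Sc.X₁ (q + 2)) := hF U (q + 1)
      obtain ⟨x₂, rfl⟩ := Ext.covariant_sequence_exact₃ (freeAb J U) hS x (n₁ := q + 2) (by omega)
        (Subsingleton.elim _ _)
      rw [show x₂ = 0 from x₂.eq_zero_of_injective, Ext.zero_comp]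
  have hsurj : ∀ U : C, Function.Surjective (Sc.g.hom.app (op U)) := fun U s => by
    obtain ⟨φ, rfl⟩ := (evalGen_bijective J U Sc.X₃).2 s
    haveI : Subsingleton (Ext (freeAb J U) Sc.X₁ 1) := hF U 0
    obtain ⟨x₂, hx₂⟩ := Ext.covariant_sequence_exact₃ (freeAb J U) hS (Ext.mk₀ φ) (n₁ := 1) rfl
      (Subsingleton.elim _ _)
    obtain ⟨ψ, rfl⟩ := (Ext.mk₀_bijective _ _).2 x₂
    rw [Ext.mk₀_comp_mk₀] at hx₂
    exact ⟨evalGen J U Sc.X₂ ψ, congrArg (evalGen J U Sc.X₃) ((Ext.mk₀_bijective _ _).1 hx₂)⟩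
  haveI : P.Additive := inferInstance
  haveI := preservesFiniteLimits_push J K u
  haveI : Epi (P.map Sc.g) := by
    haveI : Epi ((P.map Sc.g).hom) := by
      haveI : ∀ W : Dᵒᵖ, Epi ((P.map Sc.g).hom.app W) := fun W =>
        (AddCommGrpCat.epi_iff_surjective _).2 (hsurj (u.obj W.unop))
      exact NatTrans.epi_of_epi_app _
    exact (sheafToPresheaf K AddCommGrpCat.{u}).epi_of_epi_map (inferInstanceAs (Epi ((P.map Sc.g).hom)))
  haveI : Mono Sc.f := hS.mono_f
  have hP : (Sc.map P).ShortExact :=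
    { mono_f := P.map_mono Sc.f
      epi_g := inferInstanceAs (Epi (P.map Sc.g))
      exact := (hS.exact.map_of_mono_of_preservesKernel P hS.mono_f inferInstance) }
  haveI : Injective (Sc.map P).X₂ := P.injective_obj_of_injective (inferInstanceAs (Injective (Injective.under F)))
  refine ⟨subsingleton_of_forall_eq 0 fun x => ?_, Sc.X₃, hG, fun q hq => subsingleton_of_forall_eq 0 fun x => ?_⟩
  · obtain ⟨y, rfl⟩ := Ext.covariant_sequence_exact₁ (freeAb K V) hP x (Ext.eq_zero_of_injective _) (n₀ := 0) rfl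
    obtain ⟨φ, rfl⟩ := (Ext.mk₀_bijective _ _).2 y
    obtain ⟨t, ht⟩ := hsurj (u.obj V) (evalGen K V (Sc.map P).X₃ φ)
    obtain ⟨ψ, hψ⟩ := (evalGen_bijective K V (Sc.map P).X₂).2 t
    have : φ = ψ ≫ (Sc.map P).g := (evalGen_bijective K V (Sc.map P).X₃).1 (ht.symm.trans (by rw [← hψ]; rfl))
    rw [this, ← Ext.mk₀_comp_mk₀, Ext.comp_assoc (a₁₂ := 0) (a₂₃ := 1) (a := 1) _ _ _ rfl rfl rfl,
      ShortComplex.ShortExact.comp_extClass, Ext.comp_zero]
    rfl
  · obtain ⟨y, rfl⟩ := Ext.covariant_sequence_exact₁ (freeAb K V) hP x (Ext.eq_zero_of_injective _) (n₀ := q + 1) rfl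
    haveI : Subsingleton (Ext (freeAb K V) (Sc.map P).X₃ (q + 1)) := hq
    rw [Subsingleton.elim y 0, Ext.zero_comp]
    rfl

end Groth.Agent.SSExist
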