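import Groth.Agent.SSExist.TotAc
import Mathlib.CategoryTheory.Sites.Pullback

/-!
# Total acyclicity of direct images and products
-/

set_option autoImplicit false
set_option linter.style.haveILetI false

open CategoryTheory CategoryTheory.Limits Opposite CategoryTheory.Abelian

namespace Groth.Agent.SSExist

universe u

variable {C : Type u} [SmallCategory C] {J : GrothendieckTopology C}

/-- A class closed under suitable cosyzygies consists of totally acyclic sheaves. -/
lemma isTotallyAcyclic_of_class (P : Sheaf J AddCommGrpCat.{u} → Prop)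
    (hP : ∀ X, P X → ∃ S : ShortComplex (Sheaf J AddCommGrpCat.{u}), S.ShortExact ∧ S.X₁ = X ∧
      CohCx.IsTotallyAcyclic S.X₂ ∧ P S.X₃ ∧
      ∀ (K : Sheaf J (Type u)) (φ : (ToposFin.freeAb J).obj K ⟶ S.X₃), ∃ ψ, ψ ≫ S.g = φ)
    (X : Sheaf J AddCommGrpCat.{u}) (hX : P X) : CohCx.IsTotallyAcyclic X := by
  intro K p
  induction p generalizing X with
  | zero =>
    obtain ⟨S, hS, rfl, h₂, -, hl⟩ := hP X hX
    refine subsingleton_of_forall_eq 0 fun x => ?_
    haveI := h₂ K 0
    obtain ⟨y, rfl⟩ := Ext.covariant_sequence_exact₁ _ hS x (Subsingleton.elim _ _) (n₀ := 0) rfl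
    obtain ⟨φ, rfl⟩ := (Ext.mk₀_bijective _ _).2 y
    obtain ⟨ψ, rfl⟩ := hl K φ
    rw [← Ext.mk₀_comp_mk₀, Ext.comp_assoc_of_second_deg_zero, ShortComplex.ShortExact.comp_extClass,
      Ext.comp_zero]
  | succ p ih =>
    obtain ⟨S, hS, rfl, h₂, h₃, -⟩ := hP X hX
    refine subsingleton_of_forall_eq 0 fun x => ?_
    haveI := h₂ K (p + 1)
    obtain ⟨y, rfl⟩ := Ext.covariant_sequence_exact₁ _ hS x (Subsingleton.elim _ _) (n₀ := p + 1) rfl
    haveI := ih S.X₃ h₃
    rw [Subsingleton.elim y 0, Ext.zero_comp]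

lemma injSES_shortExact' (F : Sheaf J AddCommGrpCat.{u}) :
    (ShortComplex.mk (Injective.ι F) (cokernel.π (Injective.ι F)) (cokernel.condition _)).ShortExact where
  exact := ShortComplex.exact_of_g_is_cokernel _ (cokernelIsCokernel _)
  mono_f := inferInstanceAs (Mono (Injective.ι F))

/-- Direct images of totally acyclic sheaves are totally acyclic if those of injective ones are. -/
theorem isTotallyAcyclic_push {D : Type u} [SmallCategory D] (K : GrothendieckTopology D) (u : D ⥤ C)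
    [u.IsContinuous K J] [(CohSite.push J K u).Additive]
    (hI : ∀ I : Sheaf J AddCommGrpCat.{u}, Injective I → CohCx.IsTotallyAcyclic ((CohSite.push J K u).obj I))
    {F : Sheaf J AddCommGrpCat.{u}} (hF : CohCx.IsTotallyAcyclic F) :
    CohCx.IsTotallyAcyclic ((CohSite.push J K u).obj F) := by
  refine isTotallyAcyclic_of_class (fun X => ∃ G, CohCx.IsTotallyAcyclic G ∧ X = (CohSite.push J K u).obj G)
    ?_ _ ⟨F, hF, rfl⟩
  rintro X ⟨G, hG, rfl⟩
  let S := ShortComplex.mk (Injective.ι G) (cokernel.π (Injective.ι G)) (cokernel.condition _)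
  have hS : S.ShortExact := injSES_shortExact' G
  refine ⟨S.map (CohSite.push J K u), TriH.map_shortExact_of_isZero_one _ S hS
      (isAcyclicObj_push (J := J) K u hG 1 one_pos), rfl, hI _ (Injective.injective_under G),
    ⟨S.X₃, isTotallyAcyclic_cokernel hS hG (isTotallyAcyclic_of_injective (Injective.under G)), rfl⟩, ?_⟩
  intro L φ
  let adjK := freeAbAdj K
  let adjJ := freeAbAdj J
  let adjT := u.sheafAdjunctionContinuous (Type u) K J
  let φ₁ : L ⟶ (u.sheafPushforwardContinuous (Type u) K J).obj ((sheafCompose J (forget AddCommGrpCat.{u})).obj S.X₃) :=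
    adjK.homEquiv L _ φ
  let φ' := (adjJ.homEquiv _ _).symm ((adjT.homEquiv _ _).symm φ₁)
  haveI : Subsingleton (Ext.{u} ((ToposFin.freeAb J).obj ((u.sheafPullback (Type u) K J).obj L)) S.X₁ 1) := hG _ 0
  obtain ⟨ψ', hψ⟩ := exists_lift_of_subsingleton hS _ φ'
  let ψ₁ : L ⟶ (sheafCompose K (forget AddCommGrpCat.{u})).obj ((CohSite.push J K u).obj S.X₂) :=
    adjT.homEquiv L _ (adjJ.homEquiv _ _ ψ')
  refine ⟨(adjK.homEquiv L _).symm ψ₁, ?_⟩
  apply (adjK.homEquiv L _).injective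
  rw [Adjunction.homEquiv_naturality_right, Equiv.apply_symm_apply]
  show adjT.homEquiv L _ (adjJ.homEquiv _ _ ψ') ≫
    (u.sheafPushforwardContinuous (Type u) K J).map ((sheafCompose J (forget AddCommGrpCat.{u})).map S.g) = φ₁
  rw [← Adjunction.homEquiv_naturality_right, ← Adjunction.homEquiv_naturality_right, hψ, Equiv.apply_symm_apply,
    Equiv.apply_symm_apply]

/-- Sections surjective implies epimorphism. -/
lemma epi_of_lifts {X Y : Sheaf J AddCommGrpCat.{u}} (g : X ⟶ Y)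
    (h : ∀ (U : C) (φ : freeAb J U ⟶ Y), ∃ ψ, ψ ≫ g = φ) : Epi g := by
  haveI : ∀ V, Epi (g.hom.app V) := fun V => by
    rw [AddCommGrpCat.epi_iff_surjective]
    intro t
    obtain ⟨φ, rfl⟩ := (evalGen_bijective J V.unop Y).2 t
    obtain ⟨ψ, rfl⟩ := h _ φ
    exact ⟨evalGen J V.unop X ψ, rfl⟩
  haveI : Epi g.hom := NatTrans.epi_of_epi_app _
  exact (sheafToPresheaf J AddCommGrpCat.{u}).epi_of_epi_map (inferInstanceAs (Epi g.hom))

/-- Products of totally acyclic sheaves are totally acyclic. -/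
theorem isTotallyAcyclic_piObj {T : Type u} (F : T → Sheaf J AddCommGrpCat.{u})
    (hF : ∀ t, CohCx.IsTotallyAcyclic (F t)) : CohCx.IsTotallyAcyclic (∏ᶜ F) := by
  refine isTotallyAcyclic_of_class
    (fun X => ∃ G : T → Sheaf J AddCommGrpCat.{u}, (∀ t, CohCx.IsTotallyAcyclic (G t)) ∧ X = ∏ᶜ G) ?_ _ ⟨F, hF, rfl⟩
  rintro X ⟨G, hG, rfl⟩
  let Q : T → Sheaf J AddCommGrpCat.{u} := fun t => cokernel (Injective.ι (G t))
  let f : ∏ᶜ G ⟶ ∏ᶜ fun t => Injective.under (G t) := Limits.Pi.map fun t => Injective.ι (G t)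
  let g : (∏ᶜ fun t => Injective.under (G t)) ⟶ ∏ᶜ Q := Limits.Pi.map fun t => cokernel.π (Injective.ι (G t))
  have hfg : f ≫ g = 0 := Limits.Pi.hom_ext _ _ fun t => by simp [f, g]
  let S := ShortComplex.mk f g hfg
  haveI hm : Mono f := inferInstanceAs (Mono (Limits.Pi.map fun t => Injective.ι (G t)))
  have hl : ∀ (A : Sheaf J AddCommGrpCat.{u}), (∀ t, Subsingleton (Ext.{u} A (G t) 1)) →
      ∀ φ : A ⟶ ∏ᶜ Q, ∃ ψ, ψ ≫ g = φ := by
    intro A hA φ
    have h : ∀ t, ∃ ψ : A ⟶ Injective.under (G t), ψ ≫ cokernel.π (Injective.ι (G t)) = φ ≫ Limits.Pi.π Q t :=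
      fun t => haveI := hA t
        exists_lift_of_subsingleton (injSES_shortExact' (G t)) A (φ ≫ Limits.Pi.π Q t)
    choose ψ hψ using h
    refine ⟨Limits.Pi.lift ψ, Limits.Pi.hom_ext _ _ fun t => ?_⟩
    simpa [g] using hψ t
  have hker : IsLimit (KernelFork.ofι f hfg) := KernelFork.IsLimit.ofι' f hfg (fun {W} k hk => by
    have hk' : ∀ t, (k ≫ Limits.Pi.π _ t) ≫ cokernel.π (Injective.ι (G t)) = 0 := fun t => by
      have := hk =≫ Limits.Pi.π Q t
      simpa [g] using this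
    refine ⟨Limits.Pi.lift fun t => Abelian.monoLift (Injective.ι (G t)) _ (hk' t), Limits.Pi.hom_ext _ _ fun t => ?_⟩
    simp [f])
  haveI : Epi S.g := epi_of_lifts g fun U φ => hl _ (fun t => subsingleton_ext_freeObj (hG t) U 0) φ
  have hS : S.ShortExact := { exact := S.exact_of_f_is_kernel hker, mono_f := hm }
  refine ⟨S, hS, rfl, isTotallyAcyclic_of_injective _,
    ⟨Q, fun t => isTotallyAcyclic_cokernel (injSES_shortExact' (G t)) (hG t)
      (isTotallyAcyclic_of_injective (Injective.under (G t))), rfl⟩, fun K φ => hl _ (fun t => hG t K 0) φ⟩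

end Groth.Agent.SSExist
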