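import Groth.Prelude.Def_SpSeq
import Mathlib.Algebra.Homology.SpectralObject.SpectralSequence
import Mathlib.Algebra.Homology.SpectralObject.FirstPage
import Mathlib.Algebra.Homology.SpectralObject.EpiMono
import Mathlib.Data.Int.Interval

/-!
# Convergence of the spectral sequence of a first quadrant spectral object
-/

set_option autoImplicit false
set_option linter.style.haveILetI false

open CategoryTheory CategoryTheory.Limits ComposableArrows

namespace Groth.Agent.SSExist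

universe v u

variable {C : Type u} [Category.{v} C] [Abelian C]

open Abelian SpectralObject

instance subsingleton_hom (f g : ComposableArrows EInt 1) : Subsingleton (f ⟶ g) :=
  ⟨fun a b => ComposableArrows.hom_ext₁ (Subsingleton.elim _ _) (Subsingleton.elim _ _)⟩

variable (Y : Abelian.SpectralObject C EInt)

/-- The transition map of `H^n` between two intervals. -/
noncomputable abbrev tr (n : ℤ) {i j i' j' : EInt} (h : i ≤ j) (h' : i' ≤ j') (hi : i ≤ i') (hj : j ≤ j') :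
    (Y.H n).obj (mk₁ (homOfLE h)) ⟶ (Y.H n).obj (mk₁ (homOfLE h')) :=
  (Y.H n).map (homMk₁ (homOfLE hi) (homOfLE hj) (Subsingleton.elim _ _) : mk₁ (homOfLE h) ⟶ mk₁ (homOfLE h'))

lemma tr_eq (n : ℤ) {i j i' j' : EInt} (h : i ≤ j) (h' : i' ≤ j') (hi : i ≤ i') (hj : j ≤ j')
    (φ : mk₁ (homOfLE h) ⟶ mk₁ (homOfLE h')) : (Y.H n).map φ = tr Y n h h' hi hj :=
  congrArg _ (Subsingleton.elim _ _)

lemma tr_comp (n : ℤ) {i j i' j' i'' j'' : EInt} (h : i ≤ j) (h' : i' ≤ j') (h'' : i'' ≤ j'')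
    (hi : i ≤ i') (hj : j ≤ j') (hi' : i' ≤ i'') (hj' : j' ≤ j'') :
    tr Y n h h' hi hj ≫ tr Y n h' h'' hi' hj' = tr Y n h h'' (hi.trans hi') (hj.trans hj') := by
  rw [← Functor.map_comp]
  exact tr_eq Y n _ _ _ _ _

lemma zero_tr (n : ℤ) {i j l : EInt} (hij : i ≤ j) (hjl : j ≤ l) :
    tr Y n hij (hij.trans hjl) le_rfl hjl ≫ tr Y n (hij.trans hjl) hjl hij le_rfl = 0 :=
  (congrArg₂ (· ≫ ·) (tr_eq Y n hij (hij.trans hjl) le_rfl hjl
      (twoδ₂Toδ₁ (homOfLE hij) (homOfLE hjl) (homOfLE (hij.trans hjl)) rfl)).symm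
    (tr_eq Y n (hij.trans hjl) hjl hij le_rfl
      (twoδ₁Toδ₀ (homOfLE hij) (homOfLE hjl) (homOfLE (hij.trans hjl)) rfl)).symm).trans
    (Y.zero₂ (homOfLE hij) (homOfLE hjl) (homOfLE (hij.trans hjl)) rfl n)

lemma exact_tr (n : ℤ) {i j l : EInt} (hij : i ≤ j) (hjl : j ≤ l) :
    (ShortComplex.mk _ _ (zero_tr Y n hij hjl)).Exact := by
  refine ShortComplex.exact_of_iso ?_ (Y.exact₂ (homOfLE hij) (homOfLE hjl) (homOfLE (hij.trans hjl)) rfl n)
  refine ShortComplex.isoMk (Iso.refl _) (Iso.refl _) (Iso.refl _) ?_ ?_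
  · exact (Category.id_comp _).trans ((tr_eq Y n hij (hij.trans hjl) le_rfl hjl _).symm.trans (Category.comp_id _).symm)
  · exact (Category.id_comp _).trans ((tr_eq Y n (hij.trans hjl) hjl hij le_rfl _).symm.trans (Category.comp_id _).symm)

lemma imageSubobject_eq_bot {A B : C} {f : A ⟶ B} (h : f = 0) : imageSubobject f = ⊥ := by
  subst h
  exact imageSubobject_zero

lemma isIso_map_of_eq (n : ℤ) {f g : ComposableArrows EInt 1} {φ ψ : f ⟶ g}
    (h : IsIso ((Y.H n).map ψ)) : IsIso ((Y.H n).map φ) :=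
  Subsingleton.elim ψ φ ▸ h

/-- The image of `H^n(i,j)` in `H^n(i,l)`. -/
noncomputable abbrev img (n : ℤ) {i j l : EInt} (hij : i ≤ j) (hjl : j ≤ l) :
    Subobject ((Y.H n).obj (mk₁ (homOfLE (hij.trans hjl)))) :=
  imageSubobject (tr Y n hij (hij.trans hjl) le_rfl hjl)

lemma img_le (n : ℤ) {i j k l : EInt} (hij : i ≤ j) (hjk : j ≤ k) (hkl : k ≤ l) :
    img Y n hij (hjk.trans hkl) ≤ img Y n (hij.trans hjk) hkl := by
  exact SpSeq.FilCx.imageSubobject_le_of_fac (tr Y n hij (hij.trans hjk) le_rfl hjk)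
    (tr_comp Y n hij (hij.trans hjk) (hij.trans (hjk.trans hkl)) le_rfl hjk le_rfl hkl)

/-- The graded piece of the image filtration is a limit term. -/
lemma nonempty_E_iso_subquot (n₀ n n₂ : ℤ) {i j k l : EInt} (hij : i ≤ j) (hjk : j ≤ k) (hkl : k ≤ l)
    (hn₁ : n₀ + 1 = n) (hn₂ : n + 1 = n₂) :
    Nonempty (Y.E (homOfLE hij) (homOfLE hjk) (homOfLE hkl) n₀ n n₂ hn₁ hn₂ ≅
      cokernel (Subobject.ofLE _ _ (img_le Y n hij hjk hkl))) := by
  let hik := hij.trans hjk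
  let hil := hij.trans (hjk.trans hkl)
  let hjl := hjk.trans hkl
  let P := img Y n hik hkl
  let P' := img Y n hij hjl
  let le : P' ≤ P := img_le Y n hij hjk hkl
  let m := tr Y n hil hjl hij le_rfl
  let π : (Y.H n).obj (mk₁ (homOfLE hik)) ⟶ Y.E (homOfLE hij) (homOfLE hjk) (homOfLE hkl) n₀ n n₂ hn₁ hn₂ :=
    Y.toCycles (homOfLE hij) (homOfLE hjk) (homOfLE hik) rfl n ≫ Y.πE _ _ _ n₀ n n₂ hn₁ hn₂
  let ε : Y.E (homOfLE hij) (homOfLE hjk) (homOfLE hkl) n₀ n n₂ hn₁ hn₂ ⟶ (Y.H n).obj (mk₁ (homOfLE hjl)) :=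
    Y.ιE _ _ _ n₀ n n₂ hn₁ hn₂ ≫ Y.fromOpcycles (homOfLE hjk) (homOfLE hkl) (homOfLE hjl) rfl n
  haveI : Epi π :=
    inferInstanceAs (Epi (Y.cokernelSequenceE (homOfLE hij) (homOfLE hjk) (homOfLE hkl) (homOfLE hik) rfl n₀ n n₂ hn₁ hn₂).g)
  haveI : Mono ε :=
    inferInstanceAs (Mono (Y.kernelSequenceE (homOfLE hij) (homOfLE hjk) (homOfLE hkl) (homOfLE hjl) rfl n₀ n n₂ hn₁ hn₂).f)
  have hπε : π ≫ ε = tr Y n hik hjl hij hkl := by
    simp only [π, ε, Category.assoc, πE_ιE_assoc, p_fromOpcycles]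
    rw [toCycles_i_assoc, ← Functor.map_comp]
    exact tr_eq Y n _ _ _ _ _
  have w : P'.ofLE P le ≫ P.arrow ≫ m = 0 := by
    rw [Subobject.ofLE_arrow_assoc, ← cancel_epi (factorThruImageSubobject _),
      imageSubobject_arrow_comp_assoc, comp_zero]
    exact zero_tr Y n hij hjl
  have hmono : Mono (cokernel.desc (P'.ofLE P le) (P.arrow ≫ m) w) := by
    refine (ShortComplex.exact_iff_mono_cokernel_desc (ShortComplex.mk _ _ w)).1 ?_
    rw [ShortComplex.exact_iff_exact_up_to_refinements]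
    intro T x hx
    change x ≫ P.arrow ≫ m = 0 at hx
    obtain ⟨T', q, hq, y, hy⟩ :=
      (exact_tr Y n hij hjl).exact_up_to_refinements (x ≫ P.arrow) ((Category.assoc _ _ _).trans hx)
    refine ⟨T', q, hq, y ≫ factorThruImageSubobject (tr Y n hij hil le_rfl hjl), ?_⟩
    show q ≫ x = _ ≫ P'.ofLE P le
    rw [← cancel_mono P.arrow, Category.assoc, Category.assoc, Category.assoc, Subobject.ofLE_arrow,
      imageSubobject_arrow_comp]
    exact hy
  let a : (Y.H n).obj (mk₁ (homOfLE hik)) ⟶ cokernel (P'.ofLE P le) :=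
    factorThruImageSubobject _ ≫ cokernel.π _
  haveI : Epi (factorThruImageSubobject (tr Y n hik hil le_rfl hkl)) := inferInstance
  haveI : Epi a := epi_comp _ _
  let b := cokernel.desc (P'.ofLE P le) (P.arrow ≫ m) w
  haveI : Mono b := hmono
  have hab : a ≫ b = π ≫ ε := by
    rw [hπε]
    simp only [a, b, P, img, Category.assoc, cokernel.π_desc, imageSubobject_arrow_comp_assoc]
    exact tr_comp Y n hik hil hjl le_rfl hkl hij le_rfl
  haveI := strongEpi_of_epi π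
  haveI := strongEpi_of_epi a
  exact ⟨image.isoStrongEpiMono π ε rfl ≪≫ eqToIso (by rw [hab]) ≪≫
    (image.isoStrongEpiMono a b rfl).symm⟩

variable {Y}

/-- Transport of images along an isomorphism. -/
lemma nonempty_subquot_iso {X X' : C} (e : X ≅ X') {A B : C} (f : A ⟶ X) (g : B ⟶ X)
    (h : imageSubobject f ≤ imageSubobject g)
    (h' : imageSubobject (f ≫ e.hom) ≤ imageSubobject (g ≫ e.hom)) :
    Nonempty (cokernel (Subobject.ofLE _ _ h) ≅ cokernel (Subobject.ofLE _ _ h')) :=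
  ⟨cokernel.mapIso _ _ (imageSubobjectCompIso f e.hom).symm (imageSubobjectCompIso g e.hom).symm (by
    rw [← cancel_mono (imageSubobject (g ≫ e.hom)).arrow]
    simp)⟩

variable [Y.IsFirstQuadrant]

lemma isZero_page (r : ℤ) (hr : 2 ≤ r) (p q : ℤ) (h : q < 0 ∨ p < 0) :
    IsZero ((Y.E₂SpectralSequence.page r hr).X (p, q)) := by
  refine isZero_spectralSequence_page_X_of_isZero_H' _ _ _ hr _ ?_
  rcases h with h | h
  · exact Y.isZero₁_of_isFirstQuadrant _ _ _ (by simp; omega) _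
  · exact Y.isZero₂_of_isFirstQuadrant _ _ _ _ (by simp; omega)

theorem isBounded : SpSeq.IsBounded Y.E₂SpectralSequence := by
  intro n
  refine (Set.finite_Icc (0 : ℤ) n).subset fun p hp => ?_
  rw [Set.mem_Icc]
  by_contra h
  exact hp (isZero_page 2 le_rfl p (n - p) (by omega))

lemma stationary (p q r : ℤ) (hr : 2 ≤ r) (hq : q + 1 < r) (hpq : p < r) :
    SpSeq.StationaryAt Y.E₂SpectralSequence (p, q) r := by
  refine ⟨hr, fun r' h₀ h₁ => ⟨?_, ?_⟩⟩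
  · exact (isZero_page r' h₀ (p - r') (q - (1 - r')) (by omega)).eq_of_src _ _
  · exact (isZero_page r' h₀ (p + r') (q + (1 - r')) (by omega)).eq_of_tgt _ _

lemma nonempty_page_iso_E (r : ℤ) (hr : 2 ≤ r) (p q : ℤ) (h₀ : q - r + 2 ≤ 0) (h₃ : p + q < q + r - 1) :
    Nonempty ((Y.E₂SpectralSequence.page r hr).X (p, q) ≅
      Y.E (homOfLE (bot_le : (⊥ : EInt) ≤ (q : ℤ))) (homOfLE (show ((q : ℤ) : EInt) ≤ ((q + 1 : ℤ) : EInt) by simp))
        (homOfLE (le_top : ((q + 1 : ℤ) : EInt) ≤ ⊤)) (p + q - 1) (p + q) (p + q + 1) (by omega) (by omega)) := by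
  let j₀ : EInt := ((q - r + 2 : ℤ) : EInt)
  let j₁ : EInt := ((q : ℤ) : EInt)
  let j₂ : EInt := ((q + 1 : ℤ) : EInt)
  let j₃ : EInt := ((q + r - 1 : ℤ) : EInt)
  have h01 : j₀ ≤ j₁ := by simp [j₀, j₁]; omega
  have h12 : j₁ ≤ j₂ := by simp [j₁, j₂]
  have h23 : j₂ ≤ j₃ := by simp [j₂, j₃]; omega
  let e := Y.spectralSequencePageXIso coreE₂Cohomological r hr (p, q) j₀ j₁ j₂ j₃ rfl rfl rfl rfl
    (p + q - 1) (p + q) (p + q + 1) rfl
  -- enlarge the outer intervals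
  let α : mk₃ (homOfLE (bot_le : (⊥ : EInt) ≤ j₁)) (homOfLE h12) (homOfLE h23) ⟶
      mk₃ (homOfLE h01) (homOfLE h12) (homOfLE h23) :=
    homMk₃ (homOfLE bot_le) (𝟙 _) (𝟙 _) (𝟙 _) (Subsingleton.elim _ _) (Subsingleton.elim _ _) (Subsingleton.elim _ _)
  let β : mk₃ (homOfLE (bot_le : (⊥ : EInt) ≤ j₁)) (homOfLE h12) (homOfLE h23) ⟶
      mk₃ (homOfLE (bot_le : (⊥ : EInt) ≤ j₁)) (homOfLE h12) (homOfLE (le_top : j₂ ≤ ⊤)) :=
    homMk₃ (𝟙 _) (𝟙 _) (𝟙 _) (homOfLE le_top) (Subsingleton.elim _ _) (Subsingleton.elim _ _) (Subsingleton.elim _ _)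
  have hid : ∀ (n : ℤ) {i j : EInt} (h : i ≤ j) (φ : mk₁ (homOfLE h) ⟶ mk₁ (homOfLE h)), IsIso ((Y.H n).map φ) := by
    intro n i j h φ
    rw [show φ = 𝟙 _ from Subsingleton.elim _ _]
    infer_instance
  have hj₀ : j₀ ≤ ((0 : ℤ) : EInt) := by simp [j₀]; omega
  haveI : IsIso (Y.map _ _ _ _ _ _ α (p + q - 1) (p + q) (p + q + 1) (by omega) (by omega)) := by
    refine Y.isIso_map _ _ _ _ _ _ α _ _ _ (hid _ h23 _) (hid _ h12 _) ?_
    haveI := Y.isIso_H_map_twoδ₁Toδ₀' (p + q + 1) (p + q + 1 + 1) rfl ⊥ j₀ j₁ bot_le h01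
      (Y.isZero₁_of_isFirstQuadrant _ _ _ hj₀ _) (Y.isZero₁_of_isFirstQuadrant _ _ _ hj₀ _)
    exact isIso_map_of_eq Y _ this
  haveI : IsIso (Y.map _ _ _ _ _ _ β (p + q - 1) (p + q) (p + q + 1) (by omega) (by omega)) := by
    refine Y.isIso_map _ _ _ _ _ _ β _ _ _ ?_ (hid _ h12 _) (hid _ bot_le _)
    have hz : ∀ n : ℤ, n ≤ p + q → IsZero ((Y.H n).obj (mk₁ (homOfLE (le_top : j₃ ≤ ⊤)))) := fun n hn =>
      Y.isZero₂_of_isFirstQuadrant _ _ _ _ (by simp [j₃]; omega)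
    let φ := (Y.H (p + q - 1)).map (twoδ₂Toδ₁' j₂ j₃ ⊤ h23 le_top)
    haveI : Mono φ := by
      exact ((Y.exact₁ (homOfLE h23) (homOfLE (le_top : j₃ ≤ ⊤)) (homOfLE (le_top : j₂ ≤ ⊤)) rfl
        (p + q - 1 - 1) (p + q - 1))).mono_g ((hz _ (by omega)).eq_of_src _ _)
    haveI : Epi φ := by
      exact (Y.exact₂ (homOfLE h23) (homOfLE (le_top : j₃ ≤ ⊤)) (homOfLE (le_top : j₂ ≤ ⊤)) rfl
        (p + q - 1)).epi_f ((hz _ (by omega)).eq_of_tgt _ _)
    haveI hφ : IsIso φ := isIso_of_mono_of_epi _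
    exact isIso_map_of_eq Y _ hφ
  exact ⟨e ≪≫ (asIso (Y.map _ _ _ _ _ _ α (p + q - 1) (p + q) (p + q + 1) _ _)).symm ≪≫
    asIso (Y.map _ _ _ _ _ _ β (p + q - 1) (p + q) (p + q + 1) _ _)⟩

variable (Y)

/-- The abutment of the spectral sequence of a first quadrant spectral object. -/
theorem exists_abutment (H : ℤ → C)
    (e : ∀ n, H n ≅ (Y.H n).obj (mk₁ (homOfLE (bot_le : (⊥ : EInt) ≤ ⊤)))) :
    ∃ a : SpSeq.Abutment Y.E₂SpectralSequence H, ∀ n, a.IsFinite n := by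
  let fil : ∀ (n p : ℤ), Subobject (H n) := fun n p =>
    imageSubobject (tr Y n (bot_le : (⊥ : EInt) ≤ ((n - p + 1 : ℤ) : EInt)) bot_le le_rfl le_top ≫ (e n).inv)
  have hanti : ∀ n, Antitone (fil n) := fun n p p' hpp => by
    have h : ((n - p' + 1 : ℤ) : EInt) ≤ ((n - p + 1 : ℤ) : EInt) := by simp; omega
    exact SpSeq.FilCx.imageSubobject_le_of_fac (tr Y n bot_le bot_le le_rfl h)
      (by rw [← Category.assoc, tr_comp])
  let rk : ℤ × ℤ → ℤ := fun pq => max 2 (max (pq.1 + 2) (pq.2 + 2))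
  have hst : ∀ pq : ℤ × ℤ, SpSeq.StationaryAt Y.E₂SpectralSequence pq (rk pq) := fun pq =>
    stationary pq.1 pq.2 _ (le_max_left _ _) (by simp [rk]; omega) (by simp [rk]; omega)
  have hβ : ∀ pq : ℤ × ℤ, Nonempty ((Y.E₂SpectralSequence.page (rk pq) (hst pq).1).X pq ≅
      SpSeq.grPiece (fil (pq.1 + pq.2)) (hanti (pq.1 + pq.2)) pq.1) := by
    rintro ⟨p, q⟩
    obtain ⟨e₁⟩ := nonempty_page_iso_E (Y := Y) (rk (p, q)) (hst (p, q)).1 p q
      (by simp [rk]; omega) (by simp [rk]; omega)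
    obtain ⟨e₂⟩ := nonempty_E_iso_subquot Y (p + q - 1) (p + q) (p + q + 1) (bot_le : (⊥ : EInt) ≤ (q : ℤ))
      (show ((q : ℤ) : EInt) ≤ ((q + 1 : ℤ) : EInt) by simp) (le_top : ((q + 1 : ℤ) : EInt) ≤ ⊤) (by omega) (by omega)
    suffices Nonempty (cokernel (Subobject.ofLE _ _ (img_le Y (p + q) (bot_le : (⊥ : EInt) ≤ (q : ℤ))
        (show ((q : ℤ) : EInt) ≤ ((q + 1 : ℤ) : EInt) by simp) le_top)) ≅
      cokernel (Subobject.ofLE _ _ (hanti (p + q) (Int.le_add_one (le_refl p))))) from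
      ⟨e₁ ≪≫ e₂ ≪≫ this.some⟩
    have key : ∀ (a b : ℤ) (ha : a = p + q - (p + 1) + 1) (hb : b = p + q - p + 1)
        (hab : (a : EInt) ≤ (b : EInt)),
        Nonempty (cokernel (Subobject.ofLE _ _ (img_le Y (p + q) (bot_le : (⊥ : EInt) ≤ (a : EInt)) hab le_top)) ≅
          cokernel (Subobject.ofLE _ _ (hanti (p + q) (Int.le_add_one (le_refl p))))) := by
      rintro a b rfl rfl hab
      exact nonempty_subquot_iso (e (p + q)).symm _ _ _ _
    exact key q (q + 1) (by omega) (by omega) (by simp)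
  refine ⟨⟨fil, hanti, rk, hst, fun pq => (hβ pq).some⟩, fun n => ⟨⟨0, ?_⟩, ⟨n + 1, ?_⟩⟩⟩
  · show fil n 0 = ⊤
    have hz : IsZero ((Y.H n).obj (mk₁ (homOfLE (le_top : ((n - 0 + 1 : ℤ) : EInt) ≤ ⊤)))) :=
      Y.isZero₂_of_isFirstQuadrant _ _ _ _ (by simp)
    haveI : Epi (tr Y n (bot_le : (⊥ : EInt) ≤ ((n - 0 + 1 : ℤ) : EInt)) bot_le le_rfl le_top) :=
      (exact_tr Y n (bot_le : (⊥ : EInt) ≤ ((n - 0 + 1 : ℤ) : EInt)) le_top).epi_f (hz.eq_of_tgt _ _)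
    let f := tr Y n (bot_le : (⊥ : EInt) ≤ ((n - 0 + 1 : ℤ) : EInt)) bot_le le_rfl le_top ≫ (e n).inv
    haveI : Epi (factorThruImageSubobject f ≫ (imageSubobject f).arrow) := by
      rw [imageSubobject_arrow_comp]; infer_instance
    haveI : Epi (imageSubobject f).arrow := epi_of_epi (factorThruImageSubobject f) _
    haveI := isIso_of_mono_of_epi (imageSubobject f).arrow
    exact (Subobject.isIso_arrow_iff_eq_top _).1 inferInstance
  · show fil n (n + 1) = ⊥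
    have hz : IsZero ((Y.H n).obj (mk₁ (homOfLE (bot_le : (⊥ : EInt) ≤ ((n - (n + 1) + 1 : ℤ) : EInt))))) :=
      Y.isZero₁_of_isFirstQuadrant _ _ _ (by simp) _
    exact imageSubobject_eq_bot (hz.eq_of_src _ _)

/-- The first page. -/
noncomputable def pageTwoIso (p q : ℤ) (n : ℤ) (hn : n = p + q) :
    (Y.E₂SpectralSequence.page 2 le_rfl).X (p, q) ≅
      (Y.H n).obj (mk₁ (homOfLE (show ((q : ℤ) : EInt) ≤ ((q + 1 : ℤ) : EInt) by simp))) :=
  Y.spectralSequenceFirstPageXIso coreE₂Cohomological (p, q) _ _ rfl rfl n hn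

end Groth.Agent.SSExist
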