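import Groth.Agent.SSExist.OfTriangulated
import Groth.Agent.SSExist.Abutment
import Groth.Agent.TriH.Adapted
import Mathlib.CategoryTheory.Triangulated.TStructure.SpectralObject
import Mathlib.CategoryTheory.Triangulated.Adjunction
import Mathlib.Algebra.Homology.DerivedCategory.Plus
import Mathlib.Algebra.Homology.DerivedCategory.FullyFaithful

/-!
# The spectral sequence `RᵖS(H^q K) ⇒ H^{p+q}(S K)`
-/

set_option autoImplicit false
set_option linter.style.haveILetI false

open CategoryTheory CategoryTheory.Limits CategoryTheory.Pretriangulated ComposableArrows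

namespace Groth.Agent.SSExist

universe w w' v v' u u'

open TriH

variable {C : Type u} [Category.{v} C] [Abelian C] [HasDerivedCategory.{w} C] [EnoughInjectives C]
  {D : Type u'} [Category.{v'} D] [Abelian D] [HasDerivedCategory.{w'} D] (S : C ⥤ D) [S.Additive]

instance injToDerived_essSurj : (injToDerived C).EssSurj where
  mem_essImage X := ⟨(injToDerived C).objPreimage X, ⟨(injToDerived C).objObjPreimageIso X⟩⟩

instance injToDerived_isEquivalence : (injToDerived C).IsEquivalence where

variable (C) in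
/-- `D⁺(C) ⥤ K⁺(Inj C)`. -/
noncomputable def resInv : DerivedCategory.Plus C ⥤ HomotopyCategory.Plus (InjectiveObject C) :=
  (injToDerived C).asEquivalence.inverse

noncomputable instance : (resInv C).CommShift ℤ :=
  letI : (injToDerived C).asEquivalence.functor.CommShift ℤ := inferInstanceAs ((injToDerived C).CommShift ℤ)
  (injToDerived C).asEquivalence.commShiftInverse ℤ

noncomputable instance : (resInv C).IsTriangulated := by
  letI : (injToDerived C).asEquivalence.functor.CommShift ℤ := inferInstanceAs ((injToDerived C).CommShift ℤ)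
  haveI : (injToDerived C).asEquivalence.functor.IsTriangulated := inferInstanceAs ((injToDerived C).IsTriangulated)
  letI : (injToDerived C).asEquivalence.inverse.CommShift ℤ := (injToDerived C).asEquivalence.commShiftInverse ℤ
  haveI := (injToDerived C).asEquivalence.commShift_of_functor ℤ
  haveI := Equivalence.IsTriangulated.mk' (injToDerived C).asEquivalence inferInstance
  exact inferInstanceAs ((injToDerived C).asEquivalence.inverse.IsTriangulated)

/-- `S` applied termwise to complexes of injective objects, with values in `D(D)`. -/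
noncomputable abbrev injS : HomotopyCategory.Plus (InjectiveObject C) ⥤ DerivedCategory D :=
  (InjectiveObject.ι C).mapHomotopyCategoryPlus ⋙ S.mapHomotopyCategoryPlus ⋙
    DerivedCategory.Plus.Qh ⋙ DerivedCategory.Plus.ι

/-- The right derived functor of `S` on `D⁺`, as a triangulated functor to `D(D)`. -/
noncomputable abbrev RS : DerivedCategory.Plus C ⥤ DerivedCategory D := resInv C ⋙ injS S

lemma nonempty_RS_iso [PreservesFiniteLimits S] (K : CochainComplex.Plus C)
    (hK : ∀ m, IsAcyclicObj S (K.obj.X m)) :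
    Nonempty ((RS S).obj (DerivedCategory.Plus.Q.obj K) ≅
      DerivedCategory.Q.obj ((S.mapHomologicalComplex (ComplexShape.up ℤ)).obj K.obj)) := by
  obtain ⟨a, ha⟩ := K.property
  haveI := ha
  obtain ⟨L, hL, i, hi⟩ := CochainComplex.Plus.exists_quasiIso_injective K a
  let L' := (InjectiveObject.ι C).mapCochainComplexPlus.obj L
  obtain ⟨b, hb⟩ := L'.property
  haveI := hb
  haveI : QuasiIso i.hom := hi
  have hF := quasiIso_map_of_acyclic S i.hom a b hK
    (fun n => haveI : Injective (L'.obj.X n) := (L.obj.X n).property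
      isAcyclicObj_of_injective S _)
  let r := (HomotopyCategory.Plus.quotient C).map i
  haveI h₁ : IsIso (DerivedCategory.Plus.Qh.map r) :=
    Localization.inverts DerivedCategory.Plus.Qh (HomotopyCategory.Plus.quasiIso C) _
      ((HomotopyCategory.quotient_map_mem_quasiIso_iff i.hom).2 hi)
  haveI h₂ : IsIso ((S.mapHomotopyCategoryPlus ⋙ DerivedCategory.Plus.Qh).map r) :=
    Localization.inverts DerivedCategory.Plus.Qh (HomotopyCategory.Plus.quasiIso D) _ hF
  let Y := (HomotopyCategory.Plus.quotient (InjectiveObject C)).obj L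
  let e₁ : DerivedCategory.Plus.Q.obj K ≅ (injToDerived C).obj Y := @asIso _ _ _ _ _ h₁
  exact ⟨(RS S).mapIso e₁ ≪≫ (injS S).mapIso ((injToDerived C).asEquivalence.unitIso.app Y).symm ≪≫
    DerivedCategory.Plus.ι.mapIso (asIso ((S.mapHomotopyCategoryPlus ⋙ DerivedCategory.Plus.Qh).map r)).symm ≪≫
    DerivedCategory.Qh.mapIso ((S.mapHomotopyCategoryFactors (ComplexShape.up ℤ)).app K.obj) ≪≫
    (DerivedCategory.quotientCompQhIso D).app _⟩

lemma isGE_RS_obj [PreservesFiniteLimits S] (X : DerivedCategory.Plus C) (a : ℤ) [X.IsGE a] :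
    ((RS S).obj X).IsGE a := by
  obtain ⟨L, hL, ⟨e⟩⟩ := DerivedCategory.Plus.exists_injective_nonempty_iso X a
  let L' := (InjectiveObject.ι C).mapCochainComplexPlus.obj L
  obtain ⟨e'⟩ := nonempty_RS_iso S L' fun m =>
    haveI : Injective (L'.obj.X m) := (L.obj.X m).property
    isAcyclicObj_of_injective S _
  haveI : CochainComplex.IsStrictlyGE ((S.mapHomologicalComplex (ComplexShape.up ℤ)).obj L'.obj) a := by
    show CochainComplex.IsStrictlyGE ((S.mapHomologicalComplex (ComplexShape.up ℤ)).obj
      (((InjectiveObject.ι C).mapHomologicalComplex (ComplexShape.up ℤ)).obj L.obj)) a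
    infer_instance
  exact DerivedCategory.TStructure.t.isGE_of_iso (e'.symm ≪≫ (RS S).mapIso e) a

omit [HasDerivedCategory.{w} C] [HasDerivedCategory.{w'} D] [EnoughInjectives C] in
lemma nonempty_homology_map_cochainComplex_iso [HasInjectiveResolutions C] {X : C} (R : InjectiveResolution X)
    (k : ℕ) :
    Nonempty (((S.mapHomologicalComplex (ComplexShape.up ℤ)).obj R.cochainComplex).homology (k : ℤ) ≅
      (S.rightDerived k).obj X) := by
  let L := (S.mapHomologicalComplex (ComplexShape.up ℤ)).obj R.cochainComplex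
  let M := (S.mapHomologicalComplex (ComplexShape.up ℕ)).obj R.cocomplex
  suffices Nonempty (L.homology (k : ℤ) ≅ M.homology k) from ⟨this.some ≪≫ (R.isoRightDerivedObj S k).symm⟩
  have comm : ∀ (i j : ℤ) (i' j' : ℕ) (hi : (i' : ℤ) = i) (hj : (j' : ℤ) = j),
      (S.mapIso (R.cochainComplexXIso i i' hi)).hom ≫ M.d i' j' =
        L.d i j ≫ (S.mapIso (R.cochainComplexXIso j j' hj)).hom := fun i j i' j' hi hj => by
    show S.map _ ≫ S.map (R.cocomplex.d i' j') = S.map (R.cochainComplex.d i j) ≫ S.map _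
    rw [← S.map_comp, ← S.map_comp, R.cochainComplex_d i j i' j' hi hj]
    simp
  rcases k with _ | k
  · have hd : M.d 0 0 = 0 := M.shape _ _ (by simp)
    let φ : L.sc' (-1) ((0 : ℕ) : ℤ) 1 ⟶ M.sc' 0 0 1 :=
      { τ₁ := 0
        τ₂ := (S.mapIso (R.cochainComplexXIso _ 0 rfl)).hom
        τ₃ := (S.mapIso (R.cochainComplexXIso 1 1 rfl)).hom
        comm₁₂ := by
          rw [zero_comp]
          exact (zero_comp).symm.trans (congrArg (· ≫ _) ((S.map_isZero
            (R.cochainComplex.isZero_of_isStrictlyGE 0 (-1) (by norm_num))).eq_of_src _ _)).symm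
        comm₂₃ := comm _ _ _ _ rfl rfl }
    let ψ : M.sc' 0 0 1 ⟶ L.sc' (-1) ((0 : ℕ) : ℤ) 1 :=
      { τ₁ := 0
        τ₂ := (S.mapIso (R.cochainComplexXIso _ 0 rfl)).inv
        τ₃ := (S.mapIso (R.cochainComplexXIso 1 1 rfl)).inv
        comm₁₂ := by
          rw [zero_comp]
          exact (zero_comp).symm.trans (congrArg (· ≫ _) hd.symm)
        comm₂₃ := by
          show _ ≫ L.d _ _ = M.d 0 1 ≫ _
          rw [Iso.inv_comp_eq, ← Category.assoc, Iso.eq_comp_inv]
          exact (comm _ _ _ _ rfl rfl).symm }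
    haveI : Epi ψ.τ₁ := ⟨fun g h _ => (S.map_isZero
      (R.cochainComplex.isZero_of_isStrictlyGE 0 (-1) (by norm_num))).eq_of_src g h⟩
    haveI : IsIso ψ.τ₂ := inferInstanceAs (IsIso (S.mapIso (R.cochainComplexXIso _ 0 rfl)).inv)
    haveI : Mono ψ.τ₃ := inferInstanceAs (Mono (S.mapIso (R.cochainComplexXIso 1 1 rfl)).inv)
    haveI := ShortComplex.quasiIso_of_epi_of_isIso_of_mono ψ
    exact ⟨L.homologyIsoSc' (-1) _ 1 (by simp) (by simp) ≪≫ (asIso (ShortComplex.homologyMap ψ)).symm ≪≫
      (M.homologyIsoSc' 0 0 1 (by simp) (by simp)).symm⟩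
  · let e : L.sc' (k : ℤ) ((k + 1 : ℕ) : ℤ) ((k + 2 : ℕ) : ℤ) ≅ M.sc' k (k + 1) (k + 2) :=
      ShortComplex.isoMk (S.mapIso (R.cochainComplexXIso _ k rfl))
        (S.mapIso (R.cochainComplexXIso _ (k + 1) rfl)) (S.mapIso (R.cochainComplexXIso _ (k + 2) rfl))
        (comm _ _ _ _ rfl rfl) (comm _ _ _ _ rfl rfl)
    exact ⟨L.homologyIsoSc' _ _ _ (by simp) (by rw [CochainComplex.next]; omega) ≪≫
      ShortComplex.homologyMapIso e ≪≫ (M.homologyIsoSc' k (k + 1) (k + 2) (by simp) (by simp)).symm⟩

/-- Homology of `R S` at an object in degree zero. -/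
lemma nonempty_homology_RS_single [PreservesFiniteLimits S] (M : C) (k : ℕ) :
    Nonempty ((DerivedCategory.homologyFunctor D (k : ℤ)).obj
      ((RS S).obj ((DerivedCategory.Plus.singleFunctor C 0).obj M)) ≅ (S.rightDerived k).obj M) := by
  let R := injectiveResolution M
  let K : CochainComplex.Plus C := ⟨R.cochainComplex, ⟨0, inferInstance⟩⟩
  let e : (DerivedCategory.Plus.singleFunctor C 0).obj M ≅ DerivedCategory.Plus.Q.obj K :=
    DerivedCategory.Plus.ι.preimageIso
      ((DerivedCategory.singleFunctorIsoCompQ C 0).app M ≪≫ asIso (DerivedCategory.Q.map R.ι') ≪≫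
        ((DerivedCategory.quotientCompQhIso C).app _).symm)
  obtain ⟨e'⟩ := nonempty_RS_iso S K fun m =>
    haveI : Injective (K.obj.X m) := inferInstanceAs (Injective (R.cochainComplex.X m))
    isAcyclicObj_of_injective S _
  obtain ⟨e''⟩ := nonempty_homology_map_cochainComplex_iso S R k
  exact ⟨(DerivedCategory.homologyFunctor D (k : ℤ)).mapIso ((RS S).mapIso e ≪≫ e') ≪≫
    (DerivedCategory.homologyFunctorFactors D (k : ℤ)).app _ ≪≫ e''⟩

section

variable {A : Type u} [Category.{v} A] [Abelian A] [HasDerivedCategory.{w} A]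

lemma isIso_homology_mor₁ (T : Triangle (DerivedCategory A)) (hT : T ∈ distTriang _) (n i : ℤ)
    [T.obj₃.IsGE n] (hi : i < n) : IsIso ((DerivedCategory.homologyFunctor A i).map T.mor₁) := by
  have : Mono ((DerivedCategory.homologyFunctor A i).map T.mor₁) :=
    (DerivedCategory.HomologySequence.mono_homologyMap_mor₁_iff _ hT (i - 1) i (by omega)).2
      ((DerivedCategory.isZero_of_isGE _ n (i - 1) (by omega)).eq_of_src _ _)
  have : Epi ((DerivedCategory.homologyFunctor A i).map T.mor₁) :=
    (DerivedCategory.HomologySequence.epi_homologyMap_mor₁_iff _ hT i).2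
      ((DerivedCategory.isZero_of_isGE _ n i (by omega)).eq_of_tgt _ _)
  exact isIso_of_mono_of_epi _

lemma isIso_homology_mor₂ (T : Triangle (DerivedCategory A)) (hT : T ∈ distTriang _) (n i : ℤ)
    [T.obj₁.IsLE (n - 1)] (hi : n ≤ i) : IsIso ((DerivedCategory.homologyFunctor A i).map T.mor₂) := by
  have : Mono ((DerivedCategory.homologyFunctor A i).map T.mor₂) :=
    (DerivedCategory.HomologySequence.mono_homologyMap_mor₂_iff _ hT i).2
      ((DerivedCategory.isZero_of_isLE _ (n - 1) i (by omega)).eq_of_src _ _)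
  have : Epi ((DerivedCategory.homologyFunctor A i).map T.mor₂) :=
    (DerivedCategory.HomologySequence.epi_homologyMap_mor₂_iff _ hT i (i + 1) rfl).2
      ((DerivedCategory.isZero_of_isLE _ (n - 1) (i + 1) (by omega)).eq_of_tgt _ _)
  exact isIso_of_mono_of_epi _

end

instance : (RS S).PreservesZeroMorphisms := by
  haveI : (RS S).IsTriangulated := inferInstance
  infer_instance

open DerivedCategory.Plus in
lemma nonempty_ω₁_iso_single (X : DerivedCategory.Plus C) (q : ℤ) :
    Nonempty (((TStructure.t (C := C)).truncGE q).obj (((TStructure.t (C := C)).truncLT (q + 1)).obj X) ≅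
      (singleFunctor C q).obj ((DerivedCategory.homologyFunctor C q).obj (ι.obj X))) := by
  let Z := ((TStructure.t (C := C)).truncLT (q + 1)).obj X
  let P := ((TStructure.t (C := C)).truncGE q).obj Z
  haveI : Z.IsLE q := inferInstanceAs (TStructure.t.IsLE _ _)
  haveI : P.IsGE q := inferInstanceAs (TStructure.t.IsGE _ _)
  haveI : P.IsLE q := inferInstanceAs (TStructure.t.IsLE _ _)
  obtain ⟨M, ⟨e⟩⟩ := (ι.obj P).exists_iso_singleFunctor_obj_of_isGE_of_isLE q
  have hT₁ := ι.map_distinguished _ ((TStructure.t (C := C)).triangleLTGE_distinguished (q + 1) X)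
  have hT₂ := ι.map_distinguished _ ((TStructure.t (C := C)).triangleLTGE_distinguished q Z)
  let T₁ := ι.mapTriangle.obj (((TStructure.t (C := C)).triangleLTGE (q + 1)).obj X)
  let T₂ := ι.mapTriangle.obj (((TStructure.t (C := C)).triangleLTGE q).obj Z)
  haveI : T₁.obj₃.IsGE (q + 1) := by
    show (ι.obj (((TStructure.t (C := C)).truncGE (q + 1)).obj X)).IsGE (q + 1)
    haveI : (((TStructure.t (C := C)).truncGE (q + 1)).obj X).IsGE (q + 1) := inferInstanceAs (TStructure.t.IsGE _ _)
    infer_instance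
  haveI : T₂.obj₁.IsLE (q - 1) := by
    show (ι.obj (((TStructure.t (C := C)).truncLT q).obj Z)).IsLE (q - 1)
    haveI : (((TStructure.t (C := C)).truncLT q).obj Z).IsLE (q - 1) := inferInstanceAs (TStructure.t.IsLE _ _)
    infer_instance
  haveI h₁ : IsIso ((DerivedCategory.homologyFunctor C q).map T₁.mor₁) :=
    isIso_homology_mor₁ T₁ hT₁ (q + 1) q (by omega)
  haveI h₂ : IsIso ((DerivedCategory.homologyFunctor C q).map T₂.mor₂) :=
    isIso_homology_mor₂ T₂ hT₂ q q le_rfl
  let eM : M ≅ (DerivedCategory.homologyFunctor C q).obj (ι.obj X) :=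
    ((DerivedCategory.singleFunctorCompHomologyFunctorIso C q).app M).symm ≪≫
      (DerivedCategory.homologyFunctor C q).mapIso e.symm ≪≫
      (@asIso _ _ _ _ _ h₂).symm ≪≫
      @asIso _ _ _ _ _ h₁
  exact ⟨ι.preimageIso (e ≪≫ (DerivedCategory.singleFunctor C q).mapIso eM)⟩

variable [PreservesFiniteLimits S]

/-- The spectral object of `R S` and the canonical truncations of `X`. -/
noncomputable abbrev hyperSO (X : DerivedCategory.Plus C) : Abelian.SpectralObject D EInt :=
  toAbelian (((DerivedCategory.Plus.TStructure.t (C := C)).spectralObject X).mapTriangulatedFunctor (RS S))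
    (DerivedCategory.homologyFunctor D 0)

lemma nonempty_pageTwo (X : DerivedCategory.Plus C) (q : ℤ) (n : ℤ) (k : ℕ) (hk : (k : ℤ) + q = n) :
    Nonempty (((hyperSO S X).H n).obj (mk₁ (homOfLE (show ((q : ℤ) : EInt) ≤ ((q + 1 : ℤ) : EInt) by simp))) ≅
      (S.rightDerived k).obj ((DerivedCategory.homologyFunctor C q).obj (DerivedCategory.Plus.ι.obj X))) := by
  obtain ⟨e⟩ := nonempty_ω₁_iso_single X q
  let M := (DerivedCategory.homologyFunctor C q).obj (DerivedCategory.Plus.ι.obj X)
  obtain ⟨e'⟩ := nonempty_homology_RS_single S M k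
  let F := DerivedCategory.homologyFunctor D 0
  let es : ((DerivedCategory.Plus.singleFunctor C q).obj M)⟦q⟧ ≅ (DerivedCategory.Plus.singleFunctor C 0).obj M :=
    ((DerivedCategory.Plus.singleFunctors C).shiftIso q 0 q (add_zero q)).app M
  exact ⟨(F.shift n).mapIso ((RS S).mapIso e) ≪≫
    ((F.shiftIso q (k : ℤ) n (by omega)).app _).symm ≪≫
    (F.shift (k : ℤ)).mapIso (((RS S).commShiftIso q).app _).symm ≪≫
    (F.shift (k : ℤ)).mapIso ((RS S).mapIso es) ≪≫ e'⟩

lemma isFirstQuadrant_hyperSO (X : DerivedCategory.Plus C) [X.IsGE 0] : (hyperSO S X).IsFirstQuadrant where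
  isZero₁ i j hij hj n := by
    show IsZero (((DerivedCategory.homologyFunctor D 0).shift n).obj ((RS S).obj
      (((DerivedCategory.Plus.TStructure.t (C := C)).spectralObject X).ω₁.obj (mk₁ (homOfLE hij)))))
    refine Functor.map_isZero _ (Functor.map_isZero _ ?_)
    show IsZero ((DerivedCategory.Plus.TStructure.t.eTruncGE.obj i).obj
      ((DerivedCategory.Plus.TStructure.t.eTruncLT.obj j).obj X))
    refine Functor.map_isZero _ ?_
    induction j using WithBotTop.rec with
    | bot => exact IsZero.obj (isZero_zero _) X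
    | coe b =>
      haveI := (DerivedCategory.Plus.TStructure.t (C := C)).isGE_of_ge X b 0 (by simpa using hj)
      exact DerivedCategory.Plus.TStructure.t.isZero_truncLT_obj_of_isGE b X
    | top => exact absurd hj (by simp)
  isZero₂ i j hij n hi := by
    induction i using WithBotTop.rec with
    | bot => exact absurd hi (by simp)
    | coe a =>
      let Z := (DerivedCategory.Plus.TStructure.t.eTruncLT.obj j).obj X
      haveI : ((DerivedCategory.Plus.TStructure.t.truncGE a).obj Z).IsGE a :=
        inferInstanceAs (DerivedCategory.Plus.TStructure.t.IsGE _ _)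
      haveI := isGE_RS_obj S ((DerivedCategory.Plus.TStructure.t.truncGE a).obj Z) a
      exact DerivedCategory.isZero_of_isGE ((RS S).obj ((DerivedCategory.Plus.TStructure.t.truncGE a).obj Z))
        a n (by simpa using hi)
    | top =>
      show IsZero (((DerivedCategory.homologyFunctor D 0).shift n).obj ((RS S).obj
        (((DerivedCategory.Plus.TStructure.t (C := C)).spectralObject X).ω₁.obj (mk₁ (homOfLE hij)))))
      refine Functor.map_isZero _ (Functor.map_isZero _ ?_)
      exact IsZero.obj (isZero_zero _) _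

omit [EnoughInjectives C] in
lemma isGE_plusQ (K : CochainComplex.Plus C) (a : ℤ) [K.obj.IsStrictlyGE a] :
    (DerivedCategory.Plus.Q.obj K).IsGE a := by
  rw [← DerivedCategory.Plus.isGE_ι_obj_iff]
  exact DerivedCategory.TStructure.t.isGE_of_iso ((DerivedCategory.quotientCompQhIso C).app K.obj).symm a

/-- The hypercohomology spectral sequence. -/
theorem exists_hyper (K : CochainComplex C ℤ) [K.IsStrictlyGE 0] (hK : ∀ m, IsAcyclicObj S (K.X m))
    (H : ℤ → D) (e : ∀ n, H n ≅ ((S.mapHomologicalComplex (ComplexShape.up ℤ)).obj K).homology n) :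
    ∃ (E : E₂CohomologicalSpectralSequence D) (a : SpSeq.Abutment E H),
      (∀ n, a.IsFinite n) ∧ SpSeq.IsBounded E ∧
      (∀ p q : ℕ, Nonempty ((E.page 2 le_rfl).X ((p : ℤ), (q : ℤ)) ≅ (S.rightDerived p).obj (K.homology (q : ℤ)))) ∧
      ∀ p q : ℤ, (p < 0 ∨ q < 0) → IsZero ((E.page 2 le_rfl).X (p, q)) := by
  let K' : CochainComplex.Plus C := ⟨K, ⟨0, inferInstance⟩⟩
  let X := DerivedCategory.Plus.Q.obj K'
  haveI : X.IsGE 0 := isGE_plusQ K' 0
  let Y := hyperSO S X
  haveI : Y.IsFirstQuadrant := isFirstQuadrant_hyperSO S X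
  obtain ⟨e'⟩ := nonempty_RS_iso S K' hK
  let eH : ∀ n, H n ≅ (Y.H n).obj (mk₁ (homOfLE (bot_le : (⊥ : EInt) ≤ ⊤))) := fun n =>
    e n ≪≫ ((DerivedCategory.homologyFunctorFactors D n).app _).symm ≪≫
      (DerivedCategory.homologyFunctor D n).mapIso e'.symm
  obtain ⟨a, ha⟩ := exists_abutment Y H eH
  refine ⟨Y.E₂SpectralSequence, a, ha, isBounded, fun p q => ?_,
    fun p q h => isZero_page 2 le_rfl p q h.symm⟩
  obtain ⟨e₂⟩ := nonempty_pageTwo S X (q : ℤ) ((p : ℤ) + (q : ℤ)) p rfl
  exact ⟨pageTwoIso Y p q _ rfl ≪≫ e₂ ≪≫ (S.rightDerived p).mapIso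
    ((DerivedCategory.homologyFunctor C (q : ℤ)).mapIso ((DerivedCategory.quotientCompQhIso C).app K) ≪≫
      (DerivedCategory.homologyFunctorFactors C (q : ℤ)).app K)⟩

end Groth.Agent.SSExist
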