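import Groth.Prelude.Def_CohSite
import Mathlib.Algebra.DirectSum.Basic
import Mathlib.CategoryTheory.Sites.Over
import Mathlib.CategoryTheory.Sites.Limits
import Mathlib.CategoryTheory.Preadditive.Injective.Preserves

/-!
# Restriction to a localised site preserves injective abelian sheaves
-/

set_option autoImplicit false
set_option linter.style.haveILetI false

open CategoryTheory CategoryTheory.Limits Opposite

namespace Groth.Agent.SSExist

universe u

variable {C : Type u} [SmallCategory C] {X : C}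

/-- The value at `V` of the extension by zero of an abelian presheaf on `C/X`. -/
abbrev ShriekVal (P : (Over X)ᵒᵖ ⥤ AddCommGrpCat.{u}) (V : Cᵒᵖ) : Type u :=
  DirectSum (V.unop ⟶ X) (fun g => P.obj (op (Over.mk g)))

open Classical in
/-- The component inclusion. -/
noncomputable def dof (P : (Over X)ᵒᵖ ⥤ AddCommGrpCat.{u}) (V : Cᵒᵖ) (g : V.unop ⟶ X) :
    (P.obj (op (Over.mk g)) : Type u) →+ ShriekVal P V :=
  DirectSum.of (fun g : V.unop ⟶ X => (P.obj (op (Over.mk g)) : Type u)) g

open Classical in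
/-- Maps out of a direct sum. -/
noncomputable def dto (P : (Over X)ᵒᵖ ⥤ AddCommGrpCat.{u}) (V : Cᵒᵖ) {N : Type u} [AddCommMonoid N]
    (f : ∀ g : V.unop ⟶ X, (P.obj (op (Over.mk g)) : Type u) →+ N) : ShriekVal P V →+ N :=
  DirectSum.toAddMonoid f

lemma dto_of (P : (Over X)ᵒᵖ ⥤ AddCommGrpCat.{u}) (V : Cᵒᵖ) {N : Type u} [AddCommMonoid N]
    (f : ∀ g : V.unop ⟶ X, (P.obj (op (Over.mk g)) : Type u) →+ N) (g : V.unop ⟶ X) (x : P.obj (op (Over.mk g))) :
    dto P V f (dof P V g x) = f g x := by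
  classical
  exact DirectSum.toAddMonoid_of (β := fun g : V.unop ⟶ X => (P.obj (op (Over.mk g)) : Type u)) f g x

lemma dof_ext {P : (Over X)ᵒᵖ ⥤ AddCommGrpCat.{u}} {V : Cᵒᵖ} {N : Type u} [AddCommMonoid N]
    {f f' : ShriekVal P V →+ N} (h : ∀ g x, f (dof P V g x) = f' (dof P V g x)) : f = f' := by
  classical
  exact DirectSum.addHom_ext h

/-- Restriction maps of the extension by zero. -/
noncomputable def rstr (P : (Over X)ᵒᵖ ⥤ AddCommGrpCat.{u}) {V W : Cᵒᵖ} (k : V ⟶ W) :
    ShriekVal P V →+ ShriekVal P W :=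
  dto P V fun g => (dof P W (k.unop ≫ g)).comp
    (P.map (Over.homMk k.unop rfl : Over.mk (k.unop ≫ g) ⟶ Over.mk g).op).hom

lemma rstr_of (P : (Over X)ᵒᵖ ⥤ AddCommGrpCat.{u}) {V W : Cᵒᵖ} (k : V ⟶ W) (g : V.unop ⟶ X)
    (x : P.obj (op (Over.mk g))) :
    rstr P k (dof P V g x) =
      dof P W (k.unop ≫ g) (P.map (Over.homMk k.unop rfl : Over.mk (k.unop ≫ g) ⟶ Over.mk g).op x) :=
  dto_of P V _ g x

lemma dof_congr (P : (Over X)ᵒᵖ ⥤ AddCommGrpCat.{u}) (V : Cᵒᵖ) {A : Over X} (g' g'' : V.unop ⟶ X) (h : g' = g'')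
    (a : (Over.mk g' : Over X) ⟶ A) (b : (Over.mk g'' : Over X) ⟶ A) (hab : a.left = b.left) (x : P.obj (op A)) :
    dof P V g' (P.map a.op x) = dof P V g'' (P.map b.op x) := by
  subst h
  rw [Over.OverMorphism.ext hab]

/-- Extension by zero of an abelian presheaf on `C/X`. -/
noncomputable def shriekPre (P : (Over X)ᵒᵖ ⥤ AddCommGrpCat.{u}) : Cᵒᵖ ⥤ AddCommGrpCat.{u} where
  obj V := AddCommGrpCat.of (ShriekVal P V)
  map k := AddCommGrpCat.ofHom (rstr P k)
  map_id V := by
    refine AddCommGrpCat.hom_ext (dof_ext fun g x => (rstr_of P (𝟙 V) g x).trans ?_)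
    refine (dof_congr P V (A := Over.mk g) _ g (Category.id_comp g) _ (𝟙 _) rfl x).trans ?_
    exact congrArg (dof P V g) (ConcreteCategory.congr_hom (P.map_id _) x)
  map_comp {V W Z} k l := by
    refine AddCommGrpCat.hom_ext (dof_ext fun g x => (rstr_of P (k ≫ l) g x).trans ?_)
    refine Eq.trans ?_ ((congrArg (rstr P l) (rstr_of P k g x)).trans (rstr_of P l _ _)).symm
    refine (dof_congr P Z (A := Over.mk g) _ (l.unop ≫ k.unop ≫ g) (Category.assoc _ _ _) _
      ((Over.homMk l.unop rfl : (Over.mk (l.unop ≫ k.unop ≫ g) : Over X) ⟶ Over.mk (k.unop ≫ g)) ≫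
        Over.homMk k.unop rfl) rfl x).trans ?_
    exact congrArg (dof P Z _) (ConcreteCategory.congr_hom (P.map_comp _ _) x)

/-- The inclusion of the identity component. -/
noncomputable def shriekUnit (P : (Over X)ᵒᵖ ⥤ AddCommGrpCat.{u}) : P ⟶ (Over.forget X).op ⋙ shriekPre P where
  app A := AddCommGrpCat.ofHom (dof P (op A.unop.left) A.unop.hom)
  naturality {A B} f := by
    ext x
    refine Eq.trans ?_ (rstr_of P f.unop.left.op A.unop.hom x).symm
    exact dof_congr P (op B.unop.left) B.unop.hom (f.unop.left ≫ A.unop.hom) (Over.w f.unop).symm f.unop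
      (Over.homMk f.unop.left rfl) rfl x

/-- The components of a morphism into a restricted presheaf. -/
abbrev fam {P : (Over X)ᵒᵖ ⥤ AddCommGrpCat.{u}} {G : Cᵒᵖ ⥤ AddCommGrpCat.{u}}
    (φ : P ⟶ (Over.forget X).op ⋙ G) (V : Cᵒᵖ) (g : V.unop ⟶ X) :
    (P.obj (op (Over.mk g)) : Type u) →+ (G.obj V : Type u) :=
  (φ.app (op (Over.mk g))).hom

/-- Morphisms out of the extension by zero. -/
noncomputable def shriekDesc {P : (Over X)ᵒᵖ ⥤ AddCommGrpCat.{u}} {G : Cᵒᵖ ⥤ AddCommGrpCat.{u}}
    (φ : P ⟶ (Over.forget X).op ⋙ G) : shriekPre P ⟶ G where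
  app V := AddCommGrpCat.ofHom (dto P V (fam φ V))
  naturality {V W} k := by
    refine AddCommGrpCat.hom_ext (dof_ext fun g x => ?_)
    refine ((congrArg _ (rstr_of P k g x)).trans (dto_of P W (fam φ W) _ _)).trans ?_
    refine Eq.trans ?_ (congrArg (G.map k) (dto_of P V (fam φ V) g x)).symm
    exact ConcreteCategory.congr_hom
      (φ.naturality (Over.homMk k.unop rfl : Over.mk (k.unop ≫ g) ⟶ Over.mk g).op) x

lemma shriekUnit_desc {P : (Over X)ᵒᵖ ⥤ AddCommGrpCat.{u}} {G : Cᵒᵖ ⥤ AddCommGrpCat.{u}}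
    (φ : P ⟶ (Over.forget X).op ⋙ G) : shriekUnit P ≫ Functor.whiskerLeft _ (shriekDesc φ) = φ := by
  ext A x
  exact dto_of P (op A.unop.left) (fam φ (op A.unop.left)) _ x

/-- Functoriality of the extension by zero. -/
noncomputable def shriekMap {P Q : (Over X)ᵒᵖ ⥤ AddCommGrpCat.{u}} (φ : P ⟶ Q) : shriekPre P ⟶ shriekPre Q :=
  shriekDesc (φ ≫ shriekUnit Q)

lemma mono_shriekMap {P Q : (Over X)ᵒᵖ ⥤ AddCommGrpCat.{u}} (φ : P ⟶ Q) [Mono φ] : Mono (shriekMap φ) := by
  classical
  haveI : ∀ V, Mono ((shriekMap φ).app V) := fun V => by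
    rw [AddCommGrpCat.mono_iff_injective]
    let m := DFinsupp.mapRange.addMonoidHom (β₁ := fun g : V.unop ⟶ X => (P.obj (op (Over.mk g)) : Type u))
      (β₂ := fun g : V.unop ⟶ X => (Q.obj (op (Over.mk g)) : Type u)) (fun g => (φ.app (op (Over.mk g))).hom)
    have hm' : ((shriekMap φ).app V).hom = m := by
      refine dof_ext fun g x => ?_
      refine (dto_of P _ _ g x).trans ?_
      exact (DFinsupp.mapRange_single (hf := fun i => map_zero (φ.app (op (Over.mk i))).hom)).symm
    have hm : ∀ z : ShriekVal P V, (shriekMap φ).app V z = m z := fun z => DFunLike.congr_fun hm' z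
    intro a b h
    have h' : m a = m b := (hm a).symm.trans (h.trans (hm b))
    refine DFinsupp.ext fun g => ?_
    exact (AddCommGrpCat.mono_iff_injective (φ.app (op (Over.mk g)))).1 inferInstance
      ((DFinsupp.mapRange_apply _ (fun i => map_zero (φ.app (op (Over.mk i))).hom) a g).symm.trans
        ((congrArg (fun w : ShriekVal Q V => w g) h').trans
        (DFinsupp.mapRange_apply _ (fun i => map_zero (φ.app (op (Over.mk i))).hom) b g)))
  exact NatTrans.mono_of_mono_app _

/-- Restriction to `C/X` keeps injective abelian sheaves injective. -/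
lemma injective_restrictOver (J : GrothendieckTopology C) (X : C) (I : Sheaf J AddCommGrpCat.{u}) [Injective I] :
    Injective ((CohSite.push J (J.over X) (Over.forget X)).obj I) where
  factors {A B} φ f hf := by
    haveI : Mono f.hom := (sheafToPresheaf (J.over X) AddCommGrpCat.{u}).map_mono f
    haveI := mono_shriekMap f.hom
    let adj := sheafificationAdjunction J AddCommGrpCat.{u}
    let d : shriekPre A.obj ⟶ I.obj := shriekDesc φ.hom
    let χ := Injective.factorThru ((adj.homEquiv _ I).symm d) ((presheafToSheaf J _).map (shriekMap f.hom))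
    let d' : shriekPre B.obj ⟶ I.obj := adj.homEquiv _ I χ
    have hd : shriekMap f.hom ≫ d' = d :=
      (adj.homEquiv_naturality_left _ χ).symm.trans
        ((congrArg _ (Injective.comp_factorThru _ _)).trans (Equiv.apply_symm_apply _ _))
    refine ⟨⟨shriekUnit B.obj ≫ Functor.whiskerLeft _ d'⟩, ?_⟩
    apply ObjectProperty.hom_ext
    have h₁ : shriekUnit A.obj ≫ Functor.whiskerLeft _ (shriekMap f.hom) = f.hom ≫ shriekUnit B.obj :=
      shriekUnit_desc _
    have h₂ : shriekUnit A.obj ≫ Functor.whiskerLeft _ d = φ.hom := shriekUnit_desc _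
    show f.hom ≫ shriekUnit B.obj ≫ Functor.whiskerLeft _ d' = φ.hom
    rw [← h₂, ← hd, Functor.whiskerLeft_comp, ← Category.assoc, ← h₁, Category.assoc]

end Groth.Agent.SSExist
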