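import Groth.Agent.SSExist.ModSupp
import Groth.Prelude.Def_ToposFin2
import Mathlib.CategoryTheory.Sites.LocallySurjective

/-!
# The abelian sheaf `ℤ/ℤ_U` and sections with support
-/

set_option autoImplicit false
set_option linter.style.haveILetI false

open CategoryTheory CategoryTheory.Limits Opposite MonoidalCategory

namespace Groth.Agent.SSExist

universe u

open Groth.Agent.ModGroth

variable {C : Type u} [SmallCategory C] (J : GrothendieckTopology C)

/-- The underlying presheaf of the terminal sheaf of sets is terminal on each object. -/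
noncomputable def termUnique (V : Cᵒᵖ) : Unique ((⊤_ (Sheaf J (Type u))).obj.obj V) :=
  Types.isTerminalEquivUnique _
    (terminalIsTerminal.isTerminalObj (sheafToPresheaf J (Type u) ⋙ (evaluation Cᵒᵖ (Type u)).obj V)
      (⊤_ (Sheaf J (Type u))))

/-- `ℤ` is the free abelian group on a point, as presheaves. -/
noncomputable def constFreeTermIso :
    (Functor.const Cᵒᵖ).obj (AddCommGrpCat.of (ULift.{u} ℤ)) ≅
      (⊤_ (Sheaf J (Type u))).obj ⋙ AddCommGrpCat.free.{u} :=
  NatIso.ofComponents
    (fun V =>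
      letI := termUnique J V
      AddEquiv.toAddCommGrpIso (X := AddCommGrpCat.of (ULift.{u} ℤ))
        (Y := AddCommGrpCat.free.obj ((⊤_ (Sheaf J (Type u))).obj.obj V))
        (AddEquiv.ulift.trans (FreeAbelianGroup.uniqueEquiv _).symm))
    (fun {V W} f => by
      ext n
      letI := termUnique J V
      letI := termUnique J W
      show n.down • FreeAbelianGroup.of (Inhabited.default : (⊤_ (Sheaf J (Type u))).obj.obj W) =
        FreeAbelianGroup.map ((⊤_ (Sheaf J (Type u))).obj.map f)
          (n.down • FreeAbelianGroup.of (Inhabited.default : (⊤_ (Sheaf J (Type u))).obj.obj V))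
      rw [map_zsmul]
      refine congrArg (n.down • ·) ?_
      exact (congrArg FreeAbelianGroup.of (Subsingleton.elim _ _)).trans (FreeAbelianGroup.lift_apply_of _ _).symm)

/-- The constant sheaf `ℤ` is free on the terminal sheaf. -/
noncomputable def constZIso : constZ J ≅ (ToposFin.freeAb J).obj (⊤_ (Sheaf J (Type u))) :=
  (presheafToSheaf J AddCommGrpCat.{u}).mapIso (constFreeTermIso J)

/-- The presheaf map `ℤ[U] ⟶ ℤ`. -/
noncomputable abbrev quotZPre (U : C) :
    (ToposFin.eps J U).obj ⋙ AddCommGrpCat.free.{u} ⟶ (⊤_ (Sheaf J (Type u))).obj ⋙ AddCommGrpCat.free.{u} :=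
  Functor.whiskerRight (terminal.from (ToposFin.eps J U)).hom AddCommGrpCat.free.{u}

lemma quotZPre_inv_of (U : C) (V : Cᵒᵖ) (x : (ToposFin.eps J U).obj.obj V) :
    (constFreeTermIso J).inv.app V ((quotZPre J U).app V (FreeAbelianGroup.of x)) = ULift.up.{u} (1 : ℤ) := by
  letI := termUnique J V
  have h : (quotZPre J U).app V (FreeAbelianGroup.of x) =
      (constFreeTermIso J).hom.app V (ULift.up.{u} (1 : ℤ)) :=
    ((FreeAbelianGroup.lift_apply_of _ _).trans (congrArg FreeAbelianGroup.of (Subsingleton.elim _ _))).trans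
      (one_zsmul _).symm
  rw [h]
  exact ConcreteCategory.congr_hom ((constFreeTermIso J).hom_inv_id_app V) _

lemma tfPre_cokernel_quotZPre (U : C) : TFPre (cokernel (quotZPre J U)) := by
  intro V m x hm hx
  letI := termUnique J V
  let w := quotZPre J U
  let S := ShortComplex.mk w (cokernel.π w) (cokernel.condition w)
  have hS : S.Exact := ShortComplex.exact_of_g_is_cokernel _ (cokernelIsCokernel w)
  haveI : Epi S.g := inferInstanceAs (Epi (cokernel.π w))
  have hS' := hS.map_of_epi_of_preservesCokernel ((evaluation Cᵒᵖ AddCommGrpCat.{u}).obj V) inferInstance inferInstance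
  have hex := (ShortComplex.ab_exact_iff _).1 hS'
  haveI : Epi ((cokernel.π w).app V) := inferInstance
  obtain ⟨y, rfl⟩ := (AddCommGrpCat.epi_iff_surjective ((cokernel.π w).app V)).1 inferInstance x
  obtain ⟨z, hz⟩ := hex (m • y) ((map_zsmul ((cokernel.π w).app V).hom m y).trans hx)
  have hw : ∀ a, (cokernel.π w).app V (w.app V a) = 0 := fun a =>
    ConcreteCategory.congr_hom (NatTrans.congr_app (cokernel.condition w) V) a
  let e : ((⊤_ (Sheaf J (Type u))).obj ⋙ AddCommGrpCat.free.{u}).obj V ≃+ ℤ := FreeAbelianGroup.uniqueEquiv _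
  by_cases h : Nonempty ((ToposFin.eps J U).obj.obj V)
  · obtain ⟨a⟩ := h
    have hy : y = e y • w.app V (FreeAbelianGroup.of a) := by
      refine (e.symm_apply_apply y).symm.trans ?_
      refine congrArg (fun b : ((⊤_ (Sheaf J (Type u))).obj ⋙ AddCommGrpCat.free.{u}).obj V => e y • b) ?_
      exact (congrArg FreeAbelianGroup.of (Subsingleton.elim _ _)).trans (FreeAbelianGroup.lift_apply_of _ _).symm
    rw [hy, map_zsmul, hw, smul_zero]
  · haveI : IsEmpty ((ToposFin.eps J U).obj.obj V) := not_nonempty_iff.1 h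
    have hz0 : z = 0 := Subsingleton.elim (α := FreeAbelianGroup ((ToposFin.eps J U).obj.obj V)) _ _
    rw [hz0, map_zero] at hz
    have h0 : m • e y = 0 := (map_zsmul e m y).symm.trans ((congrArg e hz.symm).trans (map_zero e))
    have hy : y = 0 := (AddEquiv.map_eq_zero_iff e).1 ((smul_eq_zero.1 h0).resolve_left hm)
    rw [hy, map_zero]

/-- `ℤ/ℤ_U` is torsion free. -/
lemma tfPre_quotZ (U : C) : TFPre (ToposFin.quotZ (ToposFin.eps J U)).obj := by
  haveI := (sheafificationAdjunction J AddCommGrpCat.{u}).leftAdjoint_preservesColimits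
  let e : (presheafToSheaf J AddCommGrpCat.{u}).obj (cokernel (quotZPre J U)) ≅ ToposFin.quotZ (ToposFin.eps J U) :=
    PreservesCokernel.iso (presheafToSheaf J AddCommGrpCat.{u}) (quotZPre J U)
  exact tfPre_of_mono ((sheafToPresheaf J AddCommGrpCat.{u}).map e.inv)
    (tfPre_presheafToSheaf _ (tfPre_cokernel_quotZPre J U))

variable {J} {O : Sheaf J CommRingCat.{u}} (U : C)

lemma van_unit_iff {F : ModSite.Mod O} (φ : ModSite.unit O ⟶ F) :
    Van U φ ↔ ∀ ⦃V : C⦄ (_ : V ⟶ U), φ.val.app (op V) (1 : O.obj.obj (op V)) = 0 := by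
  constructor
  · exact fun h V g => h g _
  · intro h V g x
    let e1 : (ModSite.unit O).val.obj (op V) := (1 : O.obj.obj (op V))
    let r : (ModSite.ringSh O).obj.obj (op V) := x
    have hx : x = r • e1 := (mul_one (show O.obj.obj (op V) from x)).symm
    exact (congrArg (φ.val.app (op V)) hx).trans
      (((φ.val.app (op V)).hom.map_smul r e1).trans ((congrArg (r • ·) (h g)).trans (smul_zero r)))

lemma quotZ_comp_eq_zero_iff {F : ModSite.Mod O} (φ : ModSite.unit O ⟶ F) :
    (ToposFin.freeAb J).map (terminal.from (ToposFin.eps J U)) ≫ (constZIso J).inv ≫ unitToConst O F φ = 0 ↔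
      Van U φ := by
  let adj := sheafificationAdjunction J AddCommGrpCat.{u}
  let t := adj.homEquiv _ (ModSite.toAb F) (unitToConst O F φ)
  have hval : adj.homEquiv ((ToposFin.eps J U).obj ⋙ AddCommGrpCat.free.{u}) (ModSite.toAb F)
      ((ToposFin.freeAb J).map (terminal.from (ToposFin.eps J U)) ≫ (constZIso J).inv ≫ unitToConst O F φ) =
      quotZPre J U ≫ (constFreeTermIso J).inv ≫ t := by
    refine (adj.homEquiv_naturality_left (quotZPre J U) _).trans ?_
    exact congrArg (quotZPre J U ≫ ·) (adj.homEquiv_naturality_left (constFreeTermIso J).inv _)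
  have hgen : ∀ (V : Cᵒᵖ) (x : (ToposFin.eps J U).obj.obj V),
      (quotZPre J U ≫ (constFreeTermIso J).inv ≫ t).app V (FreeAbelianGroup.of x) =
        φ.val.app V (1 : O.obj.obj V) := fun V x =>
    (congrArg (t.app V) (quotZPre_inv_of J U V x)).trans (unitToConst_app O F φ V)
  have h0 : adj.homEquiv ((ToposFin.eps J U).obj ⋙ AddCommGrpCat.free.{u}) (ModSite.toAb F) 0 = 0 := by
    rw [Adjunction.homEquiv_unit, Functor.map_zero, comp_zero]
  refine (adj.homEquiv ((ToposFin.eps J U).obj ⋙ AddCommGrpCat.free.{u}) (ModSite.toAb F)).apply_eq_iff_eq.symm.trans ?_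
  refine (iff_of_eq (congrArg₂ Eq hval h0)).trans ?_
  rw [van_unit_iff]
  constructor
  · intro h V g
    exact (hgen (op V) ((toSheafify J (yoneda.obj U)).app (op V) g)).symm.trans
      (ConcreteCategory.congr_hom (NatTrans.congr_app h (op V)) _)
  · intro h
    ext V x
    revert x
    intro x
    refine FreeAbelianGroup.induction_on x (map_zero _) (fun y => ?_) (fun y hy => ?_) (fun a b ha hb => ?_)
    · refine (hgen V y).trans ?_
      haveI : Presheaf.IsLocallySurjective J (toSheafify J (yoneda.obj U)) := inferInstance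
      refine eq_zero_of_locally F (Presheaf.imageSieve_mem J (toSheafify J (yoneda.obj U)) (U := V) y) ?_
      intro W k ⟨g, _⟩
      refine (PresheafOfModules.naturality_apply φ.val k.op _).symm.trans ?_
      exact (congrArg (φ.val.app (op W)) (map_one (O.obj.map k.op).hom)).trans (h g)
    · exact (map_neg _ _).trans ((congrArg Neg.neg hy).trans neg_zero)
    · exact (map_add _ _ _).trans ((congrArg₂ (· + ·) ha hb).trans (add_zero _))

/-- Morphisms out of `O/O_U` as morphisms out of `ℤ/ℤ_U`. -/
noncomputable def quotUnitToZ (F : ModSite.Mod O) :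
    ((ModSite.quotOn O U).obj (ModSite.unit O) ⟶ F) →+ (ToposFin.quotZ (ToposFin.eps J U) ⟶ ModSite.toAb F) :=
  AddMonoidHom.mk' (fun κ => cokernel.desc _
      ((constZIso J).inv ≫ unitToConst O F ((ModSite.quotOnπ O U).app _ ≫ κ))
      ((quotZ_comp_eq_zero_iff U _).2 ((counit_comp_eq_zero_iff U _).1
        ((Category.assoc _ _ _).symm.trans ((congrArg (· ≫ κ) (cokernel.condition _)).trans zero_comp)))))
    (fun a b => by
      refine (cancel_epi (cokernel.π ((ToposFin.freeAb J).map (terminal.from (ToposFin.eps J U))))).1 ?_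
      refine (cokernel.π_desc _ _ _).trans ?_
      refine Eq.trans ?_ (Preadditive.comp_add _ _ _ _ _ _).symm
      refine Eq.trans ?_ (congrArg₂ (· + ·) (cokernel.π_desc _ _ _).symm (cokernel.π_desc _ _ _).symm)
      refine Eq.trans ?_ (Preadditive.comp_add _ _ _ _ _ _)
      exact congrArg ((constZIso J).inv ≫ ·)
        ((congrArg (unitToConst O F) (Preadditive.comp_add _ _ _ _ _ _)).trans (map_add _ _ _)))

lemma quotUnitToZ_π (F : ModSite.Mod O) (κ : (ModSite.quotOn O U).obj (ModSite.unit O) ⟶ F) :
    cokernel.π ((ToposFin.freeAb J).map (terminal.from (ToposFin.eps J U))) ≫ quotUnitToZ U F κ =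
      (constZIso J).inv ≫ unitToConst O F ((ModSite.quotOnπ O U).app _ ≫ κ) :=
  cokernel.π_desc _ _ _

lemma quotUnitToZ_bijective (F : ModSite.Mod O) : Function.Bijective (quotUnitToZ U F) := by
  constructor
  · intro a b h
    have h' := (quotUnitToZ_π U F a).symm.trans ((congrArg _ h).trans (quotUnitToZ_π U F b))
    exact (cancel_epi (cokernel.π ((ModSite.extZeroAdj O U).counit.app (ModSite.unit O)))).1
      ((unitToConst_bijective O F).1 ((cancel_epi (constZIso J).inv).1 h'))
  · intro f
    obtain ⟨φ, hφ⟩ := (unitToConst_bijective O F).2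
      ((constZIso J).hom ≫ cokernel.π ((ToposFin.freeAb J).map (terminal.from (ToposFin.eps J U))) ≫ f)
    have hφ' : (constZIso J).inv ≫ unitToConst O F φ =
        cokernel.π ((ToposFin.freeAb J).map (terminal.from (ToposFin.eps J U))) ≫ f :=
      (congrArg ((constZIso J).inv ≫ ·) hφ).trans ((constZIso J).inv_hom_id_assoc _)
    have hv : Van U φ := (quotZ_comp_eq_zero_iff U φ).1 ((congrArg (_ ≫ ·) hφ').trans
      ((Category.assoc _ _ _).symm.trans ((congrArg (· ≫ f) (cokernel.condition _)).trans zero_comp)))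
    refine ⟨cokernel.desc _ φ ((counit_comp_eq_zero_iff U _).2 hv), ?_⟩
    refine (cancel_epi (cokernel.π ((ToposFin.freeAb J).map (terminal.from (ToposFin.eps J U))))).1 ?_
    exact (quotUnitToZ_π U F _).trans
      ((congrArg (fun z => (constZIso J).inv ≫ unitToConst O F z) (cokernel.π_desc _ _ _)).trans hφ')

variable (O) in
/-- `Hom(ℤ/ℤ_U, -) = Hom_O(O/O_U, -)` on modules. -/
noncomputable def quotZCoyIso :
    toAbF O ⋙ coyA (ToposFin.quotZ (ToposFin.eps J U)) ≅
      preadditiveCoyoneda.obj (op ((ModSite.quotOn O U).obj (ModSite.unit O))) :=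
  (NatIso.ofComponents (fun F => AddEquiv.toAddCommGrpIso
    (X := (preadditiveCoyoneda.obj (op ((ModSite.quotOn O U).obj (ModSite.unit O)))).obj F)
    (Y := (toAbF O ⋙ coyA (ToposFin.quotZ (ToposFin.eps J U))).obj F)
    (AddEquiv.ofBijective (quotUnitToZ U F) (quotUnitToZ_bijective U F)))
    (fun {F G} g => by
      ext κ
      refine (cancel_epi (cokernel.π ((ToposFin.freeAb J).map (terminal.from (ToposFin.eps J U))))).1 ?_
      refine (quotUnitToZ_π U G _).trans ?_
      refine Eq.trans ?_ ((congrArg (· ≫ (toAbF O).map g) (quotUnitToZ_π U F κ)).symm.trans (Category.assoc _ _ _))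
      refine Eq.trans ?_ (Category.assoc _ _ _).symm
      refine congrArg ((constZIso J).inv ≫ ·) ?_
      show constToUnit O ≫ (toAbF O).map (_ ≫ κ ≫ g) = (constToUnit O ≫ (toAbF O).map (_ ≫ κ)) ≫ (toAbF O).map g
      rw [Category.assoc (constToUnit O), ← Functor.map_comp, Category.assoc])).symm

variable (O) in
/-- Global sections with support are `Hom(ℤ/ℤ_U, -)`. -/
noncomputable def gammaSectIso [ModSite.HasPushOver O U] :
    ModSite.sectOn O U ⋙ gammaMod O ≅ toAbF O ⋙ coyA (ToposFin.quotZ (ToposFin.eps J U)) :=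
  Functor.isoWhiskerLeft (ModSite.sectOn O U) (unitConstIso O).symm ≪≫ sectQuotIso U (ModSite.unit O) ≪≫
    (quotZCoyIso O U).symm

/-- `H^q_Z` as derived functors of global sections with support on modules. -/
lemma nonempty_HZ_iso [ModSite.HasPushOver O U] [HasInjectiveResolutions (ModSite.Mod O)] (M : ModSite.Mod O) (n : ℕ) :
    Nonempty (AddCommGrpCat.of (ModSite.HZ U M n) ≅
      ((toAbF O ⋙ coyA (ToposFin.quotZ (ToposFin.eps J U))).rightDerived n).obj M) :=
  nonempty_ext_toAb_iso (tfPre_quotZ J U) M n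

section RightDerivedIso

universe v' v'' u' u''

variable {A : Type u'} [Category.{v'} A] [Abelian A] [HasInjectiveResolutions A]
  {B : Type u''} [Category.{v''} B] [Abelian B]

/-- Isomorphic functors have isomorphic right derived functors. -/
noncomputable def rightDerivedIso {F G : A ⥤ B} [F.Additive] [G.Additive] (e : F ≅ G) (n : ℕ) :
    F.rightDerived n ≅ G.rightDerived n where
  hom := NatTrans.rightDerived e.hom n
  inv := NatTrans.rightDerived e.inv n
  hom_inv_id := by rw [← NatTrans.rightDerived_comp, e.hom_inv_id, NatTrans.rightDerived_id]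
  inv_hom_id := by rw [← NatTrans.rightDerived_comp, e.inv_hom_id, NatTrans.rightDerived_id]

end RightDerivedIso

end Groth.Agent.SSExist
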