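import Groth.Agent.SSExist.CohPre
import Mathlib.CategoryTheory.Limits.FunctorCategory.Basic
import Mathlib.CategoryTheory.Sites.LocallyBijective
import Mathlib.CategoryTheory.Sites.LeftExact

/-!
# Higher direct images and colimits
-/

set_option autoImplicit false
set_option linter.style.haveILetI false

open CategoryTheory CategoryTheory.Limits Opposite CategoryTheory.Abelian

namespace Groth.Agent.SSExist

universe u

variable {C : Type u} [SmallCategory C] {J : GrothendieckTopology C}

lemma homologyToCoh_naturality {M M' : Sheaf J AddCommGrpCat.{u}} {R : InjectiveResolution M}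
    {R' : InjectiveResolution M'} {g : M ⟶ M'} (φ : InjectiveResolution.Hom R R' g) (n : ℕ) :
    HomologicalComplex.homologyMap (((sheafToPresheaf J AddCommGrpCat.{u}).mapHomologicalComplex
        (ComplexShape.up ℕ)).map φ.hom) n ≫ homologyToCoh R' n =
      homologyToCoh R n ≫ (Sheaf.cohomologyPresheafFunctor J n).map g := by
  refine (cancel_epi ((preCx R).homologyπ n)).1 ?_
  rw [← Category.assoc, HomologicalComplex.homologyπ_naturality, Category.assoc, π_homologyToCoh,
    ← Category.assoc, π_homologyToCoh]
  ext V z
  refine Eq.trans ?_ (InjectiveResolution.extMk_comp_mk₀ _ (n + 1) rfl (preCycles_cond R n V z) φ).symm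
  refine extMk_congr' R' n ?_ (preCycles_cond R' n V _) _
  exact (congrArg (ofSec V.unop (R'.cocomplex.X n)) (ConcreteCategory.congr_hom (NatTrans.congr_app
    (HomologicalComplex.cyclesMap_i (((sheafToPresheaf J AddCommGrpCat.{u}).mapHomologicalComplex
      (ComplexShape.up ℕ)).map φ.hom) n) V) z)).trans (ofSec_comp _ _).symm

/-- Derived functors of an exact functor of the underlying presheaf, naturally. -/
noncomputable def rightDerivedOfExactIso {B : Type (u + 1)} [Category.{u} B] [Abelian B]
    (T : Sheaf J AddCommGrpCat.{u} ⥤ B) [T.Additive] (G : (Cᵒᵖ ⥤ AddCommGrpCat.{u}) ⥤ B) [G.Additive]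
    [PreservesFiniteLimits G] [PreservesFiniteColimits G]
    (e : T ≅ sheafToPresheaf J AddCommGrpCat.{u} ⋙ G) (n : ℕ) :
    T.rightDerived n ≅ Sheaf.cohomologyPresheafFunctor J n ⋙ G :=
  NatIso.ofComponents
    (fun M => (injectiveResolution M).isoRightDerivedObj T n ≪≫
      (HomologicalComplex.homologyFunctor B (ComplexShape.up ℕ) n).mapIso
        ((NatIso.mapHomologicalComplex e (ComplexShape.up ℕ)).app _) ≪≫
      ((preCx (injectiveResolution M)).sc n).mapHomologyIso G ≪≫
      G.mapIso (@asIso _ _ _ _ (homologyToCoh (injectiveResolution M) n) (isIso_homologyToCoh _ n)))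
    (fun {M M'} g => by
      let φ : InjectiveResolution.Hom (injectiveResolution M) (injectiveResolution M') g :=
        { hom := InjectiveResolution.desc g (injectiveResolution M') (injectiveResolution M)
          ι_f_zero_comp_hom_f_zero := (InjectiveResolution.desc_commutes_zero g _ _).trans
            (congrArg (· ≫ _) (CochainComplex.single₀_map_f_zero g).symm) }
      have h1 := InjectiveResolution.isoRightDerivedObj_hom_naturality g (injectiveResolution M)
        (injectiveResolution M') φ.hom (InjectiveResolution.desc_commutes_zero g _ _) T n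
      let ψ := ((sheafToPresheaf J AddCommGrpCat.{u}).mapHomologicalComplex (ComplexShape.up ℕ)).map φ.hom
      let H := HomologicalComplex.homologyFunctor B (ComplexShape.up ℕ) n
      have h2 : H.map ((T.mapHomologicalComplex (ComplexShape.up ℕ)).map φ.hom) ≫
          H.map ((NatIso.mapHomologicalComplex e (ComplexShape.up ℕ)).hom.app (injectiveResolution M').cocomplex) =
          H.map ((NatIso.mapHomologicalComplex e (ComplexShape.up ℕ)).hom.app (injectiveResolution M).cocomplex) ≫
            H.map ((G.mapHomologicalComplex (ComplexShape.up ℕ)).map ψ) := by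
        rw [← H.map_comp, ← H.map_comp]
        exact congrArg H.map ((NatIso.mapHomologicalComplex e (ComplexShape.up ℕ)).hom.naturality φ.hom)
      have h3 : H.map ((G.mapHomologicalComplex (ComplexShape.up ℕ)).map ψ) ≫
          (((preCx (injectiveResolution M')).sc n).mapHomologyIso G).hom =
          (((preCx (injectiveResolution M)).sc n).mapHomologyIso G).hom ≫
            G.map (HomologicalComplex.homologyMap ψ n) :=
        ShortComplex.mapHomologyIso_hom_naturality
          ((HomologicalComplex.shortComplexFunctor (Cᵒᵖ ⥤ AddCommGrpCat.{u}) (ComplexShape.up ℕ) n).map ψ) G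
      change (T.rightDerived n).map g ≫ ((injectiveResolution M').isoRightDerivedObj T n).hom ≫
          H.map ((NatIso.mapHomologicalComplex e (ComplexShape.up ℕ)).hom.app _) ≫
          (((preCx (injectiveResolution M')).sc n).mapHomologyIso G).hom ≫
          G.map (homologyToCoh (injectiveResolution M') n) =
        (((injectiveResolution M).isoRightDerivedObj T n).hom ≫
          H.map ((NatIso.mapHomologicalComplex e (ComplexShape.up ℕ)).hom.app _) ≫
          (((preCx (injectiveResolution M)).sc n).mapHomologyIso G).hom ≫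
          G.map (homologyToCoh (injectiveResolution M) n)) ≫ G.map ((Sheaf.cohomologyPresheafFunctor J n).map g)
      rw [reassoc_of% h1]
      simp only [Category.assoc]
      refine congrArg (_ ≫ ·) ?_
      refine ((Category.assoc _ _ _).symm.trans ((congrArg (· ≫ _) h2).trans (Category.assoc _ _ _))).trans ?_
      refine congrArg (_ ≫ ·) ?_
      refine ((Category.assoc _ _ _).symm.trans ((congrArg (· ≫ _) h3).trans (Category.assoc _ _ _))).trans ?_
      refine congrArg (_ ≫ ·) ?_
      exact (G.map_comp _ _).symm.trans ((congrArg G.map (homologyToCoh_naturality φ n)).trans (G.map_comp _ _)))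

variable {D : Type u} [SmallCategory D] (K : GrothendieckTopology D) (u : D ⥤ C) [u.IsContinuous K J]

/-- Higher direct images commute with a colimit that cohomology commutes with locally. -/
theorem preservesColimit_rightDerived_push [(u.sheafPushforwardContinuous AddCommGrpCat.{u} K J).Additive]
    {ι : Type u} [SmallCategory ι] (F : ι ⥤ Sheaf J AddCommGrpCat.{u}) (p : ℕ)
    (h : ∀ V : D, ∃ (κ : Type u) (Y : κ → D) (g : ∀ k, Y k ⟶ V), Sieve.ofArrows Y g ∈ K V ∧
      ∀ k, PreservesColimit F ((Sheaf.cohomologyPresheafFunctor J p).flip.obj (op (u.obj (Y k))))) :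
    PreservesColimit F ((u.sheafPushforwardContinuous AddCommGrpCat.{u} K J).rightDerived p) := by
  haveI : (restrSheafify (C := C) K u).Additive := inferInstance
  haveI : PreservesFiniteLimits (restrSheafify (C := C) K u) := comp_preservesFiniteLimits _ _
  haveI : PreservesFiniteColimits (restrSheafify (C := C) K u) := comp_preservesFiniteColimits _ _
  let H : Sheaf J AddCommGrpCat.{u} ⥤ (Dᵒᵖ ⥤ AddCommGrpCat.{u}) :=
    Sheaf.cohomologyPresheafFunctor J p ⋙ (Functor.whiskeringLeft Dᵒᵖ Cᵒᵖ AddCommGrpCat.{u}).obj u.op
  let shf := presheafToSheaf K AddCommGrpCat.{u}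
  suffices PreservesColimit F (H ⋙ shf) from
    preservesColimit_of_natIso F (show H ⋙ shf ≅ _ from
      (rightDerivedOfExactIso _ (restrSheafify K u) (pushIso J K u) p).symm)
  refine ⟨fun {c} hc => ?_⟩
  let θ : colimit (F ⋙ H) ⟶ H.obj c.pt := colimit.desc (F ⋙ H) (H.mapCocone c)
  have hiso : ∀ Y : D, PreservesColimit F ((Sheaf.cohomologyPresheafFunctor J p).flip.obj (op (u.obj Y))) →
      Function.Bijective (θ.app (op Y)) := fun Y hY => by
    let ev := (evaluation Dᵒᵖ AddCommGrpCat.{u}).obj (op Y)
    have h1 : IsColimit (ev.mapCocone (colimit.cocone (F ⋙ H))) := isColimitOfPreserves ev (colimit.isColimit _)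
    have h2 : IsColimit (((Sheaf.cohomologyPresheafFunctor J p).flip.obj (op (u.obj Y))).mapCocone c) :=
      isColimitOfPreserves _ hc
    have h2' : IsColimit (ev.mapCocone (H.mapCocone c)) := h2
    have e : θ.app (op Y) = (h1.coconePointUniqueUpToIso h2').hom := h1.hom_ext fun j =>
      (NatTrans.congr_app (colimit.ι_desc (H.mapCocone c) j) (op Y)).trans
        (IsColimit.comp_coconePointUniqueUpToIso_hom h1 h2' j).symm
    rw [e]
    exact ConcreteCategory.bijective_of_isIso _
  have hloc : Presheaf.IsLocallyInjective K θ ∧ Presheaf.IsLocallySurjective K θ := by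
    refine ⟨⟨fun {V} x y hxy => ?_⟩, ⟨fun {V} s => ?_⟩⟩
    · obtain ⟨κ, Y, g, hg, hk⟩ := h V.unop
      refine K.superset_covering (fun W f hf => ?_) hg
      obtain ⟨W', a, b, ⟨k⟩, rfl⟩ := hf
      have h1 : (colimit (F ⋙ H)).map (g k).op x = (colimit (F ⋙ H)).map (g k).op y :=
        (hiso _ (hk k)).1 (((ConcreteCategory.congr_hom (θ.naturality (g k).op) x).trans
          (congrArg ((H.obj c.pt).map (g k).op) hxy)).trans (ConcreteCategory.congr_hom (θ.naturality (g k).op) y).symm)
      change (colimit (F ⋙ H)).map (a ≫ g k).op x = (colimit (F ⋙ H)).map (a ≫ g k).op y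
      rw [op_comp, Functor.map_comp, ConcreteCategory.comp_apply, ConcreteCategory.comp_apply, h1]
    · obtain ⟨κ, Y, g, hg, hk⟩ := h V
      refine K.superset_covering (fun W f hf => ?_) hg
      obtain ⟨W', a, b, ⟨k⟩, rfl⟩ := hf
      obtain ⟨t, ht⟩ := (hiso _ (hk k)).2 ((H.obj c.pt).map (g k).op s)
      refine ⟨(colimit (F ⋙ H)).map a.op t, ?_⟩
      refine (ConcreteCategory.congr_hom (θ.naturality a.op) t).trans ?_
      exact (congrArg ((H.obj c.pt).map a.op) ht).trans
        (ConcreteCategory.congr_hom ((H.obj c.pt).map_comp (g k).op a.op) s).symm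
  haveI : IsIso (shf.map θ) := (K.W_iff θ).1 ((K.W_iff_isLocallyBijective θ).2 hloc)
  refine ⟨(isColimitOfPreserves shf (colimit.isColimit (F ⋙ H))).ofIsoColimit ?_⟩
  exact Cocone.ext (asIso (shf.map θ)) fun j =>
    (shf.map_comp _ _).symm.trans (congrArg shf.map (colimit.ι_desc (H.mapCocone c) j))

end Groth.Agent.SSExist
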