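import Groth.Agent.SSExist.ModAcyclic

/-!
# Injective modules over a sheaf of rings are totally acyclic as abelian sheaves

The noncommutative version of `Groth.Agent.SSExist.TensInt`.
-/

set_option autoImplicit false
set_option linter.style.haveILetI false

open CategoryTheory CategoryTheory.Limits Opposite CategoryTheory.Abelian
open scoped TensorProduct

namespace Groth.Agent.SSExist.RTens

universe w u

variable {C : Type u} [SmallCategory C] {J : GrothendieckTopology C}

variable (O : Sheaf J RingCat.{u})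

/-- The presheaf `U ↦ O(U) ⊗ E(U)`. -/
noncomputable def tensPsh (E : Cᵒᵖ ⥤ AddCommGrpCat.{u}) : Cᵒᵖ ⥤ AddCommGrpCat.{u} where
  obj X := AddCommGrpCat.of (O.obj.obj X ⊗[ℤ] E.obj X)
  map f := AddCommGrpCat.ofHom
    (TensorProduct.map (O.obj.map f).hom.toAddMonoidHom.toIntLinearMap (E.map f).hom.toIntLinearMap).toAddMonoidHom
  map_id X := by
    apply AddCommGrpCat.hom_ext
    apply DFunLike.ext
    intro z
    induction z using TensorProduct.induction_on with
    | zero => simp
    | tmul a b =>
      show (O.obj.map (𝟙 X)) a ⊗ₜ[ℤ] (E.map (𝟙 X)) b = a ⊗ₜ[ℤ] b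
      simp
    | add a b ha hb => exact (map_add _ _ _).trans ((congrArg₂ (· + ·) ha hb).trans (map_add _ _ _).symm)
  map_comp f g := by
    apply AddCommGrpCat.hom_ext
    apply DFunLike.ext
    intro z
    induction z using TensorProduct.induction_on with
    | zero => exact (map_zero _).trans (map_zero _).symm
    | tmul a b =>
      show (O.obj.map (f ≫ g)) a ⊗ₜ[ℤ] (E.map (f ≫ g)) b =
        (O.obj.map g) (O.obj.map f a) ⊗ₜ[ℤ] (E.map g) (E.map f b)
      simp
    | add a b ha hb => exact (map_add _ _ _).trans ((congrArg₂ (· + ·) ha hb).trans (map_add _ _ _).symm)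

noncomputable instance tensPshModule (E : Cᵒᵖ ⥤ AddCommGrpCat.{u}) (X : Cᵒᵖ) :
    Module (O.obj.obj X) ((tensPsh O E).obj X) :=
  inferInstanceAs (Module (O.obj.obj X) (O.obj.obj X ⊗[ℤ] E.obj X))

/-- The presheaf of modules `U ↦ O(U) ⊗ E(U)`. -/
noncomputable def tensPre (E : Cᵒᵖ ⥤ AddCommGrpCat.{u}) : PresheafOfModules.{u} O.obj :=
  PresheafOfModules.ofPresheaf (tensPsh O E) (by
    intro X Y f r m
    show (tensPsh O E).map f (show (tensPsh O E).obj X from
      (show O.obj.obj X from r) • (show O.obj.obj X ⊗[ℤ] E.obj X from m)) = _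
    induction (show O.obj.obj X ⊗[ℤ] E.obj X from m) using TensorProduct.induction_on with
    | zero =>
      rw [smul_zero]
      exact (map_zero _).trans ((congrArg _ (map_zero ((tensPsh O E).map f).hom)).trans (smul_zero _)).symm
    | tmul a b =>
      show (O.obj.map f) ((show O.obj.obj X from r) * a) ⊗ₜ[ℤ] (E.map f) b =
        ((O.obj.map f) r * (O.obj.map f) a) ⊗ₜ[ℤ] (E.map f) b
      rw [map_mul]
    | add a b ha hb =>
      rw [smul_add]
      exact (map_add _ _ _).trans ((congrArg₂ (· + ·) ha hb).trans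
        ((smul_add _ _ _).symm.trans (congrArg _ (map_add ((tensPsh O E).map f).hom a b).symm))))

/-- The map of presheaves of modules induced by a map of presheaves. -/
noncomputable def tensMap {E E' : Cᵒᵖ ⥤ AddCommGrpCat.{u}} (g : E ⟶ E') : tensPre O E ⟶ tensPre O E' :=
  PresheafOfModules.homMk
    { app := fun X => AddCommGrpCat.ofHom
        ((g.app X).hom.toIntLinearMap.lTensor (O.obj.obj X)).toAddMonoidHom
      naturality := fun X Y f => by
        apply AddCommGrpCat.hom_ext
        apply DFunLike.ext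
        intro z
        induction (show O.obj.obj X ⊗[ℤ] E.obj X from z) using TensorProduct.induction_on with
        | zero => exact (map_zero _).trans (map_zero _).symm
        | tmul a b =>
          show (O.obj.map f) a ⊗ₜ[ℤ] g.app Y (E.map f b) = (O.obj.map f) a ⊗ₜ[ℤ] E'.map f (g.app X b)
          exact congrArg ((O.obj.map f) a ⊗ₜ[ℤ] ·) (ConcreteCategory.congr_hom (g.naturality f) b)
        | add a b ha hb => exact (map_add _ _ _).trans ((congrArg₂ (· + ·) ha hb).trans (map_add _ _ _).symm) }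
    (fun X r m => ((g.app X).hom.toIntLinearMap.baseChange (O.obj.obj X)).map_smul r m)

/-- `x ↦ 1 ⊗ x`. -/
noncomputable def tensUnit (E : Cᵒᵖ ⥤ AddCommGrpCat.{u}) : E ⟶ (PresheafOfModules.toPresheaf _).obj (tensPre O E) where
  app X := AddCommGrpCat.ofHom (AddMonoidHom.mk' (fun x => ((1 : O.obj.obj X) ⊗ₜ[ℤ] x : O.obj.obj X ⊗[ℤ] E.obj X))
    (fun a b => TensorProduct.tmul_add _ a b))
  naturality X Y f := by
    ext x
    show (1 : O.obj.obj Y) ⊗ₜ[ℤ] E.map f x = (O.obj.map f) 1 ⊗ₜ[ℤ] E.map f x
    rw [map_one]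

lemma tensMap_unit {E E' : Cᵒᵖ ⥤ AddCommGrpCat.{u}} (g : E ⟶ E') :
    g ≫ tensUnit O E' = tensUnit O E ≫ (PresheafOfModules.toPresheaf _).map (tensMap O g) := by
  ext X x
  rfl

/-- `r ⊗ x ↦ r • φ x` on sections. -/
noncomputable def tensLift {E : Cᵒᵖ ⥤ AddCommGrpCat.{u}} {H : PresheafOfModules.{u} O.obj} (φ : E ⟶ H.presheaf) (X : Cᵒᵖ) :
    letI : Module (O.obj.obj X) (H.obj X) :=
      inferInstanceAs (Module (O.obj.obj X) (H.obj X))
    O.obj.obj X ⊗[ℤ] E.obj X →ₗ[O.obj.obj X] H.obj X :=
  letI : Module (O.obj.obj X) (H.obj X) :=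
    inferInstanceAs (Module (O.obj.obj X) (H.obj X))
  TensorProduct.AlgebraTensorModule.lift (LinearMap.toSpanSingleton (O.obj.obj X) (E.obj X →ₗ[ℤ] H.obj X)
    (φ.app X).hom.toIntLinearMap)

lemma tensLift_tmul {E : Cᵒᵖ ⥤ AddCommGrpCat.{u}} {H : PresheafOfModules.{u} O.obj} (φ : E ⟶ H.presheaf) (X : Cᵒᵖ)
    (a : O.obj.obj X) (b : E.obj X) :
    tensLift O φ X (a ⊗ₜ[ℤ] b) =
      (show O.obj.obj X from a) • (show H.obj X from φ.app X b) := by
  rfl

/-- The action `r ⊗ x ↦ r • x` composed with an additive map to a presheaf of modules. -/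
noncomputable def tensDesc {E : Cᵒᵖ ⥤ AddCommGrpCat.{u}} {H : PresheafOfModules.{u} O.obj} (φ : E ⟶ H.presheaf) : tensPre O E ⟶ H :=
  PresheafOfModules.homMk
    { app := fun X => AddCommGrpCat.ofHom (tensLift O φ X).toAddMonoidHom
      naturality := fun X Y f => by
        apply AddCommGrpCat.hom_ext
        apply DFunLike.ext
        intro z
        induction (show O.obj.obj X ⊗[ℤ] E.obj X from z) using TensorProduct.induction_on with
        | zero => exact (map_zero _).trans (map_zero _).symm
        | tmul a b =>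
          show tensLift O φ Y ((O.obj.map f) a ⊗ₜ[ℤ] E.map f b) = H.map f (tensLift O φ X (a ⊗ₜ[ℤ] b))
          rw [tensLift_tmul, tensLift_tmul]
          exact (congrArg _ (ConcreteCategory.congr_hom (φ.naturality f) b)).trans (H.map_smul f a _).symm
        | add a b ha hb => exact (map_add _ _ _).trans ((congrArg₂ (· + ·) ha hb).trans (map_add _ _ _).symm) }
    (fun X r m =>
      letI : Module (O.obj.obj X) (H.obj X) :=
        inferInstanceAs (Module (O.obj.obj X) (H.obj X))
      (tensLift O φ X).map_smul r m)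

lemma tensDesc_unit {E : Cᵒᵖ ⥤ AddCommGrpCat.{u}} {H : PresheafOfModules.{u} O.obj} (φ : E ⟶ H.presheaf) :
    tensUnit O E ≫ (PresheafOfModules.toPresheaf _).map (tensDesc O φ) = φ := by
  ext X x
  exact (tensLift_tmul O φ X 1 x).trans (one_smul _ _)

/-- Maps to the abelian sheaf underlying an injective module extend along monos with torsion-free cokernel. -/
lemma exists_extension (I : SheafOfModules.{u} O) [Injective I] (S : ShortComplex (Sheaf J AddCommGrpCat.{u}))
    (hS : S.ShortExact) (h₃ : TFPre S.X₃.obj) (φ : S.X₁ ⟶ (SheafOfModules.toSheaf O).obj I) :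
    ∃ ψ : S.X₂ ⟶ (SheafOfModules.toSheaf O).obj I, S.f ≫ ψ = φ := by
  let g := S.f.hom
  haveI := hS.mono_f
  haveI hg : Mono g := (sheafToPresheaf J AddCommGrpCat.{u}).map_mono S.f
  let T := S.map (sheafToPresheaf J AddCommGrpCat.{u})
  have hT : T.Exact := hS.exact.map_of_mono_of_preservesKernel _ hS.mono_f inferInstance
  have hmono : Mono (tensMap O g) := PresheafOfModules.mono_of_injective fun X => by
    let Q := cokernel g
    have hN : TFPre Q := @tfPre_of_mono _ _ _ _ (cokernel.desc T.f T.g T.zero) hT.mono_cokernelDesc h₃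
    let S' := ShortComplex.mk g (cokernel.π g) (cokernel.condition g)
    have hS' : S'.ShortExact := { exact := S'.exact_of_g_is_cokernel (cokernelIsCokernel g) }
    have h := hS'.map_of_exact ((evaluation Cᵒᵖ AddCommGrpCat.{u}).obj X)
    haveI : Module.IsTorsionFree ℤ (Q.obj X) :=
      .of_smul_eq_zero fun m x h => or_iff_not_imp_left.2 fun hm => hN X m x hm h
    haveI : Module.Flat ℤ (Q.obj X) := inferInstance
    refine LinearMap.lTensor_injective_of_exact_of_flat ((cokernel.π g).app X).hom.toIntLinearMap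
      ((AddCommGrpCat.epi_iff_surjective _).1 h.epi_g) _ ((AddCommGrpCat.mono_iff_injective _).1 h.mono_f) ?_ (O.obj.obj X)
    intro y
    exact ⟨fun hy => (ShortComplex.ab_exact_iff _).1 h.exact y hy,
      fun ⟨x, hx⟩ => hx ▸ ConcreteCategory.congr_hom ((S'.map ((evaluation Cᵒᵖ AddCommGrpCat.{u}).obj X)).zero) x⟩
  let sh := PresheafOfModules.sheafification.{u} (𝟙 O.obj)
  let adjn := PresheafOfModules.sheafificationAdjunction.{u} (𝟙 O.obj)
  haveI : PreservesFiniteLimits sh := inferInstance
  haveI : Mono (sh.map (tensMap O g)) := inferInstance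
  let d : tensPre O S.X₁.obj ⟶ I.val := tensDesc O φ.hom
  let χ := Injective.factorThru ((adjn.homEquiv _ I).symm d) (sh.map (tensMap O g))
  let d' : tensPre O S.X₂.obj ⟶ I.val := adjn.homEquiv _ I χ
  have hd : tensMap O g ≫ d' = d := by
    refine (adjn.homEquiv_naturality_left (tensMap O g) χ).symm.trans ?_
    exact (congrArg _ (Injective.comp_factorThru _ _)).trans (Equiv.apply_symm_apply _ _)
  refine ⟨⟨tensUnit O S.X₂.obj ≫ (PresheafOfModules.toPresheaf _).map d'⟩, ?_⟩
  apply ObjectProperty.hom_ext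
  show g ≫ tensUnit O S.X₂.obj ≫ (PresheafOfModules.toPresheaf _).map d' = φ.hom
  rw [← Category.assoc, tensMap_unit, Category.assoc, ← Functor.map_comp, hd]
  exact tensDesc_unit O φ.hom

/-- The abelian sheaf underlying an injective module is totally acyclic. -/
theorem isTotallyAcyclic_toSheaf (I : SheafOfModules.{u} O) [Injective I] :
    CohCx.IsTotallyAcyclic ((SheafOfModules.toSheaf O).obj I) := fun K p =>
  subsingleton_ext_of_extends ((SheafOfModules.toSheaf O).obj I) (fun A => TFPre A.obj) exists_tf_epi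
    (fun S hS h₂ _ => haveI := hS.mono_f
      haveI : Mono S.f.hom := (sheafToPresheaf J AddCommGrpCat.{u}).map_mono S.f
      tfPre_of_mono S.f.hom h₂)
    (fun S hS _ h₃ φ => exists_extension O I S hS h₃ φ) p _ (tfPre_presheafToSheaf _ (tfPre_free K.obj))

end Groth.Agent.SSExist.RTens
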