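import Groth.Agent.SSExist.GroupTransfer
import Groth.Prelude.Def_CohSite
import Mathlib.CategoryTheory.Sites.Pullback
import Mathlib.CategoryTheory.Sites.Whiskering
import Mathlib.CategoryTheory.Sites.Limits
import Mathlib.CategoryTheory.Preadditive.Injective.Preserves
import Mathlib.CategoryTheory.Adjunction.Unique
import Mathlib.Algebra.Category.Grp.Limits
import Mathlib.Algebra.Category.Grp.FilteredColimits

/-!
# Exactness of the pullback of abelian sheaves along a morphism of topoi

If the pullback of sheaves of sets is left exact, the pullback of abelian sheaves is computed on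
underlying sheaves of sets, hence is left exact, and the direct image preserves injectives.
-/

set_option autoImplicit false
set_option linter.style.haveILetI false

open CategoryTheory CategoryTheory.Limits Opposite

namespace Groth.Agent.SSExist

universe u

variable {C D : Type u} [SmallCategory C] [SmallCategory D] {J : GrothendieckTopology C}
  {K : GrothendieckTopology D}

variable (J) in
/-- The underlying sheaf of sets. -/
noncomputable abbrev fs : Sheaf J AddCommGrpCat.{u} ⥤ Sheaf J (Type u) :=
  sheafCompose J (forget AddCommGrpCat.{u})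

variable (J) in
/-- Sections over `U` of a sheaf of sets. -/
noncomputable abbrev secT (U : Cᵒᵖ) : Sheaf J (Type u) ⥤ Type u :=
  sheafToPresheaf J (Type u) ⋙ (evaluation Cᵒᵖ (Type u)).obj U

/-- Pointwise sum of morphisms into an abelian sheaf. -/
noncomputable def addMor {Q : Sheaf J (Type u)} {A : Sheaf J AddCommGrpCat.{u}}
    (a b : Q ⟶ (fs J).obj A) : Q ⟶ (fs J).obj A :=
  ⟨{ app := fun U => ↾fun z => (show A.obj.obj U from a.hom.app U z) + (show A.obj.obj U from b.hom.app U z)
     naturality := fun U V f => by
      ext z
      refine (congrArg₂ (fun s t : A.obj.obj V => s + t)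
        (ConcreteCategory.congr_hom (a.hom.naturality f) z)
        (ConcreteCategory.congr_hom (b.hom.naturality f) z)).trans ?_
      exact ((A.obj.map f).hom.map_add _ _).symm }⟩

/-- The morphism zero into an abelian sheaf. -/
noncomputable def zeroMor (Q : Sheaf J (Type u)) (A : Sheaf J AddCommGrpCat.{u}) : Q ⟶ (fs J).obj A :=
  ⟨{ app := fun U => ↾fun _ => (0 : A.obj.obj U)
     naturality := fun U V f => by
      ext z
      exact ((A.obj.map f).hom.map_zero).symm }⟩

/-- The opposite of a morphism into an abelian sheaf. -/
noncomputable def negMor {Q : Sheaf J (Type u)} {A : Sheaf J AddCommGrpCat.{u}}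
    (a : Q ⟶ (fs J).obj A) : Q ⟶ (fs J).obj A :=
  ⟨{ app := fun U => ↾fun z => -(show A.obj.obj U from a.hom.app U z)
     naturality := fun U V f => by
      ext z
      refine (congrArg (fun s : A.obj.obj V => -s) (ConcreteCategory.congr_hom (a.hom.naturality f) z)).trans ?_
      exact ((A.obj.map f).hom.map_neg _).symm }⟩

lemma hom_ext_sec {Q R : Sheaf J (Type u)} {a b : Q ⟶ R}
    (h : ∀ U (z : Q.obj.obj U), a.hom.app U z = b.hom.app U z) : a = b := by
  apply ObjectProperty.hom_ext
  ext U z
  exact h U z

noncomputable instance addObjFs (A : Sheaf J AddCommGrpCat.{u}) : AddObj ((fs J).obj A) where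
  grp Q :=
    letI : Add (Q ⟶ (fs J).obj A) := ⟨addMor⟩
    letI : Zero (Q ⟶ (fs J).obj A) := ⟨zeroMor Q A⟩
    letI : Neg (Q ⟶ (fs J).obj A) := ⟨negMor⟩
    { toAdd := inferInstance
      toZero := inferInstance
      toNeg := inferInstance
      nsmul := nsmulRec
      zsmul := zsmulRec
      add_assoc := fun a b c => hom_ext_sec fun U z => add_assoc (G := A.obj.obj U) _ _ _
      zero_add := fun a => hom_ext_sec fun U z => zero_add (M := A.obj.obj U) _
      add_zero := fun a => hom_ext_sec fun U z => add_zero (M := A.obj.obj U) _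
      neg_add_cancel := fun a => hom_ext_sec fun U z => neg_add_cancel (G := A.obj.obj U) _
      add_comm := fun a b => hom_ext_sec fun U z => add_comm (G := A.obj.obj U) _ _ }
  comp_add f a b := rfl

lemma addMor_app {Q : Sheaf J (Type u)} {A : Sheaf J AddCommGrpCat.{u}} (a b : Q ⟶ (fs J).obj A)
    (U : Cᵒᵖ) (z : Q.obj.obj U) : ((a + b).hom.app U z : A.obj.obj U) =
      (show A.obj.obj U from a.hom.app U z) + (show A.obj.obj U from b.hom.app U z) := rfl

/-- An additive morphism of underlying sheaves of sets. -/
noncomputable def liftHom {A B : Sheaf J AddCommGrpCat.{u}} (g : (fs J).obj A ⟶ (fs J).obj B)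
    (hg : ∀ {Q : Sheaf J (Type u)} (a b : Q ⟶ (fs J).obj A), (a + b) ≫ g = a ≫ g + b ≫ g) : A ⟶ B :=
  ⟨{ app := fun U => AddCommGrpCat.ofHom (AddMonoidHom.mk'
        (fun x : A.obj.obj U => (show B.obj.obj U from g.hom.app U x)) (fun x y => by
          obtain ⟨w, rfl, rfl⟩ := exists_pair (secT J U) (A := (fs J).obj A) (B := (fs J).obj A) x y
          exact ConcreteCategory.congr_hom (NatTrans.congr_app (congrArg (·.hom) (hg prod.fst prod.snd)) U) w))
     naturality := fun U V f => by
      ext x
      exact ConcreteCategory.congr_hom (g.hom.naturality f) x }⟩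

lemma fs_liftHom {A B : Sheaf J AddCommGrpCat.{u}} (g : (fs J).obj A ⟶ (fs J).obj B)
    (hg : ∀ {Q : Sheaf J (Type u)} (a b : Q ⟶ (fs J).obj A), (a + b) ≫ g = a ≫ g + b ≫ g) :
    (fs J).map (liftHom g hg) = g := rfl

lemma add_comp_fs {A B : Sheaf J AddCommGrpCat.{u}} (f : A ⟶ B) {Q : Sheaf J (Type u)}
    (a b : Q ⟶ (fs J).obj A) : (a + b) ≫ (fs J).map f = a ≫ (fs J).map f + b ≫ (fs J).map f :=
  hom_ext_sec fun U _ => (f.hom.app U).hom.map_add _ _

variable (J) in
lemma preservesFiniteLimits_fs : PreservesFiniteLimits (fs J) := by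
  haveI : PreservesFiniteLimits (fs J ⋙ sheafToPresheaf J (Type u)) :=
    show PreservesFiniteLimits (sheafToPresheaf J AddCommGrpCat.{u} ⋙
      (Functor.whiskeringRight Cᵒᵖ AddCommGrpCat.{u} (Type u)).obj (forget AddCommGrpCat.{u})) from inferInstance
  exact preservesFiniteLimits_of_reflects_of_preserves (fs J) (sheafToPresheaf J (Type u))

variable (J K) (u : D ⥤ C) [u.IsContinuous K J]
  [PreservesFiniteLimits (u.sheafPullback (Type u) K J)]

/-- Sections over `U` of the pullback of sheaves of sets. -/
noncomputable abbrev pullSec (U : Cᵒᵖ) : Sheaf K (Type u) ⥤ Type u :=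
  u.sheafPullback (Type u) K J ⋙ secT J U

/-- The presheaf of abelian groups underlying the pullback of an abelian sheaf. -/
noncomputable def pullPre (A : Sheaf K AddCommGrpCat.{u}) : Cᵒᵖ ⥤ AddCommGrpCat.{u} where
  obj U := letI := addCommGroupObj (pullSec J K u U) ((fs K).obj A)
    AddCommGrpCat.of ((pullSec J K u U).obj ((fs K).obj A))
  map {U V} f := letI := addCommGroupObj (pullSec J K u U) ((fs K).obj A)
    letI := addCommGroupObj (pullSec J K u V) ((fs K).obj A)
    AddCommGrpCat.ofHom (AddMonoidHom.mk'
      (fun x => (Functor.whiskerLeft (u.sheafPullback (Type u) K J)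
        (Functor.whiskerLeft (sheafToPresheaf J (Type u)) ((evaluation Cᵒᵖ (Type u)).map f))).app ((fs K).obj A) x)
      (fun x y => app_addVal _ _ _ x y))
  map_id U := by
    refine AddCommGrpCat.ext fun x => ?_
    exact ConcreteCategory.congr_hom (((u.sheafPullback (Type u) K J).obj ((fs K).obj A)).obj.map_id U) x
  map_comp f g := by
    refine AddCommGrpCat.ext fun x => ?_
    exact ConcreteCategory.congr_hom (((u.sheafPullback (Type u) K J).obj ((fs K).obj A)).obj.map_comp f g) x

/-- The pullback of an abelian sheaf, built on the pullback of the underlying sheaf of sets. -/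
noncomputable def pullAb : Sheaf K AddCommGrpCat.{u} ⥤ Sheaf J AddCommGrpCat.{u} where
  obj A := ⟨pullPre J K u A, by
    rw [Presheaf.isSheaf_iff_isSheaf_forget J (pullPre J K u A) (forget AddCommGrpCat.{u})]
    exact Presheaf.isSheaf_of_iso_iff (NatIso.ofComponents (fun _ => Iso.refl _) fun _ => rfl) |>.1
      ((u.sheafPullback (Type u) K J).obj ((fs K).obj A)).property⟩
  map {A B} f := ⟨{
    app := fun U => letI := addCommGroupObj (pullSec J K u U) ((fs K).obj A)
      letI := addCommGroupObj (pullSec J K u U) ((fs K).obj B)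
      AddCommGrpCat.ofHom (AddMonoidHom.mk'
        (fun x => (pullSec J K u U).map ((fs K).map f) x)
        (fun x y => map_map_addVal _ _ _ (add_comp_fs f) x y))
    naturality := fun U V g => by
      ext x
      exact ConcreteCategory.congr_hom (((u.sheafPullback (Type u) K J).map ((fs K).map f)).hom.naturality g) x }⟩
  map_id A := by
    ext U x
    exact ConcreteCategory.congr_hom
      ((congrArg (pullSec J K u U).map ((fs K).map_id A)).trans ((pullSec J K u U).map_id _)) x
  map_comp {A B E} f g := by
    ext U x
    exact ConcreteCategory.congr_hom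
      ((congrArg (pullSec J K u U).map ((fs K).map_comp f g)).trans ((pullSec J K u U).map_comp _ _)) x

/-- `pullAb` is computed on underlying sheaves of sets. -/
noncomputable def pullAbCompFs : pullAb J K u ⋙ fs J ≅ fs K ⋙ u.sheafPullback (Type u) K J :=
  NatIso.ofComponents (fun A => (fullyFaithfulSheafToPresheaf J (Type u)).preimageIso
    (NatIso.ofComponents (fun U => Iso.refl _) (fun _ => rfl))) (fun _ => rfl)

lemma transpose_add {Q : Sheaf K (Type u)} {F : Sheaf J AddCommGrpCat.{u}}
    (a b : (u.sheafPullback (Type u) K J).obj Q ⟶ (fs J).obj F) :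
    (u.sheafAdjunctionContinuous (Type u) K J).homEquiv Q _ (a + b) =
      (show Q ⟶ (fs K).obj ((CohSite.push J K u).obj F) from
        (u.sheafAdjunctionContinuous (Type u) K J).homEquiv Q _ a) +
      (show Q ⟶ (fs K).obj ((CohSite.push J K u).obj F) from
        (u.sheafAdjunctionContinuous (Type u) K J).homEquiv Q _ b) := by
  simp only [Adjunction.homEquiv_unit]
  rfl

/-- Additivity of a morphism out of the pullback. -/
lemma map_add_of_pointwise {A : Sheaf K AddCommGrpCat.{u}} {F : Sheaf J AddCommGrpCat.{u}}
    (φ : (pullAb J K u).obj A ⟶ F) {Q : Sheaf K (Type u)} (a b : Q ⟶ (fs K).obj A) :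
    (u.sheafPullback (Type u) K J).map (a + b) ≫ ((pullAbCompFs J K u).inv.app A ≫ (fs J).map φ) =
      (u.sheafPullback (Type u) K J).map a ≫ ((pullAbCompFs J K u).inv.app A ≫ (fs J).map φ) +
      (u.sheafPullback (Type u) K J).map b ≫ ((pullAbCompFs J K u).inv.app A ≫ (fs J).map φ) := by
  refine hom_ext_sec fun U w => ?_
  show (φ.hom.app U).hom ((pullSec J K u U).map (a + b) w) = (φ.hom.app U).hom _ + (φ.hom.app U).hom _
  rw [map_addVal]
  exact (φ.hom.app U).hom.map_add _ _

/-- Transposition from the pullback to the direct image. -/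
noncomputable def toPush {A : Sheaf K AddCommGrpCat.{u}} {F : Sheaf J AddCommGrpCat.{u}}
    (φ : (pullAb J K u).obj A ⟶ F) : A ⟶ (CohSite.push J K u).obj F :=
  liftHom ((u.sheafAdjunctionContinuous (Type u) K J).homEquiv ((fs K).obj A) ((fs J).obj F)
    ((pullAbCompFs J K u).inv.app A ≫ (fs J).map φ)) fun {Q} a b => by
      let adj := u.sheafAdjunctionContinuous (Type u) K J
      refine (adj.homEquiv_naturality_left (a + b) _).symm.trans ?_
      rw [map_add_of_pointwise, transpose_add]
      exact congrArg₂ (· + ·) (adj.homEquiv_naturality_left a _) (adj.homEquiv_naturality_left b _)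

/-- The transpose of the underlying map of a morphism to a direct image. -/
noncomputable abbrev ofPushT {A : Sheaf K AddCommGrpCat.{u}} {F : Sheaf J AddCommGrpCat.{u}}
    (ψ : A ⟶ (CohSite.push J K u).obj F) :
    (u.sheafPullback (Type u) K J).obj ((fs K).obj A) ⟶ (fs J).obj F :=
  ((u.sheafAdjunctionContinuous (Type u) K J).homEquiv ((fs K).obj A) ((fs J).obj F)).symm ((fs K).map ψ)

lemma ofPushT_addVal {A : Sheaf K AddCommGrpCat.{u}} {F : Sheaf J AddCommGrpCat.{u}}
    (ψ : A ⟶ (CohSite.push J K u).obj F) (U : Cᵒᵖ) (x y : (pullSec J K u U).obj ((fs K).obj A)) :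
    ((ofPushT J K u ψ).hom.app U (addVal (pullSec J K u U) ((fs K).obj A) x y) : F.obj.obj U) =
      (show F.obj.obj U from (ofPushT J K u ψ).hom.app U x) +
      (show F.obj.obj U from (ofPushT J K u ψ).hom.app U y) := by
  let adj := u.sheafAdjunctionContinuous (Type u) K J
  obtain ⟨w, rfl, rfl⟩ := exists_pair (pullSec J K u U) x y
  have key : (u.sheafPullback (Type u) K J).map ((prod.fst : (fs K).obj A ⨯ (fs K).obj A ⟶ _) + prod.snd) ≫
      ofPushT J K u ψ =
      (u.sheafPullback (Type u) K J).map prod.fst ≫ ofPushT J K u ψ +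
      (u.sheafPullback (Type u) K J).map prod.snd ≫ ofPushT J K u ψ := by
    apply (adj.homEquiv _ _).injective
    rw [transpose_add, adj.homEquiv_naturality_left, Equiv.apply_symm_apply,
      adj.homEquiv_naturality_left, adj.homEquiv_naturality_left, Equiv.apply_symm_apply]
    exact add_comp_fs ψ _ _
  rw [← map_addVal]
  exact ConcreteCategory.congr_hom (NatTrans.congr_app (congrArg (·.hom) key) U) w

/-- Transposition from the direct image to the pullback. -/
noncomputable def ofPush {A : Sheaf K AddCommGrpCat.{u}} {F : Sheaf J AddCommGrpCat.{u}}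
    (ψ : A ⟶ (CohSite.push J K u).obj F) : (pullAb J K u).obj A ⟶ F :=
  ⟨{ app := fun U => letI := addCommGroupObj (pullSec J K u U) ((fs K).obj A)
      AddCommGrpCat.ofHom (AddMonoidHom.mk'
        (fun x : (pullSec J K u U).obj ((fs K).obj A) => (show F.obj.obj U from (ofPushT J K u ψ).hom.app U x))
        (fun x y => ofPushT_addVal J K u ψ U x y))
     naturality := fun U V f => by
      ext x
      exact ConcreteCategory.congr_hom ((ofPushT J K u ψ).hom.naturality f) x }⟩

/-- The adjunction between `pullAb` and the direct image. -/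
noncomputable def pullAbAdj : pullAb J K u ⊣ CohSite.push J K u :=
  Adjunction.mkOfHomEquiv
    { homEquiv := fun A F =>
        { toFun := toPush J K u
          invFun := ofPush J K u
          left_inv := fun φ => by
            apply (fs J).map_injective
            exact ((u.sheafAdjunctionContinuous (Type u) K J).homEquiv ((fs K).obj A) ((fs J).obj F)).symm_apply_apply
              ((pullAbCompFs J K u).inv.app A ≫ (fs J).map φ)
          right_inv := fun ψ => by
            apply (fs K).map_injective
            exact ((u.sheafAdjunctionContinuous (Type u) K J).homEquiv ((fs K).obj A) ((fs J).obj F)).apply_symm_apply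
              ((fs K).map ψ) }
      homEquiv_naturality_left_symm := fun {A' A F} f g => by
        apply (fs J).map_injective
        exact (u.sheafAdjunctionContinuous (Type u) K J).homEquiv_naturality_left_symm (Y := (fs J).obj F) ((fs K).map f) ((fs K).map g)
      homEquiv_naturality_right := fun {A F F'} f g => by
        apply (fs K).map_injective
        exact (u.sheafAdjunctionContinuous (Type u) K J).homEquiv_naturality_right
          ((pullAbCompFs J K u).inv.app A ≫ (fs J).map f) ((fs J).map g) }

lemma preservesFiniteLimits_pullAb : PreservesFiniteLimits (pullAb J K u) := by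
  haveI := preservesFiniteLimits_fs K
  haveI := preservesFiniteLimits_fs J
  haveI : ReflectsFiniteLimits (fs J) := reflectsFiniteLimits_of_reflectsIsomorphisms _
  haveI : PreservesFiniteLimits (pullAb J K u ⋙ fs J) :=
    preservesFiniteLimits_of_natIso (pullAbCompFs J K u).symm
  exact preservesFiniteLimits_of_reflects_of_preserves (pullAb J K u) (fs J)

/-- The pullback of abelian sheaves is left exact. -/
theorem preservesFiniteLimits_sheafPullback_ab :
    PreservesFiniteLimits (u.sheafPullback AddCommGrpCat.{u} K J) :=
  haveI := preservesFiniteLimits_pullAb J K u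
  preservesFiniteLimits_of_natIso
    ((pullAbAdj J K u).leftAdjointUniq (u.sheafAdjunctionContinuous AddCommGrpCat.{u} K J))

/-- The direct image preserves injective objects. -/
theorem preservesInjectiveObjects_push : (CohSite.push J K u).PreservesInjectiveObjects :=
  haveI := preservesFiniteLimits_pullAb J K u
  Functor.preservesInjectiveObjects_of_adjunction_of_preservesMonomorphisms (pullAbAdj J K u)

end Groth.Agent.SSExist
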