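import Groth.Agent.SSExist.TotAcOps
import Groth.Agent.S6161

/-!
# Čech complexes of epimorphisms of sheaves of sets
-/

set_option autoImplicit false
set_option linter.style.haveILetI false

open CategoryTheory CategoryTheory.Limits Opposite CategoryTheory.Abelian AlgebraicTopology Simplicial

namespace Groth.Agent.SSExist

section General

universe v u

variable {A : Type u} [Category.{v} A] [Abelian A]

/-- A quasi-isomorphism to an object in degree zero gives exactness in positive degrees. -/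
lemma exact_succ_of_quasiIso (P : ChainComplex A ℕ) {Z : A} (π : P ⟶ (ChainComplex.single₀ A).obj Z) [QuasiIso π]
    (n : ℕ) : (ShortComplex.mk _ _ (P.d_comp_d (n + 2) (n + 1) n)).Exact := by
  have h : P.ExactAt (n + 1) := by
    rw [← quasiIsoAt_iff_exactAt' π (n + 1) (ChainComplex.exactAt_succ_single_obj _ _)]
    infer_instance
  exact ((HomologicalComplex.exactAt_iff' _ (n + 2) (n + 1) n) (by simp) (by simp)).1 h

lemma d_comp_aug (P : ChainComplex A ℕ) {Z : A} (π : P ⟶ (ChainComplex.single₀ A).obj Z) :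
    P.d 1 0 ≫ π.f 0 = 0 := by
  rw [← π.comm 1 0, HomologicalComplex.single_obj_d, comp_zero]

set_option backward.isDefEq.respectTransparency.types false in
set_option backward.defeqAttrib.useBackward true in
/-- The augmentation of a resolution is a cokernel of the first differential. -/
noncomputable def augIsCokernel (P : ChainComplex A ℕ) {Z : A} (π : P ⟶ (ChainComplex.single₀ A).obj Z)
    [QuasiIso π] : IsColimit (CokernelCofork.ofπ (π.f 0) (d_comp_aug P π)) := by
  refine IsColimit.ofIsoColimit (P.opcyclesIsCokernel 1 0 (by simp)) ?_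
  refine Cofork.ext (P.isoHomologyι₀.symm ≪≫ isoOfQuasiIsoAt π 0 ≪≫
    HomologicalComplex.singleObjHomologySelfIso _ _ _) ?_
  rw [← cancel_mono (HomologicalComplex.singleObjHomologySelfIso (ComplexShape.down ℕ) 0 _).inv,
    ← cancel_mono (ChainComplex.isoHomologyι₀ _).hom]
  dsimp
  simp only [ChainComplex.isoHomologyι₀_inv_naturality_assoc, HomologicalComplex.p_opcyclesMap_assoc,
    ChainComplex.single₀_obj_zero, Category.assoc, Iso.hom_inv_id, Category.comp_id,
    HomologicalComplex.isoHomologyι_inv_hom_id, HomologicalComplex.singleObjHomologySelfIso_inv_homologyι,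
    HomologicalComplex.singleObjOpcyclesSelfIso_hom, ChainComplex.single₀ObjXSelf, Iso.refl_inv, Category.id_comp]

end General

universe u

variable {C : Type u} [SmallCategory C] {J : GrothendieckTopology C} {K' K : Sheaf J (Type u)} (f : K' ⟶ K)

/-- The free augmented Čech nerve. -/
noncomputable abbrev freeAug : SimplicialObject.Augmented (Sheaf J AddCommGrpCat.{u}) :=
  ((SimplicialObject.Augmented.whiskering _ _).obj (Sheaf.composeAndSheafify J AddCommGrpCat.free.{u})).obj
    (Arrow.mk f).augmentedCechNerve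

/-- The complex of free sheaves on the Čech nerve. -/
noncomputable abbrev freeNerve : ChainComplex (Sheaf J AddCommGrpCat.{u}) ℕ :=
  (alternatingFaceMapComplex _).obj (SimplicialObject.Augmented.drop.obj (freeAug f))

/-- The augmentation to the free sheaf on the target. -/
noncomputable abbrev freeEps : (freeNerve f).X 0 ⟶ (ToposFin.freeAb J).obj K :=
  (ToposFin.freeAb J).map ((Arrow.mk f).augmentedCechNerve.hom.app (op ⦋0⦌))

lemma eps_f_zero : ((AlternatingFaceMapComplex.ε).app (freeAug f)).f 0 = freeEps f :=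
  AlternatingFaceMapComplex.ε_app_f_zero _

lemma freeNerve_exact [Epi f] (n : ℕ) :
    (ShortComplex.mk _ _ ((freeNerve f).d_comp_d (n + 2) (n + 1) n)).Exact :=
  haveI := S6161.main J f
  exact_succ_of_quasiIso (freeNerve f) ((AlternatingFaceMapComplex.ε).app (freeAug f)) n

lemma exists_desc_eps [Epi f] {F : Sheaf J AddCommGrpCat.{u}} (a : (freeNerve f).X 0 ⟶ F)
    (ha : (freeNerve f).d 1 0 ≫ a = 0) : ∃ b : (ToposFin.freeAb J).obj K ⟶ F, freeEps f ≫ b = a := by
  haveI := S6161.main J f
  let h := augIsCokernel (freeNerve f) ((AlternatingFaceMapComplex.ε).app (freeAug f))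
  refine ⟨h.desc (CokernelCofork.ofπ a ha), ?_⟩
  rw [← eps_f_zero]
  exact h.fac _ WalkingParallelPair.one

lemma eps_cancel [Epi f] {F : Sheaf J AddCommGrpCat.{u}} {a b : (ToposFin.freeAb J).obj K ⟶ F}
    (h : freeEps f ≫ a = freeEps f ≫ b) : a = b := by
  haveI := S6161.main J f
  refine Cofork.IsColimit.hom_ext (augIsCokernel (freeNerve f) ((AlternatingFaceMapComplex.ε).app (freeAug f))) ?_
  show ((AlternatingFaceMapComplex.ε).app (freeAug f)).f 0 ≫ a = ((AlternatingFaceMapComplex.ε).app (freeAug f)).f 0 ≫ b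
  rw [eps_f_zero]
  exact h

lemma d_comp_eps : (freeNerve f).d 1 0 ≫ freeEps f = 0 := by
  rw [← eps_f_zero]
  exact d_comp_aug (freeNerve f) ((AlternatingFaceMapComplex.ε).app (freeAug f))

/-- Cocycles in positive degree are coboundaries. -/
def CechExact (F : Sheaf J AddCommGrpCat.{u}) (n : ℕ) : Prop :=
  ∀ a : (freeNerve f).X (n + 1) ⟶ F, (freeNerve f).d (n + 2) (n + 1) ≫ a = 0 →
    ∃ b : (freeNerve f).X n ⟶ F, (freeNerve f).d (n + 1) n ≫ b = a

lemma cechNerveCx_d (F : Sheaf J AddCommGrpCat.{u}) (n : ℕ) (a : (freeNerve f).X n ⟶ F) :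
    (CohCx.cechNerveCx F f).d n (n + 1) a = (freeNerve f).d (n + 1) n ≫ a := by
  refine Eq.trans ?_ (congrArg (· ≫ a) (alternatingFaceMapComplex_obj_d
    (SimplicialObject.Augmented.drop.obj (freeAug f)) n)).symm
  have h : (CohCx.cechNerveCx F f).d n (n + 1) =
      AlternatingCofaceMapComplex.objD ((Arrow.mk f).cechNerve.rightOp ⋙ CohCx.HK0Functor J F) n :=
    by simp [CohCx.cechNerveCx, alternatingCofaceMapComplex, AlternatingCofaceMapComplex.obj]
  rw [h]
  simp only [AlternatingCofaceMapComplex.objD, AlternatingFaceMapComplex.objD, Preadditive.sum_comp,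
    Preadditive.zsmul_comp]
  let ev : (((Arrow.mk f).cechNerve.rightOp ⋙ CohCx.HK0Functor J F).obj ⦋n⦌ ⟶
      ((Arrow.mk f).cechNerve.rightOp ⋙ CohCx.HK0Functor J F).obj ⦋n + 1⦌) →+
      ((Arrow.mk f).cechNerve.rightOp ⋙ CohCx.HK0Functor J F).obj ⦋n + 1⦌ :=
    AddMonoidHom.mk' (fun t => t a) (fun _ _ => rfl)
  exact (map_sum ev _ _).trans (Finset.sum_congr rfl fun i _ => map_zsmul ev _ _)

lemma isZero_homology_cechNerveCx_iff (F : Sheaf J AddCommGrpCat.{u}) (n : ℕ) :
    IsZero ((CohCx.cechNerveCx F f).homology (n + 1)) ↔ CechExact f F n := by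
  rw [← HomologicalComplex.exactAt_iff_isZero_homology,
    (CohCx.cechNerveCx F f).exactAt_iff' n (n + 1) (n + 2) (by simp) (by simp), ShortComplex.ab_exact_iff]
  constructor
  · intro h a ha
    obtain ⟨b, hb⟩ := h a ((cechNerveCx_d f F (n + 1) a).trans ha)
    exact ⟨b, (cechNerveCx_d f F n b).symm.trans hb⟩
  · intro h a ha
    obtain ⟨b, hb⟩ := h a ((cechNerveCx_d f F (n + 1) a).symm.trans ha)
    exact ⟨b, (cechNerveCx_d f F n b).trans hb⟩

lemma cechExact_of_injective [Epi f] (I : Sheaf J AddCommGrpCat.{u}) [Injective I] (n : ℕ) : CechExact f I n :=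
  fun a ha => ⟨(freeNerve_exact f n).descToInjective a ha, (freeNerve_exact f n).comp_descToInjective a ha⟩

/-- Čech complexes of totally acyclic sheaves are exact in positive degrees. -/
theorem cechExact_of_isTotallyAcyclic [Epi f] (n : ℕ) {F : Sheaf J AddCommGrpCat.{u}}
    (hF : CohCx.IsTotallyAcyclic F) : CechExact f F n := by
  induction n generalizing F with
  | zero =>
    intro a ha
    let S := ShortComplex.mk (Injective.ι F) (cokernel.π (Injective.ι F)) (cokernel.condition _)
    have hS : S.ShortExact := injSES_shortExact' F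
    haveI : Mono S.f := hS.mono_f
    obtain ⟨b, hb⟩ := cechExact_of_injective f (Injective.under F) 0 (a ≫ S.f)
      (by rw [← Category.assoc, ha, zero_comp])
    obtain ⟨c, hc⟩ := exists_desc_eps f (b ≫ S.g) (by
      rw [← Category.assoc]
      refine (congrArg (· ≫ S.g) hb).trans ?_
      rw [Category.assoc, S.zero, comp_zero])
    haveI : Subsingleton (Ext.{u} ((ToposFin.freeAb J).obj K) S.X₁ 1) := hF K 0
    obtain ⟨c', hc'⟩ := exists_lift_of_subsingleton hS _ c
    refine ⟨hS.exact.lift (b - freeEps f ≫ c') ?_, ?_⟩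
    · rw [Preadditive.sub_comp, Category.assoc, hc', hc, sub_self]
    · refine (cancel_mono S.f).1 ?_
      rw [Category.assoc, hS.exact.lift_f, Preadditive.comp_sub, ← Category.assoc _ (freeEps f) c', d_comp_eps,
        zero_comp, sub_zero]
      exact hb
  | succ n ih =>
    intro a ha
    let S := ShortComplex.mk (Injective.ι F) (cokernel.π (Injective.ι F)) (cokernel.condition _)
    have hS : S.ShortExact := injSES_shortExact' F
    haveI : Mono S.f := hS.mono_f
    obtain ⟨b, hb⟩ := cechExact_of_injective f (Injective.under F) (n + 1) (a ≫ S.f)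
      (by rw [← Category.assoc, ha, zero_comp])
    obtain ⟨c, hc⟩ := ih (isTotallyAcyclic_cokernel hS hF (isTotallyAcyclic_of_injective (Injective.under F)))
      (b ≫ S.g) (by
        rw [← Category.assoc]
        refine (congrArg (· ≫ S.g) hb).trans ?_
        rw [Category.assoc, S.zero, comp_zero])
    haveI : Subsingleton (Ext.{u} ((freeNerve f).X n) S.X₁ 1) := hF ((Arrow.mk f).cechNerve.obj (op ⦋n⦌)) 0
    obtain ⟨c', hc'⟩ := exists_lift_of_subsingleton hS _ c
    refine ⟨hS.exact.lift (b - (freeNerve f).d (n + 1) n ≫ c') ?_, ?_⟩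
    · rw [Preadditive.sub_comp, Category.assoc, hc', hc, sub_self]
    · refine (cancel_mono S.f).1 ?_
      rw [Category.assoc, hS.exact.lift_f, Preadditive.comp_sub, HomologicalComplex.d_comp_d_assoc,
        zero_comp, sub_zero]
      exact hb

lemma exists_cover_lift {I Q : Sheaf J AddCommGrpCat.{u}} (g : I ⟶ Q) [Epi g] {L : Sheaf J (Type u)}
    (φ : (ToposFin.freeAb J).obj L ⟶ Q) :
    ∃ (L' : Sheaf J (Type u)) (p : L' ⟶ L) (s : (ToposFin.freeAb J).obj L' ⟶ I),
      Epi p ∧ s ≫ g = (ToposFin.freeAb J).map p ≫ φ := by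
  let adj := freeAbAdj J
  let gT := (sheafCompose J (forget AddCommGrpCat.{u})).map g
  let φT := adj.homEquiv L Q φ
  refine ⟨pullback φT gT, pullback.fst φT gT, (adj.homEquiv _ _).symm (pullback.snd φT gT), ?_, ?_⟩
  · rw [← Sheaf.isLocallySurjective_iff_epi]
    haveI : Sheaf.IsLocallySurjective g := (Sheaf.isLocallySurjective_iff_epi' AddCommGrpCat.{u} g).2 inferInstance
    refine ⟨fun {U} x => ?_⟩
    refine J.superset_covering (fun V k hk => ?_) (Presheaf.imageSieve_mem J g.hom (φT.hom.app (op U) x))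
    obtain ⟨y, hy⟩ := hk
    have h : IsPullback (pullback.fst φT gT) (pullback.snd φT gT) φT gT := IsPullback.of_hasPullback _ _
    obtain ⟨z, hz, -⟩ := Types.exists_of_isPullback
      (h.map (sheafToPresheaf J (Type u) ⋙ (evaluation Cᵒᵖ (Type u)).obj (op V)))
      (L.obj.map k.op x) y ((ConcreteCategory.congr_hom (φT.hom.naturality k.op) x).trans hy.symm)
    exact ⟨z, hz⟩
  · apply (adj.homEquiv _ _).injective
    rw [Adjunction.homEquiv_naturality_right, Equiv.apply_symm_apply, Adjunction.homEquiv_naturality_left]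
    exact pullback.condition.symm

/-- A sheaf with exact Čech complexes is totally acyclic. -/
theorem isTotallyAcyclic_of_cechExact (F : Sheaf J AddCommGrpCat.{u})
    (hF : ∀ (L' L : Sheaf J (Type u)) (p : L' ⟶ L), Epi p → ∀ n, CechExact p F n) :
    CohCx.IsTotallyAcyclic F := by
  refine isTotallyAcyclic_of_class
    (fun G => ∀ (L' L : Sheaf J (Type u)) (p : L' ⟶ L), Epi p → ∀ n, CechExact p G n) ?_ F hF
  intro G hG
  let S := ShortComplex.mk (Injective.ι G) (cokernel.π (Injective.ι G)) (cokernel.condition _)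
  have hS : S.ShortExact := injSES_shortExact' G
  haveI : Mono S.f := hS.mono_f
  haveI : Epi S.g := inferInstanceAs (Epi (cokernel.π (Injective.ι G)))
  have hl : ∀ (L : Sheaf J (Type u)) (φ : (ToposFin.freeAb J).obj L ⟶ S.X₃), ∃ ψ, ψ ≫ S.g = φ := by
    intro L φ
    obtain ⟨L', p, s, hp, hs⟩ := exists_cover_lift S.g φ
    let π₀ : (Arrow.mk p).augmentedCechNerve.left.obj (op ⦋0⦌) ⟶ L' := WidePullback.π (fun _ : Fin 1 => p) 0
    have hπ₀ : π₀ ≫ p = (Arrow.mk p).augmentedCechNerve.hom.app (op ⦋0⦌) :=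
      WidePullback.π_arrow (fun _ : Fin 1 => p) 0
    let s' : (freeNerve p).X 0 ⟶ S.X₂ := (ToposFin.freeAb J).map π₀ ≫ s
    have hs' : s' ≫ S.g = freeEps p ≫ φ :=
      (Category.assoc _ _ _).trans ((congrArg (_ ≫ ·) hs).trans ((Category.assoc _ _ _).symm.trans
        (congrArg (· ≫ φ) (((ToposFin.freeAb J).map_comp _ _).symm.trans (congrArg _ hπ₀)))))
    have ha : ((freeNerve p).d 1 0 ≫ s') ≫ S.g = 0 := by
      rw [Category.assoc, hs', ← Category.assoc, d_comp_eps, zero_comp]
    obtain ⟨b, hb⟩ := hG L' L p hp 0 (hS.exact.lift _ ha) (by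
      refine (cancel_mono S.f).1 ?_
      rw [Category.assoc, hS.exact.lift_f, ← Category.assoc, HomologicalComplex.d_comp_d, zero_comp, zero_comp])
    haveI := hp
    obtain ⟨ψ, hψ⟩ := exists_desc_eps p (s' - b ≫ S.f) (by
      rw [Preadditive.comp_sub, ← Category.assoc _ b, hb, hS.exact.lift_f, sub_self])
    have hz : (b ≫ S.f) ≫ S.g = 0 := by rw [Category.assoc, S.zero, comp_zero]
    refine ⟨ψ, eps_cancel p (((Category.assoc _ _ _).symm.trans (congrArg (· ≫ S.g) hψ)).trans ?_)⟩
    exact (Preadditive.sub_comp _ _ _).trans ((congrArg (s' ≫ S.g - ·) hz).trans ((sub_zero _).trans hs'))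
  refine ⟨S, hS, rfl, isTotallyAcyclic_of_injective (Injective.under G), ?_, hl⟩
  intro L' L p hp n c hc
  haveI := hp
  obtain ⟨c', hc'⟩ : ∃ c' : (freeNerve p).X (n + 1) ⟶ S.X₂, c' ≫ S.g = c :=
    hl ((Arrow.mk p).cechNerve.obj (op ⦋n + 1⦌)) c
  have ha : ((freeNerve p).d (n + 2) (n + 1) ≫ c') ≫ S.g = 0 := by rw [Category.assoc, hc', hc]
  obtain ⟨b, hb⟩ := hG L' L p hp (n + 1) (hS.exact.lift _ ha) (by
    refine (cancel_mono S.f).1 ?_
    rw [Category.assoc, hS.exact.lift_f, ← Category.assoc, HomologicalComplex.d_comp_d, zero_comp, zero_comp])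
  obtain ⟨e, he⟩ := cechExact_of_injective p (Injective.under G) n (c' - b ≫ S.f) (by
    rw [Preadditive.comp_sub, ← Category.assoc _ b, hb, hS.exact.lift_f, sub_self])
  refine ⟨e ≫ S.g, ?_⟩
  rw [← Category.assoc]
  refine (congrArg (· ≫ S.g) he).trans ?_
  rw [Preadditive.sub_comp, Category.assoc, S.zero, comp_zero, sub_zero, hc']

end Groth.Agent.SSExist
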