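import Groth.Agent.SSExist.TensInt
import Groth.Prelude.Def_CohCx
import Mathlib.Algebra.FreeAbelianGroup.Finsupp
import Mathlib.CategoryTheory.Sites.Abelian
import Mathlib.CategoryTheory.Sites.Limits

/-!
# Cohomology of the abelian sheaf underlying an injective module

Ext groups from torsion-free abelian sheaves (for instance free ones) into the abelian sheaf
underlying a module with the flat extension property vanish in positive degrees.
-/

set_option autoImplicit false
set_option linter.style.haveILetI false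

open CategoryTheory CategoryTheory.Limits Opposite CategoryTheory.Abelian

namespace Groth.Agent.SSExist

universe w u

open Groth.Agent.ModGroth

variable {C : Type u} [SmallCategory C] {J : GrothendieckTopology C}

lemma tfPre_of_mono {P Q : Cᵒᵖ ⥤ AddCommGrpCat.{u}} (g : P ⟶ Q) [Mono g] (hQ : TFPre Q) : TFPre P := by
  intro U m x hm hx
  have hinj : Function.Injective (g.app U) := (AddCommGrpCat.mono_iff_injective _).1 inferInstance
  apply hinj
  rw [map_zero]
  exact hQ U m _ hm ((map_zsmul (g.app U).hom m x).symm.trans ((congrArg _ hx).trans (map_zero _)))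

lemma tfPre_presheafToSheaf (P : Cᵒᵖ ⥤ AddCommGrpCat.{u}) (hP : TFPre P) :
    TFPre ((presheafToSheaf J AddCommGrpCat.{u}).obj P).obj := by
  intro U m x hm hx
  haveI : (presheafToSheaf J AddCommGrpCat.{u}).Additive := inferInstance
  haveI : ∀ V, Mono ((m • 𝟙 P : P ⟶ P).app V) := fun V => by
    rw [AddCommGrpCat.mono_iff_injective]
    refine (injective_iff_map_eq_zero ((m • 𝟙 P : P ⟶ P).app V).hom).2 fun y hy => ?_
    refine hP V m y hm ?_
    rw [show (m • 𝟙 P : P ⟶ P).app V = m • (𝟙 P : P ⟶ P).app V from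
      ((evaluation Cᵒᵖ AddCommGrpCat.{u}).obj V).map_zsmul] at hy
    exact hy
  haveI : Mono (m • 𝟙 P : P ⟶ P) := NatTrans.mono_of_mono_app _
  haveI : PreservesFiniteLimits (presheafToSheaf J AddCommGrpCat.{u}) := inferInstance
  have hmono : Mono ((presheafToSheaf J AddCommGrpCat.{u}).map (m • 𝟙 P : P ⟶ P)) := inferInstance
  rw [Functor.map_zsmul, CategoryTheory.Functor.map_id] at hmono
  have h2 : Mono ((sheafToPresheaf J AddCommGrpCat.{u} ⋙ (evaluation Cᵒᵖ AddCommGrpCat.{u}).obj U).map
      (m • 𝟙 ((presheafToSheaf J AddCommGrpCat.{u}).obj P))) := inferInstance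
  rw [Functor.map_zsmul, CategoryTheory.Functor.map_id] at h2
  exact (AddCommGrpCat.mono_iff_injective _).1 h2 (hx.trans (zsmul_zero m).symm)

lemma tfPre_free (F : Cᵒᵖ ⥤ Type u) : TFPre (F ⋙ AddCommGrpCat.free.{u}) := by
  intro U m x hm hx
  have h : m • FreeAbelianGroup.equivFinsupp (F.obj U) x = 0 := by
    rw [← map_zsmul]
    exact (congrArg _ hx).trans (map_zero _)
  exact (AddEquiv.map_eq_zero_iff _).1 ((smul_eq_zero.1 h).resolve_left hm)

lemma exists_tf_epi (B : Sheaf J AddCommGrpCat.{u}) :
    ∃ (E : Sheaf J AddCommGrpCat.{u}) (p : E ⟶ B), Epi p ∧ TFPre E.obj := by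
  let q : (B.obj ⋙ forget AddCommGrpCat.{u}) ⋙ AddCommGrpCat.free.{u} ⟶ B.obj :=
    { app := fun U => AddCommGrpCat.adj.counit.app (B.obj.obj U)
      naturality := fun U V f => AddCommGrpCat.adj.counit.naturality (B.obj.map f) }
  haveI : ∀ U, Epi (q.app U) := fun U => by
    rw [AddCommGrpCat.epi_iff_surjective]
    intro y
    refine ⟨(FreeAbelianGroup.of y : FreeAbelianGroup (B.obj.obj U)), ?_⟩
    exact ConcreteCategory.congr_hom (AddCommGrpCat.adj.right_triangle_components (B.obj.obj U)) y
  haveI : Epi q := NatTrans.epi_of_epi_app _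
  let adj := sheafificationAdjunction J AddCommGrpCat.{u}
  haveI := adj.leftAdjoint_preservesColimits
  haveI : Epi ((presheafToSheaf J AddCommGrpCat.{u}).map q) := inferInstance
  exact ⟨_, (presheafToSheaf J AddCommGrpCat.{u}).map q ≫ adj.counit.app B, epi_comp _ _,
    tfPre_presheafToSheaf _ (tfPre_free _)⟩

variable {O : Sheaf J CommRingCat.{u}}

/-- Maps to the abelian sheaf underlying a module extend along monos with torsion-free cokernel. -/
lemma exists_extension_toAb {H : ModSite.Mod O} (hH : FlatInj H) (S : ShortComplex (Sheaf J AddCommGrpCat.{u}))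
    (hS : S.ShortExact) (h₃ : TFPre S.X₃.obj) (φ : S.X₁ ⟶ ModSite.toAb H) :
    ∃ ψ : S.X₂ ⟶ ModSite.toAb H, S.f ≫ ψ = φ := by
  let g := S.f.hom
  haveI := hS.mono_f
  haveI : Mono g := (sheafToPresheaf J AddCommGrpCat.{u}).map_mono S.f
  have hN : TFPre (cokernel g) := by
    let T := S.map (sheafToPresheaf J AddCommGrpCat.{u})
    have hT : T.Exact := hS.exact.map_of_mono_of_preservesKernel _ hS.mono_f inferInstance
    exact @tfPre_of_mono _ _ _ _ (cokernel.desc T.f T.g T.zero) hT.mono_cokernelDesc h₃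
  obtain ⟨hm, hflat⟩ := tensMap_mono_flat O g hN
  let m := (sh O).map (tensMap O g)
  let S' := ShortComplex.mk m (cokernel.π m) (cokernel.condition m)
  have hS' : S'.ShortExact := { exact := S'.exact_of_g_is_cokernel (cokernelIsCokernel m), mono_f := hm }
  let d : tensPre O S.X₁.obj ⟶ (fg O).obj H := tensDesc O φ.hom
  obtain ⟨χ, hχ⟩ := hH S' hS' hflat (((adjn O).homEquiv _ H).symm d)
  let d' : tensPre O S.X₂.obj ⟶ (fg O).obj H := (adjn O).homEquiv _ H χ
  have hd : tensMap O g ≫ d' = d := by
    refine ((adjn O).homEquiv_naturality_left (tensMap O g) χ).symm.trans ?_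
    exact (congrArg _ hχ).trans (Equiv.apply_symm_apply _ _)
  refine ⟨⟨tensUnit O S.X₂.obj ≫ (PresheafOfModules.toPresheaf _).map d'⟩, ?_⟩
  apply ObjectProperty.hom_ext
  show g ≫ tensUnit O S.X₂.obj ≫ (PresheafOfModules.toPresheaf _).map d' = φ.hom
  rw [← Category.assoc, tensMap_unit, Category.assoc, ← Functor.map_comp, hd]
  exact tensDesc_unit O φ.hom

/-- Ext from torsion-free sheaves into the abelian sheaf underlying a module with flat extensions. -/
theorem subsingleton_ext_toAb [HasExt.{w} (Sheaf J AddCommGrpCat.{u})] {H : ModSite.Mod O} (hH : FlatInj H)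
    {A : Sheaf J AddCommGrpCat.{u}} (hA : TFPre A.obj) (n : ℕ) :
    Subsingleton (Ext.{w} A (ModSite.toAb H) (n + 1)) :=
  subsingleton_ext_of_extends (ModSite.toAb H) (fun A => TFPre A.obj) exists_tf_epi
    (fun S hS h₂ _ => haveI := hS.mono_f
      haveI : Mono S.f.hom := (sheafToPresheaf J AddCommGrpCat.{u}).map_mono S.f
      tfPre_of_mono S.f.hom h₂)
    (fun S hS _ h₃ φ => exists_extension_toAb hH S hS h₃ φ) n A hA

/-- The abelian sheaf underlying a module with flat extensions is totally acyclic. -/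
theorem isTotallyAcyclic_toAb {H : ModSite.Mod O} (hH : FlatInj H) : CohCx.IsTotallyAcyclic (ModSite.toAb H) :=
  fun K p => subsingleton_ext_toAb hH (tfPre_presheafToSheaf _ (tfPre_free K.obj)) p

lemma tfPre_const :
    TFPre ((constantSheaf J AddCommGrpCat.{u}).obj (AddCommGrpCat.of (ULift.{u} ℤ))).obj :=
  tfPre_presheafToSheaf _ fun _ m x hm hx =>
    ULift.ext x 0 ((mul_eq_zero.1 ((smul_eq_mul m x.down).symm.trans (congrArg ULift.down hx))).resolve_left hm)

end Groth.Agent.SSExist
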