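import Groth.Agent.SSExist.Hyper
import Groth.Agent.TriH.FinDimDer

/-!
# The Grothendieck spectral sequence
-/

set_option autoImplicit false
set_option linter.style.haveILetI false

open CategoryTheory CategoryTheory.Limits
open scoped ZeroObject

namespace Groth.Agent.SSExist

universe v v' v'' u u' u''

open TriH

variable {C : Type u} [Category.{v} C] [Abelian C] {C' : Type u'} [Category.{v'} C'] [Abelian C']
  {C'' : Type u''} [Category.{v''} C''] [Abelian C'']

/-- The Grothendieck spectral sequence of `T` and `S`. -/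
theorem exists_grothendieck [HasInjectiveResolutions C] [HasInjectiveResolutions C']
    (T : C ⥤ C') [T.Additive] (S : C' ⥤ C'') [S.Additive] [PreservesFiniteLimits S]
    (hT : ∀ Q : C, Injective Q → ∀ q : ℕ, 0 < q → IsZero ((S.rightDerived q).obj (T.obj Q))) (A : C) :
    ∃ (E : E₂CohomologicalSpectralSequence C'')
      (a : SpSeq.Abutment E (fun n : ℤ => if 0 ≤ n then ((T ⋙ S).rightDerived n.toNat).obj A else 0)),
      (∀ n, a.IsFinite n) ∧ SpSeq.IsBounded E ∧
      ∀ p q : ℤ, Nonempty ((E.page 2 le_rfl).X (p, q) ≅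
        (if 0 ≤ p ∧ 0 ≤ q then (S.rightDerived p.toNat).obj ((T.rightDerived q.toNat).obj A) else 0)) := by
  haveI := FinDim.enoughInjectives_of_hasInjectiveResolutions (A := C')
  letI := HasDerivedCategory.standard C'
  letI := HasDerivedCategory.standard C''
  let R := injectiveResolution A
  let K : CochainComplex C' ℤ := (T.mapHomologicalComplex (ComplexShape.up ℤ)).obj R.cochainComplex
  haveI : K.IsStrictlyGE 0 := inferInstanceAs
    (CochainComplex.IsStrictlyGE ((T.mapHomologicalComplex (ComplexShape.up ℤ)).obj R.cochainComplex) 0)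
  have hK : ∀ m, IsAcyclicObj S (K.X m) := fun m q hq => hT (R.cochainComplex.X m) inferInstance q hq
  let L : CochainComplex C'' ℤ := (S.mapHomologicalComplex (ComplexShape.up ℤ)).obj K
  haveI : L.IsStrictlyGE 0 := inferInstanceAs
    (CochainComplex.IsStrictlyGE ((S.mapHomologicalComplex (ComplexShape.up ℤ)).obj K) 0)
  have he : ∀ n : ℤ, Nonempty
      ((if 0 ≤ n then ((T ⋙ S).rightDerived n.toNat).obj A else 0) ≅ L.homology n) := by
    intro n
    by_cases hn : 0 ≤ n
    · rw [if_pos hn]
      lift n to ℕ using hn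
      exact (nonempty_homology_map_cochainComplex_iso (T ⋙ S) R n).map Iso.symm
    · rw [if_neg hn]
      refine ⟨(isZero_zero _).iso ?_⟩
      exact ((HomologicalComplex.exactAt_iff_isZero_homology _ _).1
        (L.exactAt_of_isGE 0 n (by omega)))
  obtain ⟨E, a, ha, hb, hpos, hneg⟩ := exists_hyper S K hK
    (fun n : ℤ => if 0 ≤ n then ((T ⋙ S).rightDerived n.toNat).obj A else 0) (fun n => (he n).some)
  refine ⟨E, a, ha, hb, fun p q => ?_⟩
  by_cases h : 0 ≤ p ∧ 0 ≤ q
  · rw [if_pos h]
    obtain ⟨hp, hq⟩ := h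
    lift p to ℕ using hp
    lift q to ℕ using hq
    obtain ⟨e₁⟩ := hpos p q
    obtain ⟨e₂⟩ := nonempty_homology_map_cochainComplex_iso T R q
    exact ⟨e₁ ≪≫ (S.rightDerived p).mapIso e₂⟩
  · rw [if_neg h]
    exact ⟨(hneg p q (by omega)).iso (isZero_zero _)⟩

end Groth.Agent.SSExist
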