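import Groth.Agent.SSExist.CohPre
import Groth.Agent.SSExist.TotAc
import Groth.Agent.SSExist.Wrap
import Mathlib.CategoryTheory.Adjunction.Additive
import Mathlib.CategoryTheory.Preadditive.Yoneda.Limits

/-!
# Cohomology with respect to a presheaf of sets
-/

set_option autoImplicit false
set_option linter.style.haveILetI false

open CategoryTheory CategoryTheory.Limits Opposite CategoryTheory.Abelian

namespace Groth.Agent.SSExist

universe u

variable {C : Type u} [SmallCategory C] (J : GrothendieckTopology C)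

/-- Sheaves as sheaves for the trivial topology. -/
noncomputable abbrev toBot : Sheaf J AddCommGrpCat.{u} ⥤ Sheaf (⊥ : GrothendieckTopology C) AddCommGrpCat.{u} :=
  sheafToPresheaf J AddCommGrpCat.{u} ⋙ (sheafBotEquivalence AddCommGrpCat.{u}).inverse

/-- Sheafification of sheaves for the trivial topology. -/
noncomputable abbrev fromBot : Sheaf (⊥ : GrothendieckTopology C) AddCommGrpCat.{u} ⥤ Sheaf J AddCommGrpCat.{u} :=
  (sheafBotEquivalence AddCommGrpCat.{u}).functor ⋙ presheafToSheaf J AddCommGrpCat.{u}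

instance toBot_additive : (toBot J).Additive where
  map_add := rfl

/-- Sheafification is left adjoint to the inclusion. -/
noncomputable def botAdj : fromBot J ⊣ toBot J :=
  ((sheafBotEquivalence AddCommGrpCat.{u}).toAdjunction).comp (sheafificationAdjunction J AddCommGrpCat.{u})

lemma toBot_preservesInjectiveObjects : (toBot J).PreservesInjectiveObjects := by
  haveI : (fromBot J).PreservesMonomorphisms := inferInstance
  exact Functor.preservesInjectiveObjects_of_adjunction_of_preservesMonomorphisms (botAdj J)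

/-- The free abelian presheaf on a presheaf of sets. -/
noncomputable abbrev freeBot (R : Cᵒᵖ ⥤ Type u) : Sheaf (⊥ : GrothendieckTopology C) AddCommGrpCat.{u} :=
  (presheafToSheaf (⊥ : GrothendieckTopology C) AddCommGrpCat.{u}).obj (R ⋙ AddCommGrpCat.free.{u})

/-- Sheafification of the free presheaf. -/
noncomputable def fromBotFreeIso (R : Cᵒᵖ ⥤ Type u) :
    (fromBot J).obj (freeBot R) ≅ (ToposFin.freeAb J).obj ((presheafToSheaf J (Type u)).obj R) :=
  haveI : IsIso (toSheafify (⊥ : GrothendieckTopology C) (R ⋙ AddCommGrpCat.free.{u})) :=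
    isIso_toSheafify _ (Presheaf.isSheaf_bot _)
  (presheafToSheaf J AddCommGrpCat.{u}).mapIso
    (asIso (toSheafify (⊥ : GrothendieckTopology C) (R ⋙ AddCommGrpCat.free.{u}))).symm ≪≫ (freeShIso J).app R

/-- Morphisms out of the free presheaf into a sheaf. -/
noncomputable def botCoyIso (R : Cᵒᵖ ⥤ Type u) :
    toBot J ⋙ preadditiveCoyoneda.obj (op (freeBot R)) ≅
      preadditiveCoyoneda.obj (op ((ToposFin.freeAb J).obj ((presheafToSheaf J (Type u)).obj R))) :=
  haveI : (fromBot J).Additive := (botAdj J).left_adjoint_additive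
  (NatIso.ofComponents (fun F => AddEquiv.toAddCommGrpIso
    (X := (preadditiveCoyoneda.obj (op ((fromBot J).obj (freeBot R)))).obj F)
    (Y := (toBot J ⋙ preadditiveCoyoneda.obj (op (freeBot R))).obj F)
    ((botAdj J).homAddEquiv (freeBot R) F))
    (fun {F G} g => by
      ext φ
      exact (botAdj J).homEquiv_naturality_right φ g)).symm ≪≫
    preadditiveCoyoneda.mapIso (fromBotFreeIso J R).symm.op

/-- The spectral sequence from presheaf cohomology of cohomology presheaves. -/
theorem exists_presheafSS (R : Cᵒᵖ ⥤ Type u) (M : Sheaf J AddCommGrpCat.{u}) (Z : AddCommGrpCat.{u}) (hZ : IsZero Z) :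
    ∃ (E : E₂CohomologicalSpectralSequence AddCommGrpCat.{u})
      (a : SpSeq.Abutment E (fun n : ℤ =>
        if 0 ≤ n then AddCommGrpCat.of (CohCx.HK ((presheafToSheaf J (Type u)).obj R) M n.toNat) else Z)),
      (∀ n, a.IsFinite n) ∧ SpSeq.IsBounded E ∧
      ∀ p q : ℤ, Nonempty ((E.page 2 le_rfl).X (p, q) ≅
        (if 0 ≤ p ∧ 0 ≤ q then
          AddCommGrpCat.of (CohCx.HK (J := (⊥ : GrothendieckTopology C)) ⟨R, Presheaf.isSheaf_bot _⟩
            ⟨M.cohomologyPresheaf q.toNat, Presheaf.isSheaf_bot _⟩ p.toNat)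
         else Z)) := by
  haveI := toBot_preservesInjectiveObjects J
  refine exists_grothendieck_preservesInjective (toBot J) (preadditiveCoyoneda.obj (op (freeBot R))) M Z hZ
    (fun n => AddCommGrpCat.of (CohCx.HK ((presheafToSheaf J (Type u)).obj R) M n))
    (fun n => nonempty_ext_iso_rightDerived _ _ (botCoyIso J R) M n)
    (fun p q => AddCommGrpCat.of (CohCx.HK (J := (⊥ : GrothendieckTopology C)) ⟨R, Presheaf.isSheaf_bot _⟩
            ⟨M.cohomologyPresheaf q, Presheaf.isSheaf_bot _⟩ p)) (fun p q => ?_)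
  haveI : (sheafBotEquivalence (C := C) AddCommGrpCat.{u}).inverse.Additive := { map_add := rfl }
  obtain ⟨e⟩ := nonempty_rightDerived_of_exact (toBot J) (sheafBotEquivalence AddCommGrpCat.{u}).inverse (Iso.refl _) M q
  obtain ⟨e'⟩ := nonempty_ext_iso_rightDerived (preadditiveCoyoneda.obj (op (freeBot R))) (freeBot R) (Iso.refl _)
    ⟨M.cohomologyPresheaf q, Presheaf.isSheaf_bot _⟩ p
  exact ⟨e' ≪≫ ((preadditiveCoyoneda.obj (op (freeBot R))).rightDerived p).mapIso e.symm⟩

end Groth.Agent.SSExist
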