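import Groth.Agent.SSExist.QuotZ
import Groth.Agent.SSExist.TotAc

/-!
# Sections with support of totally acyclic modules
-/

set_option autoImplicit false
set_option linter.style.haveILetI false

open CategoryTheory CategoryTheory.Limits Opposite CategoryTheory.Abelian MonoidalCategory

namespace Groth.Agent.SSExist

universe u

open Groth.Agent.ModGroth

variable {C : Type u} [SmallCategory C] {J : GrothendieckTopology C}

/-- Relative cohomology of a totally acyclic sheaf for a map of presheaves of sets. -/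
lemma subsingleton_ext_cokernel_freePre {F : Sheaf J AddCommGrpCat.{u}} (hF : CohCx.IsTotallyAcyclic F)
    {P Q : Cᵒᵖ ⥤ Type u} (f : P ⟶ Q) (p : ℕ) :
    Subsingleton (Ext.{u} (cokernel ((presheafToSheaf J AddCommGrpCat.{u}).map
      (Functor.whiskerRight f AddCommGrpCat.free.{u}))) F (p + 1)) := by
  haveI := subsingleton_ext_cokernel_freeAb hF ((presheafToSheaf J (Type u)).map f) p
  let e := cokernel.mapIso ((presheafToSheaf J AddCommGrpCat.{u}).map (Functor.whiskerRight f AddCommGrpCat.free.{u}))
    ((ToposFin.freeAb J).map ((presheafToSheaf J (Type u)).map f))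
    ((freeShIso J).app P) ((freeShIso J).app Q) ((freeShIso J).hom.naturality f)
  refine subsingleton_of_forall_eq 0 fun x => ?_
  have h0 : (Ext.mk₀ e.inv).comp x (zero_add _) = 0 := Subsingleton.elim _ _
  have h := congrArg (fun y => (Ext.mk₀ e.hom).comp y (zero_add (p + 1))) h0
  rw [Ext.comp_zero, ← Ext.comp_assoc (Ext.mk₀ e.hom) (Ext.mk₀ e.inv) x (zero_add 0) (zero_add _) (by omega),
    Ext.mk₀_comp_mk₀, e.hom_inv_id] at h
  exact (Ext.mk₀_id_comp x).symm.trans h

variable {O : Sheaf J CommRingCat.{u}} (U : C)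

/-- The objects of `C/V` mapping to `U`. -/
def sieveOn (V : C) : Sieve V where
  arrows W _ := Nonempty (W ⟶ U)
  downward_closed := by
    rintro W W' k ⟨a⟩ g
    exact ⟨g ≫ a⟩

lemma exists_free_hom_van {F : ModSite.Mod O} {V : C} (s : F.val.obj (op V))
    (hs : ∀ ⦃W : C⦄ (k : W ⟶ V), Nonempty (W ⟶ U) → F.val.presheaf.map k.op s = 0) :
    ∃ e : freeSheaf O V ⟶ F, Van U e ∧
      e.val.app (op V) ((eta ((PresheafOfModules.free _).obj (yoneda.obj V))).app (op V) (ModuleCat.freeMk (𝟙 V))) = s := by
  let P0 := (PresheafOfModules.free (O.obj ⋙ forget₂ CommRingCat.{u} RingCat.{u})).obj (yoneda.obj V)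
  let e₀ : P0 ⟶ (fg O).obj F := PresheafOfModules.freeYonedaEquiv.symm s
  let e : freeSheaf O V ⟶ F := ((adjn O).homEquiv P0 F).symm e₀
  have h₁ : (adjn O).homEquiv P0 F e = e₀ := Equiv.apply_symm_apply _ _
  rw [Adjunction.homEquiv_unit] at h₁
  have happ : ∀ (W : Cᵒᵖ) (z : P0.obj W), e.val.app W ((eta P0).app W z) = e₀.app W z := fun W z =>
    congrArg (fun q : P0 ⟶ (fg O).obj F => q.app W z) h₁
  refine ⟨e, van_of_presheaf U e fun W g z => ?_,
    (happ (op V) _).trans (PresheafOfModules.freeYonedaEquiv_symm_app _ V s)⟩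
  refine (happ (op W) z).trans ?_
  have h0 : e₀.app (op W) = 0 := ModuleCat.free_hom_ext fun (k : W ⟶ V) => by
    refine Eq.trans ?_ ((hs k ⟨g⟩))
    have h2 : (ModuleCat.freeMk k : P0.obj (op W)) = P0.map k.op (ModuleCat.freeMk (𝟙 V)) := by
      have : k ≫ 𝟙 V = k := Category.comp_id k
      refine Eq.trans ?_ (ConcreteCategory.congr_hom ((PresheafOfModules.freeAdjunctionUnit
        (O.obj ⋙ forget₂ CommRingCat.{u} RingCat.{u}) (yoneda.obj V)).naturality k.op) (𝟙 V))
      exact (congrArg ModuleCat.freeMk this).symm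
    exact ((congrArg (e₀.app (op W)) h2).trans (PresheafOfModules.naturality_apply e₀ k.op _)).trans
      (congrArg (F.val.presheaf.map k.op) (PresheafOfModules.freeYonedaEquiv_symm_app _ V s))
  rw [h0]
  rfl

variable [ModSite.HasPushOver O U]

lemma sectOnι_vanish (F : ModSite.Mod O) {V W : C} (t : ((ModSite.sectOn O U).obj F).val.obj (op V))
    (k : W ⟶ V) (g : W ⟶ U) : F.val.presheaf.map k.op (((ModSite.sectOnι O U).app F).val.app (op V) t) = 0 :=
  (PresheafOfModules.naturality_apply ((ModSite.sectOnι O U).app F).val k.op t).symm.trans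
    ((comp_unit_eq_zero_iff U ((ModSite.sectOnι O U).app F)).1 (kernel.condition _) g _)

lemma sectOn_map_surjective {S : ShortComplex (ModSite.Mod O)} (hS : S.ShortExact)
    (h₁ : CohCx.IsTotallyAcyclic (ModSite.toAb S.X₁)) (V : C) :
    Function.Surjective (((ModSite.sectOn O U).map S.g).val.app (op V)) := by
  intro t
  let T := S.map (toAbF O)
  have hT : T.ShortExact := hS.map_of_exact (toAbF O)
  let q : T.X₃.obj.obj (op V) := ((ModSite.sectOnι O U).app S.X₃).val.app (op V) t
  obtain ⟨φ, hφ⟩ := (evalGen_bijective J V T.X₃).2 q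
  let w := Functor.whiskerRight (sieveOn U V).functorInclusion AddCommGrpCat.free.{u}
  let m := (presheafToSheaf J AddCommGrpCat.{u}).map w
  let adj := sheafificationAdjunction J AddCommGrpCat.{u}
  have hgen : ∀ (G : Sheaf J AddCommGrpCat.{u}) (ψ : freeAb J V ⟶ G) (W : Cᵒᵖ) (k : W.unop ⟶ V),
      (adj.homEquiv _ G ψ).app W (FreeAbelianGroup.of k) = G.obj.map k.op (evalGen J V G ψ) := by
    intro G ψ W k
    have hn := ConcreteCategory.congr_hom ((adj.homEquiv _ G ψ).naturality k.op) (FreeAbelianGroup.of (𝟙 V))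
    refine Eq.trans ?_ hn
    refine congrArg ((adj.homEquiv _ G ψ).app W) ?_
    exact ((FreeAbelianGroup.lift_apply_of _ _).trans (congrArg FreeAbelianGroup.of (Category.comp_id k))).symm
  have hm : m ≫ φ = 0 := by
    apply (adj.homEquiv _ T.X₃).injective
    refine (adj.homEquiv_naturality_left w φ).trans ?_
    rw [Adjunction.homEquiv_unit _ _ _ 0, Functor.map_zero, comp_zero]
    ext W x
    revert x
    intro x
    refine FreeAbelianGroup.induction_on x (map_zero _) (fun y => ?_) (fun y hy => ?_) (fun a b ha hb => ?_)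
    · refine ((congrArg ((adj.homEquiv _ T.X₃ φ).app W) (FreeAbelianGroup.lift_apply_of _ y)).trans
        ((hgen _ φ W y.1).trans ?_))
      rw [hφ]
      obtain ⟨g⟩ := y.2
      exact sectOnι_vanish U S.X₃ t y.1 g
    · exact (map_neg _ _).trans ((congrArg Neg.neg hy).trans neg_zero)
    · exact (map_add _ _ _).trans ((congrArg₂ (· + ·) ha hb).trans (add_zero _))
  haveI : Subsingleton (Ext.{u} (cokernel m) T.X₁ 1) :=
    subsingleton_ext_cokernel_freePre h₁ (sieveOn U V).functorInclusion 0
  obtain ⟨ψ, hψ⟩ := exists_lift_of_subsingleton hT (cokernel m) (cokernel.desc m φ hm)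
  let s : S.X₂.val.obj (op V) := evalGen J V T.X₂ (cokernel.π m ≫ ψ)
  have hgs : S.g.val.app (op V) s = q := by
    have : (cokernel.π m ≫ ψ) ≫ T.g = φ := by rw [Category.assoc, hψ, cokernel.π_desc]
    exact (congrArg (evalGen J V T.X₃) this).trans hφ
  have hs : ∀ ⦃W : C⦄ (k : W ⟶ V), Nonempty (W ⟶ U) → S.X₂.val.presheaf.map k.op s = 0 := by
    intro W k hk
    refine (hgen T.X₂ (cokernel.π m ≫ ψ) (op W) k).symm.trans ?_
    have h0 : w ≫ adj.homEquiv _ T.X₂ (cokernel.π m ≫ ψ) = 0 := by
      refine (adj.homEquiv_naturality_left w _).symm.trans ?_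
      show adj.homEquiv _ T.X₂ (m ≫ cokernel.π m ≫ ψ) = 0
      rw [cokernel.condition_assoc, zero_comp, Adjunction.homEquiv_unit, Functor.map_zero, comp_zero]
    refine Eq.trans ?_ (ConcreteCategory.congr_hom (NatTrans.congr_app h0 (op W))
      (FreeAbelianGroup.of (⟨k, hk⟩ : (sieveOn U V).functor.obj (op W))))
    exact congrArg ((adj.homEquiv _ T.X₂ (cokernel.π m ≫ ψ)).app (op W))
      (FreeAbelianGroup.lift_apply_of _ _).symm
  obtain ⟨e, hev, he⟩ := exists_free_hom_van U s hs
  let κ : freeSheaf O V ⟶ (ModSite.sectOn O U).obj S.X₂ := kernel.lift _ e ((comp_unit_eq_zero_iff U e).2 hev)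
  let z := (eta ((PresheafOfModules.free (O.obj ⋙ forget₂ CommRingCat.{u} RingCat.{u})).obj (yoneda.obj V))).app (op V)
    (ModuleCat.freeMk (𝟙 V))
  refine ⟨κ.val.app (op V) z, ?_⟩
  have hinj : Function.Injective (((ModSite.sectOnι O U).app S.X₃).val.app (op V)) := by
    haveI : Mono ((ModSite.sectOnι O U).app S.X₃) :=
      inferInstanceAs (Mono (kernel.ι ((ModSite.restrPushOverAdj O U).unit.app S.X₃)))
    exact (AddCommGrpCat.mono_iff_injective _).1
      ((secAb J V).map_mono ((toAbF O).map ((ModSite.sectOnι O U).app S.X₃)))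
  refine hinj (Eq.trans ?_ hgs)
  refine (congrArg (fun f : (ModSite.sectOn O U).obj S.X₂ ⟶ S.X₃ => f.val.app (op V) (κ.val.app (op V) z))
    ((ModSite.sectOnι O U).naturality S.g)).trans ?_
  refine congrArg (S.g.val.app (op V)) ?_
  exact (congrArg (fun f : freeSheaf O V ⟶ S.X₂ => f.val.app (op V) z) (kernel.lift_ι _ _ _)).trans he

/-- Sections with support are right adjoint to `F ↦ F/F_U`. -/
noncomputable def quotSectAdj : ModSite.quotOn O U ⊣ ModSite.sectOn O U :=
  Adjunction.mkOfHomEquiv
    { homEquiv := fun P F => Equiv.ofBijective (quotToSect U P F) (quotToSect_bijective U P F)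
      homEquiv_naturality_left_symm := fun {P Q F} f g => by
        apply (quotToSect_bijective U P F).1
        refine ((Equiv.ofBijective _ (quotToSect_bijective U P F)).apply_symm_apply (f ≫ g)).trans ?_
        refine (cancel_mono (kernel.ι ((ModSite.restrPushOverAdj O U).unit.app F))).1 ?_
        refine Eq.trans ?_ (quotToSect_ι U P F _).symm
        refine Eq.trans ?_ ((congrArg (· ≫ _) ((ModSite.quotOnπ O U).naturality f)).trans
          (Category.assoc _ _ _))
        refine Eq.trans ?_ (Category.assoc _ _ _).symm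
        refine Eq.trans ?_ (congrArg (f ≫ ·) (quotToSect_ι U Q F _))
        refine (Category.assoc _ _ _).trans (congrArg (fun r => f ≫ r ≫ (ModSite.sectOnι O U).app F) ?_)
        exact ((Equiv.ofBijective _ (quotToSect_bijective U Q F)).apply_symm_apply g).symm
      homEquiv_naturality_right := fun {P F F'} κ g => by
        refine (cancel_mono (kernel.ι ((ModSite.restrPushOverAdj O U).unit.app F'))).1 ?_
        refine (quotToSect_ι U P F' _).trans ?_
        refine ((Category.assoc _ _ _).symm.trans (congrArg (· ≫ g) (quotToSect_ι U P F κ)).symm).trans ?_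
        exact (Category.assoc _ _ _).trans ((congrArg (quotToSect U P F κ ≫ ·)
          ((ModSite.sectOnι O U).naturality g).symm).trans (Category.assoc _ _ _).symm) }

lemma sectOn_preservesFiniteLimits : PreservesFiniteLimits (ModSite.sectOn O U) :=
  haveI : PreservesLimitsOfSize.{0, 0} (ModSite.sectOn O U) := (quotSectAdj U).rightAdjoint_preservesLimits
  PreservesLimitsOfSize.preservesFiniteLimits _

/-- Totally acyclic modules have no local cohomology sheaves. -/
theorem isZero_HZsh_of_isTotallyAcyclic [HasInjectiveResolutions (ModSite.Mod O)] (M : ModSite.Mod O)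
    (hM : CohCx.IsTotallyAcyclic (ModSite.toAb M)) (q : ℕ) (hq : 0 < q) :
    IsZero ((ModSite.HZsh O U q).obj M) := by
  haveI := TriH.FinDim.enoughInjectives_of_hasInjectiveResolutions (A := ModSite.Mod O)
  haveI := sectOn_preservesFiniteLimits (O := O) U
  refine isAcyclicObj_of_class (ModSite.sectOn O U) (fun X => CohCx.IsTotallyAcyclic (ModSite.toAb X))
    (fun S hS h₁ hI => ⟨?_, ?_⟩) M hM q hq
  · haveI := hI
    exact isTotallyAcyclic_cokernel (hS.map_of_exact (toAbF O)) h₁ (isTotallyAcyclic_toAb (flatInj_of_injective S.X₂))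
  · haveI : ∀ V, Epi (((toAbF O).map ((ModSite.sectOn O U).map S.g)).hom.app V) := fun V =>
      (AddCommGrpCat.epi_iff_surjective _).2 (sectOn_map_surjective U hS h₁ V.unop)
    haveI : Epi ((toAbF O).map ((ModSite.sectOn O U).map S.g)).hom := NatTrans.epi_of_epi_app _
    haveI : Epi ((toAbF O).map ((ModSite.sectOn O U).map S.g)) :=
      (sheafToPresheaf J AddCommGrpCat.{u}).epi_of_epi_map
        (inferInstanceAs (Epi ((toAbF O).map ((ModSite.sectOn O U).map S.g)).hom))
    exact (toAbF O).epi_of_epi_map inferInstance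

end Groth.Agent.SSExist
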