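import Groth.Agent.SSExist.CechPre
import Groth.Agent.SSExist.BotSS

/-!
# Čech cohomology as cohomology of the generated sieve
-/

set_option autoImplicit false
set_option linter.style.haveILetI false

open CategoryTheory CategoryTheory.Limits Opposite CategoryTheory.Abelian

namespace Groth.Agent.SSExist

universe u

variable {C : Type u} [SmallCategory C] [HasPullbacks C] {X : C} {ι : Type u} (Y : ι → Over X)

/-- The sieve generated by the family. -/
noncomputable abbrev famSieve : Sieve X := Sieve.ofArrows (fun i => (Y i).left) (fun i => (Y i).hom)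

lemma famSieve_mem {n : ℕ} (x : Fin (n + 1) → ι) : famSieve Y (prodObj Y x).hom :=
  (Sieve.mem_ofArrows_iff _ _ _).2 ⟨x 0, (Pi.π (Y ∘ x) 0).left, (Over.w _).symm⟩

lemma exists_pt {V : C} (k : (famSieve Y).functor.obj (op V)) :
    Nonempty {q : Pt Y V // q.2 ≫ (Y q.1).hom = k.1} := by
  obtain ⟨i, h, hh⟩ := (Sieve.mem_ofArrows_iff _ _ _).1 k.2
  exact ⟨⟨⟨i, h⟩, hh.symm⟩⟩

/-- The free presheaf on the sieve. -/
noncomputable abbrev sieveFree : Cᵒᵖ ⥤ AddCommGrpCat.{u} := (famSieve Y).functor ⋙ AddCommGrpCat.free.{u}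

/-- The element of the sieve given by a tuple. -/
noncomputable abbrev tupleEl {n : ℕ} (x : Fin (n + 1) → ι) : (famSieve Y).functor.obj (op (prodObj Y x).left) :=
  ⟨(prodObj Y x).hom, famSieve_mem Y x⟩

lemma sieveFree_map_of {V W : C} (g : W ⟶ V) (k : (famSieve Y).functor.obj (op V)) :
    (sieveFree Y).map g.op (FreeAbelianGroup.of k) = FreeAbelianGroup.of ((famSieve Y).functor.map g.op k) :=
  FreeAbelianGroup.lift_apply_of _ k

variable {Y}

lemma sieveHom_map {P : Cᵒᵖ ⥤ AddCommGrpCat.{u}} (ψ : sieveFree Y ⟶ P) {V W : C} (g : W ⟶ V)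
    (k : (famSieve Y).functor.obj (op V)) (k' : (famSieve Y).functor.obj (op W)) (h : g ≫ k.1 = k'.1) :
    P.map g.op (ψ.app (op V) (FreeAbelianGroup.of k)) = ψ.app (op W) (FreeAbelianGroup.of k') := by
  refine (ConcreteCategory.congr_hom (ψ.naturality g.op) (FreeAbelianGroup.of k)).symm.trans ?_
  refine congrArg (ψ.app (op W)) ((sieveFree_map_of Y g k).trans (congrArg FreeAbelianGroup.of ?_))
  exact Subtype.ext h

variable (Y)

/-- The zero cochain of a morphism out of the free presheaf on the sieve. -/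
noncomputable def sieveToCech (P : Cᵒᵖ ⥤ AddCommGrpCat.{u}) :
    (sieveFree Y ⟶ P) →+ ((cechF Y).obj P).X 0 :=
  AddMonoidHom.mk' (fun ψ => cmk Y P 0 fun x => ψ.app _ (FreeAbelianGroup.of (tupleEl Y x)))
    (fun a b => cproj_ext Y fun x => by
      rw [map_add, cproj_cmk, cproj_cmk, cproj_cmk]
      rfl)

lemma cproj_sieveToCech (P : Cᵒᵖ ⥤ AddCommGrpCat.{u}) (ψ : sieveFree Y ⟶ P) (x : Fin 1 → ι) :
    cproj Y P 0 x (sieveToCech Y P ψ) = ψ.app _ (FreeAbelianGroup.of (tupleEl Y x)) :=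
  cproj_cmk Y P 0 _ x

lemma evalPt_sieveToCech (P : Cᵒᵖ ⥤ AddCommGrpCat.{u}) (ψ : sieveFree Y ⟶ P) {V : C}
    (k : (famSieve Y).functor.obj (op V)) (p : Fin 1 → Pt Y V) (hp : ∀ a, (p a).2 ≫ (Y (p a).1).hom = k.1) :
    evalPt P k.1 p hp (sieveToCech Y P ψ) = ψ.app (op V) (FreeAbelianGroup.of k) :=
  (congrArg (P.map (liftPt k.1 p hp).left.op) (cproj_sieveToCech Y P ψ _)).trans
    (sieveHom_map ψ _ _ k (Over.w (liftPt k.1 p hp)))

lemma d_sieveToCech (P : Cᵒᵖ ⥤ AddCommGrpCat.{u}) (ψ : sieveFree Y ⟶ P) :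
    ((cechF Y).obj P).d 0 1 (sieveToCech Y P ψ) = 0 := by
  refine cproj_ext Y fun x => ?_
  have h : ∀ j : Fin 2, P.map (faceHom Y x j).left.op (cproj Y P 0 (x ∘ j.succAbove) (sieveToCech Y P ψ)) =
      ψ.app _ (FreeAbelianGroup.of (tupleEl Y x)) := fun j =>
    (congrArg _ (cproj_sieveToCech Y P ψ _)).trans (sieveHom_map ψ _ _ _ (Over.w (faceHom Y x j)))
  rw [cproj_d, Fin.sum_univ_two, h, h, map_zero]
  simp

lemma sieveToCech_injective (P : Cᵒᵖ ⥤ AddCommGrpCat.{u}) : Function.Injective (sieveToCech Y P) := by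
  intro a b h
  refine NatTrans.ext (funext fun V => AddCommGrpCat.hom_ext (FreeAbelianGroup.lift_ext _ _ fun k => ?_))
  obtain ⟨q, hq⟩ := (exists_pt Y k).some
  exact (evalPt_sieveToCech Y P a k (fun _ => q) (fun _ => hq)).symm.trans
    ((congrArg (evalPt P k.1 (fun _ => q) (fun _ => hq)) h).trans (evalPt_sieveToCech Y P b k _ _))

/-- The value of a zero cochain at an element of the sieve. -/
noncomputable def cochainVal (P : Cᵒᵖ ⥤ AddCommGrpCat.{u}) (a : ((cechF Y).obj P).X 0) (V : Cᵒᵖ)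
    (k : (famSieve Y).functor.obj V) : P.obj V :=
  evalPt P k.1 (fun _ => (exists_pt Y (V := V.unop) k).some.1) (fun _ => (exists_pt Y (V := V.unop) k).some.2) a

lemma evalPt_eq_of_cocycle {P : Cᵒᵖ ⥤ AddCommGrpCat.{u}} {a : ((cechF Y).obj P).X 0}
    (ha : ((cechF Y).obj P).d 0 1 a = 0) {V : C} (c : V ⟶ X) (p q : Fin 1 → Pt Y V)
    (hp : ∀ b, (p b).2 ≫ (Y (p b).1).hom = c) (hq : ∀ b, (q b).2 ≫ (Y (q b).1).hom = c) :
    evalPt P c p hp a = evalPt P c q hq a := by
  let r : Fin 2 → Pt Y V := Fin.cons (q 0) p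
  have hr : ∀ b, (r b).2 ≫ (Y (r b).1).hom = c := Fin.cases (hq 0) hp
  have h0 : evalPt P c r hr (((cechF Y).obj P).d 0 1 a) = 0 := (congrArg _ ha).trans (map_zero _)
  rw [evalPt_d, Fin.sum_univ_two] at h0
  have e0 : evalPt P c (r ∘ (0 : Fin 2).succAbove) (fun b => hr _) a = evalPt P c p hp a :=
    evalPt_congr (funext fun b => by simp [r, Fin.succAbove_zero]) a
  have e1 : evalPt P c (r ∘ (1 : Fin 2).succAbove) (fun b => hr _) a = evalPt P c q hq a :=
    evalPt_congr (funext fun b => by obtain rfl : b = 0 := Fin.fin_one_eq_zero b; simp [r]) a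
  rw [e0, e1] at h0
  simpa [sub_eq_zero, ← sub_eq_add_neg] using h0

lemma sieveToCech_surjective {P : Cᵒᵖ ⥤ AddCommGrpCat.{u}} {a : ((cechF Y).obj P).X 0}
    (ha : ((cechF Y).obj P).d 0 1 a = 0) : ∃ ψ, sieveToCech Y P ψ = a := by
  let ψ : sieveFree Y ⟶ P :=
    { app := fun V => AddCommGrpCat.ofHom (FreeAbelianGroup.lift (cochainVal Y P a V))
      naturality := fun V W g => by
        refine AddCommGrpCat.hom_ext (FreeAbelianGroup.lift_ext _ _ fun k => ?_)
        refine (congrArg (FreeAbelianGroup.lift (cochainVal Y P a W)) (sieveFree_map_of Y (V := V.unop) g.unop k)).trans ?_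
        rw [FreeAbelianGroup.lift_apply_of]
        refine Eq.trans ?_ (congrArg (P.map g) (FreeAbelianGroup.lift_apply_of (cochainVal Y P a V) k)).symm
        let q := (exists_pt Y (V := V.unop) k).some
        have hq : ∀ _ : Fin 1, (g.unop ≫ q.1.2) ≫ (Y q.1.1).hom = g.unop ≫ k.1 := fun _ =>
          (Category.assoc _ _ _).trans (congrArg (g.unop ≫ ·) q.2)
        refine (evalPt_eq_of_cocycle Y ha _ _ (fun _ => ⟨q.1.1, g.unop ≫ q.1.2⟩) _ hq).trans ?_
        let l := liftPt k.1 (fun _ : Fin 1 => q.1) (fun _ => q.2)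
        have hl : (liftPt (g.unop ≫ k.1) (fun _ : Fin 1 => (⟨q.1.1, g.unop ≫ q.1.2⟩ : Pt Y W.unop)) hq) =
            (Over.homMk g.unop rfl : Over.mk (g.unop ≫ k.1) ⟶ Over.mk k.1) ≫ l :=
          Pi.hom_ext _ _ fun b => (Pi.lift_π _ b).trans ((Over.OverMorphism.ext rfl).trans
            ((congrArg ((Over.homMk g.unop rfl : Over.mk (g.unop ≫ k.1) ⟶ Over.mk k.1) ≫ ·)
              (Pi.lift_π (fun _ : Fin 1 => (Over.homMk q.1.2 q.2 : Over.mk k.1 ⟶ Y q.1.1)) b)).symm.trans
              (Category.assoc _ _ _).symm))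
        refine (congrArg (fun t : Over.mk (g.unop ≫ k.1) ⟶ prodObj Y (fun _ : Fin 1 => q.1.1) =>
          P.map t.left.op (cproj Y P 0 (fun _ : Fin 1 => q.1.1) a)) hl).trans ?_
        exact ConcreteCategory.congr_hom (P.map_comp l.left.op g) _ }
  refine ⟨ψ, cproj_ext Y fun x => (cproj_sieveToCech Y P ψ x).trans ?_⟩
  refine (FreeAbelianGroup.lift_apply_of _ _).trans ?_
  refine (evalPt_eq_of_cocycle Y ha _ _ (ptsOf x (𝟙 _)) _ (fun b => (ptsOf_cond x (𝟙 _) b).trans
    (Category.id_comp _))).trans ?_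
  refine (evalPt_congr (hp' := ptsOf_cond x (𝟙 _)) rfl a).trans ?_
  refine (evalPt_ptsOf P x (𝟙 _) a).trans ?_
  rw [op_id, P.map_id]
  rfl

/-- The cycle of a morphism out of the sieve. -/
noncomputable def sieveCycle (P : Cᵒᵖ ⥤ AddCommGrpCat.{u}) :
    AddCommGrpCat.of (sieveFree Y ⟶ P) ⟶ ((cechF Y).obj P).cycles 0 :=
  ((cechF Y).obj P).liftCycles (AddCommGrpCat.ofHom (sieveToCech Y P)) 1 (by simp)
    (AddCommGrpCat.ext fun ψ => d_sieveToCech Y P ψ)

lemma sieveCycle_i (P : Cᵒᵖ ⥤ AddCommGrpCat.{u}) (ψ : sieveFree Y ⟶ P) :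
    ((cechF Y).obj P).iCycles 0 (sieveCycle Y P ψ) = sieveToCech Y P ψ := by
  show (sieveCycle Y P ≫ ((cechF Y).obj P).iCycles 0) ψ = _
  rw [sieveCycle, HomologicalComplex.liftCycles_i]
  rfl

/-- Zeroth Čech cohomology is morphisms out of the generated sieve. -/
noncomputable def sieveToHZero (P : Cᵒᵖ ⥤ AddCommGrpCat.{u}) :
    AddCommGrpCat.of (sieveFree Y ⟶ P) ⟶ (hZero (cechF Y)).obj P :=
  sieveCycle Y P ≫ ((cechF Y).obj P).homologyπ 0

lemma iCycles0_injective (P : Cᵒᵖ ⥤ AddCommGrpCat.{u}) : Function.Injective (((cechF Y).obj P).iCycles 0) :=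
  (AddCommGrpCat.mono_iff_injective _).1 inferInstance

lemma isIso_sieveToHZero (P : Cᵒᵖ ⥤ AddCommGrpCat.{u}) : IsIso (sieveToHZero Y P) := by
  let L := (cechF Y).obj P
  haveI : IsIso (L.homologyπ 0) := inferInstanceAs (IsIso (CochainComplex.isoHomologyπ₀ _).hom)
  haveI : IsIso (sieveCycle Y P) := by
    rw [ConcreteCategory.isIso_iff_bijective]
    constructor
    · intro a b h
      exact sieveToCech_injective Y P
        ((sieveCycle_i Y P a).symm.trans ((congrArg (L.iCycles 0) h).trans (sieveCycle_i Y P b)))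
    · intro z
      obtain ⟨ψ, hψ⟩ := sieveToCech_surjective Y (a := L.iCycles 0 z)
        (ConcreteCategory.congr_hom (L.iCycles_d 0 1) z)
      exact ⟨ψ, iCycles0_injective Y P ((sieveCycle_i Y P ψ).trans hψ)⟩
  exact inferInstanceAs (IsIso (sieveCycle Y P ≫ L.homologyπ 0))

lemma sieveToHZero_naturality {P Q : Cᵒᵖ ⥤ AddCommGrpCat.{u}} (α : P ⟶ Q) (ψ : sieveFree Y ⟶ P) :
    (hZero (cechF Y)).map α (sieveToHZero Y P ψ) = sieveToHZero Y Q (ψ ≫ α) := by
  let L' := (cechF Y).obj Q
  refine (ConcreteCategory.congr_hom (HomologicalComplex.homologyπ_naturality ((cechF Y).map α) 0) _).trans ?_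
  refine congrArg (L'.homologyπ 0) (iCycles0_injective Y Q ?_)
  refine (ConcreteCategory.congr_hom (HomologicalComplex.cyclesMap_i ((cechF Y).map α) 0) _).trans ?_
  refine (congrArg (((cechF Y).map α).f 0) (sieveCycle_i Y P ψ)).trans ?_
  refine Eq.trans ?_ (sieveCycle_i Y Q (ψ ≫ α)).symm
  refine cproj_ext Y fun x => (cechF_map_cproj Y α 0 x _).trans ?_
  exact (congrArg _ (cproj_sieveToCech Y P ψ x)).trans (cproj_sieveToCech Y Q (ψ ≫ α) x).symm

/-- The Čech functor on sheaves for the trivial topology. -/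
noncomputable abbrev cechBot : Sheaf (⊥ : GrothendieckTopology C) AddCommGrpCat.{u} ⥤ CochainComplex AddCommGrpCat.{u} ℕ :=
  (sheafBotEquivalence AddCommGrpCat.{u}).functor ⋙ cechF Y

instance cechBot_additive : (cechBot Y).Additive :=
  haveI : (sheafBotEquivalence (C := C) AddCommGrpCat.{u}).functor.Additive := { map_add := rfl }
  inferInstance

/-- Morphisms out of the free sheaf on the sieve for the trivial topology. -/
noncomputable def cechBotCoyIso :
    hZero (cechBot Y) ≅ preadditiveCoyoneda.obj (op (freeBot (famSieve Y).functor)) :=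
  haveI : IsIso (toSheafify (⊥ : GrothendieckTopology C) (sieveFree Y)) := isIso_toSheafify _ (Presheaf.isSheaf_bot _)
  let adj := sheafificationAdjunction (⊥ : GrothendieckTopology C) AddCommGrpCat.{u}
  (NatIso.ofComponents (fun F =>
    AddEquiv.toAddCommGrpIso (X := (preadditiveCoyoneda.obj (op (freeBot (famSieve Y).functor))).obj F)
      (Y := AddCommGrpCat.of (sieveFree Y ⟶ F.obj)) (adj.homAddEquiv _ F) ≪≫
    @asIso _ _ _ _ (sieveToHZero Y F.obj) (isIso_sieveToHZero Y F.obj))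
    (fun {F G} g => by
      ext ψ
      refine (congrArg (sieveToHZero Y G.obj) (adj.homEquiv_naturality_right ψ g)).trans ?_
      exact (sieveToHZero_naturality Y g.hom _).symm)).symm

lemma isEffaceable_cechBot : IsEffaceable (cechBot Y) where
  exact S hS := (isEffaceable_cechF Y).exact _ (hS.map_of_exact (sheafBotEquivalence AddCommGrpCat.{u}).functor)
  injective I hI n := (isEffaceable_cechF Y).injective _
    ((sheafBotEquivalence (C := C) AddCommGrpCat.{u}).functor.injective_obj_of_injective hI) n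

/-- Čech cohomology as derived functors of the sieve. -/
lemma nonempty_cechH_iso (P : Sheaf (⊥ : GrothendieckTopology C) AddCommGrpCat.{u}) (q : ℕ) :
    Nonempty (CohCx.cechH P.obj Y q ≅
      ((preadditiveCoyoneda.obj (op (freeBot (famSieve Y).functor))).rightDerived q).obj P) := by
  obtain ⟨e⟩ := nonempty_rightDerived_hZero_iso (cechBot Y) (isEffaceable_cechBot Y) q P
  exact ⟨e.symm ≪≫ ((InjectiveResolution.isoRightDerivedObj (injectiveResolution P) (hZero (cechBot Y)) q) ≪≫
    (HomologicalComplex.homologyFunctor _ _ q).mapIso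
      ((NatIso.mapHomologicalComplex (cechBotCoyIso Y) (ComplexShape.up ℕ)).app _) ≪≫
    (InjectiveResolution.isoRightDerivedObj (injectiveResolution P) _ q).symm)⟩

variable (J : GrothendieckTopology C)

/-- For a covering family the free sheaf on the sieve is the free sheaf on the base. -/
noncomputable def freeSieveIso (hY : famSieve Y ∈ J X) :
    (ToposFin.freeAb J).obj ((presheafToSheaf J (Type u)).obj (famSieve Y).functor) ≅ freeAb J X :=
  haveI : IsIso ((presheafToSheaf J (Type u)).map (famSieve Y).functorInclusion) := by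
    rw [← GrothendieckTopology.W_iff]
    haveI : Presheaf.IsLocallySurjective J (famSieve Y).functorInclusion := ⟨fun {V} k =>
      J.superset_covering (fun W g hg => ⟨⟨g ≫ k, hg⟩, rfl⟩) (J.pullback_stable k hY)⟩
    haveI : Presheaf.IsLocallyInjective J (famSieve Y).functorInclusion :=
      Presheaf.isLocallyInjective_of_injective J _ fun V => Subtype.val_injective
    exact J.W_of_isLocallyBijective _
  (ToposFin.freeAb J).mapIso (asIso ((presheafToSheaf J (Type u)).map (famSieve Y).functorInclusion)) ≪≫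
    ((freeShIso J).app (yoneda.obj X)).symm

/-- The spectral sequence of a covering. -/
theorem exists_cartanLeray (M : Sheaf J AddCommGrpCat.{u}) (hY : famSieve Y ∈ J X)
    (Z : AddCommGrpCat.{u}) (hZ : IsZero Z) :
    ∃ (E : E₂CohomologicalSpectralSequence AddCommGrpCat.{u})
      (a : SpSeq.Abutment E (fun n : ℤ => if 0 ≤ n then AddCommGrpCat.of (CohSite.HU M n.toNat X) else Z)),
      (∀ n, a.IsFinite n) ∧ SpSeq.IsBounded E ∧
      ∀ p q : ℤ, Nonempty ((E.page 2 le_rfl).X (p, q) ≅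
        (if 0 ≤ p ∧ 0 ≤ q then CohCx.cechH (M.cohomologyPresheaf q.toNat) Y p.toNat else Z)) := by
  haveI := toBot_preservesInjectiveObjects J
  refine exists_grothendieck_preservesInjective (toBot J) (preadditiveCoyoneda.obj (op (freeBot (famSieve Y).functor)))
    M Z hZ (fun n => AddCommGrpCat.of (CohSite.HU M n X))
    (fun n => nonempty_ext_iso_rightDerived _ (freeAb J X)
      (botCoyIso J (famSieve Y).functor ≪≫ preadditiveCoyoneda.mapIso (freeSieveIso Y J hY).symm.op) M n)
    (fun p q => CohCx.cechH (M.cohomologyPresheaf q) Y p) (fun p q => ?_)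
  haveI : (sheafBotEquivalence (C := C) AddCommGrpCat.{u}).inverse.Additive := { map_add := rfl }
  obtain ⟨e⟩ := nonempty_rightDerived_of_exact (toBot J) (sheafBotEquivalence AddCommGrpCat.{u}).inverse (Iso.refl _) M q
  obtain ⟨e'⟩ := nonempty_cechH_iso Y ⟨M.cohomologyPresheaf q, Presheaf.isSheaf_bot _⟩ p
  exact ⟨e' ≪≫ ((preadditiveCoyoneda.obj (op (freeBot (famSieve Y).functor))).rightDerived p).mapIso e.symm⟩

end Groth.Agent.SSExist
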