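import Groth.Agent.SSExist.CechNerve
import Groth.Agent.SSExist.ModAcyclic

/-!
# Čech nerves and functors preserving fibre products
-/

set_option autoImplicit false
set_option linter.style.haveILetI false

open CategoryTheory CategoryTheory.Limits Opposite CategoryTheory.Abelian AlgebraicTopology Simplicial

namespace Groth.Agent.SSExist.NervePull

section General

universe v v' w w'

variable {A : Type w} [Category.{v} A] {B : Type w'} [Category.{v'} B] [HasFiniteLimits A] [HasFiniteLimits B]
  (G : A ⥤ B) {L' L : A} (p : L' ⟶ L)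

/-- The fibre powers. -/
noncomputable abbrev wp (n : ℕ) : A := widePullback.{0} L (fun _ : Fin (n + 1) => L') fun _ => p

/-- Forgetting the last factor. -/
noncomputable def dropLast (n : ℕ) : wp p (n + 1) ⟶ wp p n :=
  WidePullback.lift (WidePullback.base _) (fun i => WidePullback.π _ i.castSucc) (fun _ => WidePullback.π_arrow _ _)

lemma dropLast_π (n : ℕ) (i : Fin (n + 1)) :
    dropLast p n ≫ WidePullback.π _ i = WidePullback.π (fun _ : Fin (n + 2) => p) i.castSucc :=
  WidePullback.lift_π _ _ _ _ _

lemma dropLast_base (n : ℕ) : dropLast p n ≫ WidePullback.base _ = WidePullback.base (fun _ : Fin (n + 2) => p) :=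
  WidePullback.lift_base _ _ _ _

lemma isPullback_dropLast (n : ℕ) :
    IsPullback (dropLast p n) (WidePullback.π (fun _ : Fin (n + 2) => p) (Fin.last _)) (WidePullback.base _) p := by
  refine IsPullback.of_isLimit' ⟨(dropLast_base p n).trans (WidePullback.π_arrow _ _).symm⟩
    (PullbackCone.IsLimit.mk _
      (fun s => WidePullback.lift (s.fst ≫ WidePullback.base _)
        (Fin.lastCases s.snd fun i => s.fst ≫ WidePullback.π (fun _ : Fin (n + 1) => p) i) (fun j => ?_))
      (fun s => ?_) (fun s => ?_) (fun s m h₁ h₂ => ?_))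
  · induction j using Fin.lastCases with
    | last => rw [Fin.lastCases_last]; exact s.condition.symm
    | cast i => rw [Fin.lastCases_castSucc, Category.assoc, WidePullback.π_arrow]
  · refine WidePullback.hom_ext _ _ _ (fun i => ?_) ?_
    · rw [Category.assoc, dropLast_π, WidePullback.lift_π, Fin.lastCases_castSucc]
    · rw [Category.assoc, dropLast_base, WidePullback.lift_base]
  · rw [WidePullback.lift_π, Fin.lastCases_last]
  · refine WidePullback.hom_ext _ _ _ (fun j => ?_) ?_
    · rw [WidePullback.lift_π]
      induction j using Fin.lastCases with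
      | last => rw [Fin.lastCases_last]; exact h₂
      | cast i => rw [Fin.lastCases_castSucc, ← h₁, Category.assoc, dropLast_π]
    · rw [WidePullback.lift_base, ← h₁, Category.assoc, dropLast_base]

variable [PreservesLimitsOfShape WalkingCospan G]

/-- A functor preserving fibre products preserves the fibre powers. -/
lemma map_wp_lift : ∀ (n : ℕ) {W : B} (b : W ⟶ G.obj L) (x : Fin (n + 1) → (W ⟶ G.obj L')),
    (∀ i, x i ≫ G.map p = b) →
      (∃! l : W ⟶ G.obj (wp p n), ∀ i, l ≫ G.map (WidePullback.π (fun _ : Fin (n + 1) => p) i) = x i) := by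
  intro n
  induction n with
  | zero =>
    intro W b x h
    let inv : L' ⟶ wp p 0 := WidePullback.lift p (fun _ => 𝟙 _) (fun _ => Category.id_comp _)
    have h1 : inv ≫ WidePullback.π (fun _ : Fin 1 => p) 0 = 𝟙 _ := WidePullback.lift_π _ _ _ _ _
    have h2 : WidePullback.π (fun _ : Fin 1 => p) 0 ≫ inv = 𝟙 _ := by
      refine WidePullback.hom_ext _ _ _ (fun i => ?_) ?_
      · rw [Fin.fin_one_eq_zero i, Category.assoc, h1, Category.comp_id, Category.id_comp]
      · rw [Category.assoc, WidePullback.lift_base, Category.id_comp]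
        exact WidePullback.π_arrow _ _
    refine ⟨x 0 ≫ G.map inv, fun i => ?_, fun l hl => ?_⟩
    · rw [Fin.fin_one_eq_zero i, Category.assoc, ← G.map_comp, h1, G.map_id, Category.comp_id]
    · rw [← hl 0, Category.assoc, ← G.map_comp, h2, G.map_id, Category.comp_id]
  | succ n ih =>
    intro W b x h
    obtain ⟨l0, hl0, hu⟩ := ih b (fun i => x i.castSucc) (fun i => h _)
    have hsq := (isPullback_dropLast p n).map G
    have hb : l0 ≫ G.map (WidePullback.base (fun _ : Fin (n + 1) => p)) = b := by
      rw [← WidePullback.π_arrow (fun _ : Fin (n + 1) => p) 0, G.map_comp, ← Category.assoc, hl0 0, h]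
    have hw : l0 ≫ G.map (WidePullback.base (fun _ : Fin (n + 1) => p)) = x (Fin.last _) ≫ G.map p :=
      hb.trans (h _).symm
    refine ⟨hsq.lift l0 (x (Fin.last _)) hw, fun i => ?_, fun l hl => ?_⟩
    · induction i using Fin.lastCases with
      | last => exact hsq.lift_snd _ _ _
      | cast i => rw [← dropLast_π p n i, G.map_comp, ← Category.assoc, hsq.lift_fst, hl0]
    · refine hsq.hom_ext ?_ ?_
      · rw [hsq.lift_fst]
        refine hu _ fun i => ?_
        rw [Category.assoc, ← G.map_comp, dropLast_π]
        exact hl _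
      · rw [hsq.lift_snd]
        exact hl _

/-- The comparison of fibre powers. -/
noncomputable def wpComp (n : ℕ) : G.obj (wp p n) ⟶ wp (G.map p) n :=
  WidePullback.lift (G.map (WidePullback.base (fun _ : Fin (n + 1) => p)))
    (fun i => G.map (WidePullback.π (fun _ : Fin (n + 1) => p) i))
    (fun i => by rw [← G.map_comp, WidePullback.π_arrow])

lemma wpComp_π (n : ℕ) (i : Fin (n + 1)) :
    wpComp G p n ≫ WidePullback.π _ i = G.map (WidePullback.π (fun _ : Fin (n + 1) => p) i) :=
  WidePullback.lift_π _ _ _ _ _

instance isIso_wpComp (n : ℕ) : IsIso (wpComp G p n) := by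
  obtain ⟨l, hl, -⟩ := map_wp_lift G p n (WidePullback.base (fun _ : Fin (n + 1) => G.map p))
    (fun i => WidePullback.π (fun _ : Fin (n + 1) => G.map p) i) (fun i => WidePullback.π_arrow _ _)
  refine ⟨l, ?_, ?_⟩
  · exact (map_wp_lift G p n (G.map (WidePullback.base (fun _ : Fin (n + 1) => p)))
      (fun i => G.map (WidePullback.π (fun _ : Fin (n + 1) => p) i))
      (fun i => by rw [← G.map_comp, WidePullback.π_arrow])).unique
      (fun i => by rw [Category.assoc, hl, wpComp_π]) (fun i => Category.id_comp _)
  · refine WidePullback.hom_ext _ _ _ (fun i => ?_) ?_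
    · rw [Category.assoc, wpComp_π, hl, Category.id_comp]
    · rw [← WidePullback.π_arrow (fun _ : Fin (n + 1) => G.map p) 0, ← Category.assoc, Category.assoc l,
        wpComp_π, hl, Category.id_comp]

/-- Čech nerves commute with functors preserving fibre products. -/
noncomputable def mapNerveIso : (Arrow.mk p).cechNerve ⋙ G ≅ (Arrow.mk (G.map p)).cechNerve :=
  NatIso.ofComponents (fun X => @asIso _ _ _ _ (wpComp G p X.unop.len) (isIso_wpComp G p _)) fun {X Y} g => by
    refine WidePullback.hom_ext _ _ _ (fun i => ?_) ?_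
    · show (G.map _ ≫ wpComp G p _) ≫ _ = (wpComp G p _ ≫ _) ≫ _
      dsimp only [Arrow.cechNerve_map, wpComp]
      simp only [Category.assoc, WidePullback.lift_π]
      refine (congrArg (_ ≫ ·) (WidePullback.lift_π _ _ _ _ _)).trans ?_
      refine ((G.map_comp _ _).symm.trans (congrArg _ (WidePullback.lift_π _ _ _ _ _))).trans ?_
      exact Eq.symm (WidePullback.lift_π _ _ _ _ _)
    · show (G.map _ ≫ wpComp G p _) ≫ _ = (wpComp G p _ ≫ _) ≫ _
      dsimp only [Arrow.cechNerve_map, wpComp]
      simp only [Category.assoc, WidePullback.lift_base]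
      refine (congrArg (_ ≫ ·) (WidePullback.lift_base _ _ _ _)).trans ?_
      refine ((G.map_comp _ _).symm.trans (congrArg _ (WidePullback.lift_base _ _ _ _))).trans ?_
      exact Eq.symm (WidePullback.lift_base _ _ _ _)

end General

universe u

variable {C D : Type u} [SmallCategory C] [SmallCategory D] (J : GrothendieckTopology C) (K : GrothendieckTopology D)
  (u : C ⥤ D) [u.IsContinuous J K]

/-- The free sheaf of a pullback is the pullback of the free sheaf. -/
noncomputable def freePullIso :
    ToposFin.freeAb J ⋙ u.sheafPullback AddCommGrpCat.{u} J K ≅ u.sheafPullback (Type u) J K ⋙ ToposFin.freeAb K :=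
  Adjunction.leftAdjointUniq ((freeAbAdj J).comp (u.sheafAdjunctionContinuous AddCommGrpCat.{u} J K))
    (((u.sheafAdjunctionContinuous (Type u) J K).comp (freeAbAdj K)).ofNatIsoRight (Iso.refl _))

variable [PreservesLimitsOfShape WalkingCospan (u.sheafPullback (Type u) J K)]

/-- The pullback of the complex of free sheaves on a nerve. -/
noncomputable def freeNerveIso {L' L : Sheaf J (Type u)} (p : L' ⟶ L) :
    haveI := (u.sheafAdjunctionContinuous AddCommGrpCat.{u} J K).leftAdjoint_preservesColimits
    haveI : (u.sheafPullback AddCommGrpCat.{u} J K).Additive := (u.sheafAdjunctionContinuous AddCommGrpCat.{u} J K).left_adjoint_additive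
    ((u.sheafPullback AddCommGrpCat.{u} J K).mapHomologicalComplex _).obj (freeNerve p) ≅
      freeNerve ((u.sheafPullback (Type u) J K).map p) :=
  haveI := (u.sheafAdjunctionContinuous AddCommGrpCat.{u} J K).leftAdjoint_preservesColimits
  haveI : (u.sheafPullback AddCommGrpCat.{u} J K).Additive := (u.sheafAdjunctionContinuous AddCommGrpCat.{u} J K).left_adjoint_additive
  eqToIso (congrArg (fun F => Functor.obj F ((Arrow.mk p).cechNerve ⋙ ToposFin.freeAb J))
    (map_alternatingFaceMapComplex (u.sheafPullback AddCommGrpCat.{u} J K))) ≪≫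
  (alternatingFaceMapComplex _).mapIso (Functor.associator _ _ _ ≪≫
    Functor.isoWhiskerLeft _ (freePullIso J K u) ≪≫ (Functor.associator _ _ _).symm ≪≫
    Functor.isoWhiskerRight (mapNerveIso (u.sheafPullback (Type u) J K) p) _)

/-- Čech exactness of direct images of injective abelian sheaves. -/
theorem cechExact_push_injective (I : Sheaf K AddCommGrpCat.{u}) [Injective I] {L' L : Sheaf J (Type u)}
    (p : L' ⟶ L) [Epi p] (n : ℕ) : CechExact p ((CohSite.push K J u).obj I) n := by
  haveI := (u.sheafAdjunctionContinuous AddCommGrpCat.{u} J K).leftAdjoint_preservesColimits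
  haveI : (u.sheafPullback AddCommGrpCat.{u} J K).Additive := (u.sheafAdjunctionContinuous AddCommGrpCat.{u} J K).left_adjoint_additive
  haveI := (u.sheafAdjunctionContinuous (Type u) J K).leftAdjoint_preservesColimits
  haveI : Epi ((u.sheafPullback (Type u) J K).map p) := inferInstance
  let P := u.sheafPullback AddCommGrpCat.{u} J K
  let adj := u.sheafAdjunctionContinuous AddCommGrpCat.{u} J K
  let T := (P.mapHomologicalComplex (ComplexShape.down ℕ)).obj (freeNerve p)
  have hT : (ShortComplex.mk _ _ (T.d_comp_d (n + 2) (n + 1) n)).Exact := by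
    refine (T.exactAt_iff' (n + 2) (n + 1) n (by simp) (by simp)).1 ?_
    exact HomologicalComplex.ExactAt.of_iso
      (((freeNerve ((u.sheafPullback (Type u) J K).map p)).exactAt_iff' (n + 2) (n + 1) n (by simp) (by simp)).2
        (freeNerve_exact ((u.sheafPullback (Type u) J K).map p) n)) (freeNerveIso J K u p).symm
  intro a ha
  let a' := (adj.homEquiv _ _).symm a
  have ha' : T.d (n + 2) (n + 1) ≫ a' = 0 := by
    show P.map _ ≫ a' = 0
    rw [← Adjunction.homEquiv_naturality_left_symm, ha, Adjunction.homEquiv_counit, Functor.map_zero, zero_comp]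
  refine ⟨adj.homEquiv _ _ (hT.descToInjective a' ha'), ?_⟩
  rw [← Adjunction.homEquiv_naturality_left]
  exact (congrArg (adj.homEquiv _ _) (hT.comp_descToInjective a' ha')).trans (Equiv.apply_symm_apply _ _)

end Groth.Agent.SSExist.NervePull
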