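import Groth.Agent.SSExist.H0Derived
import Groth.Prelude.Def_CohCx
import Groth.Prelude.Def_CohSite
import Mathlib.CategoryTheory.Limits.Shapes.ConcreteCategory
import Mathlib.CategoryTheory.Sites.IsSheafFor
import Mathlib.CategoryTheory.Sites.Abelian

/-!
# Čech complexes of a family of arrows on presheaves
-/

set_option autoImplicit false
set_option linter.style.haveILetI false

open CategoryTheory CategoryTheory.Limits Opposite AlgebraicTopology Simplicial

namespace Groth.Agent.SSExist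

universe u

variable {C : Type u} [SmallCategory C] [HasPullbacks C] {X : C} {ι : Type u} (Y : ι → Over X)

/-- The Čech complex functor of a family over an object. -/
noncomputable abbrev cechF : (Cᵒᵖ ⥤ AddCommGrpCat.{u}) ⥤ CochainComplex AddCommGrpCat.{u} ℕ :=
  (Functor.whiskeringLeft (Over X)ᵒᵖ Cᵒᵖ AddCommGrpCat.{u}).obj (Over.forget X).op ⋙ cechComplexFunctor Y

/-- The fibre product of a tuple of members of the family. -/
noncomputable abbrev prodObj {n : ℕ} (x : Fin (n + 1) → ι) : Over X := ∏ᶜ (Y ∘ x)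

/-- The value on a tuple. -/
noncomputable def cproj (P : Cᵒᵖ ⥤ AddCommGrpCat.{u}) (n : ℕ) (x : Fin (n + 1) → ι) :
    ((cechF Y).obj P).X n ⟶ P.obj (op (prodObj Y x).left) :=
  Pi.π (fun x : Fin (n + 1) → ι => P.obj (op (prodObj Y x).left)) x

lemma cproj_ext {P : Cᵒᵖ ⥤ AddCommGrpCat.{u}} {n : ℕ} {a b : ((cechF Y).obj P).X n}
    (h : ∀ x, cproj Y P n x a = cproj Y P n x b) : a = b :=
  Concrete.limit_ext (Discrete.functor fun x : Fin (n + 1) → ι => P.obj (op (prodObj Y x).left)) a b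
    (fun ⟨x⟩ => h x)

/-- A cochain with given values. -/
noncomputable def cmk (P : Cᵒᵖ ⥤ AddCommGrpCat.{u}) (n : ℕ)
    (v : ∀ x : Fin (n + 1) → ι, P.obj (op (prodObj Y x).left)) : ((cechF Y).obj P).X n :=
  (Concrete.productEquiv (fun x : Fin (n + 1) → ι => P.obj (op (prodObj Y x).left))).symm v

lemma cproj_cmk (P : Cᵒᵖ ⥤ AddCommGrpCat.{u}) (n : ℕ)
    (v : ∀ x : Fin (n + 1) → ι, P.obj (op (prodObj Y x).left)) (x : Fin (n + 1) → ι) :
    cproj Y P n x (cmk Y P n v) = v x :=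
  Concrete.productEquiv_symm_apply_π (fun x : Fin (n + 1) → ι => P.obj (op (prodObj Y x).left)) v x

lemma cechF_map_cproj {P Q : Cᵒᵖ ⥤ AddCommGrpCat.{u}} (α : P ⟶ Q) (n : ℕ) (x : Fin (n + 1) → ι)
    (a : ((cechF Y).obj P).X n) :
    cproj Y Q n x (((cechF Y).map α).f n a) = α.app (op (prodObj Y x).left) (cproj Y P n x a) :=
  ConcreteCategory.congr_hom (Pi.map_π (fun x : Fin (n + 1) → ι => α.app (op (prodObj Y x).left)) x) a

/-- The projection of a tuple's product. -/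
noncomputable abbrev faceHom {n : ℕ} (x : Fin (n + 2) → ι) (j : Fin (n + 2)) :
    prodObj Y x ⟶ prodObj Y (x ∘ j.succAbove) :=
  Pi.lift fun a => Pi.π (Y ∘ x) (j.succAbove a)

lemma cproj_d (P : Cᵒᵖ ⥤ AddCommGrpCat.{u}) (n : ℕ) (x : Fin (n + 2) → ι) (a : ((cechF Y).obj P).X n) :
    cproj Y P (n + 1) x (((cechF Y).obj P).d n (n + 1) a) =
      ∑ j : Fin (n + 2), (-1 : ℤ) ^ (j : ℕ) • P.map (faceHom Y x j).left.op (cproj Y P n (x ∘ j.succAbove) a) := by
  let E := (FormalCoproduct.mk _ Y).cech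
  let Q := ((FormalCoproduct.cosimplicialObjectFunctor E).obj
    (((Functor.whiskeringLeft (Over X)ᵒᵖ Cᵒᵖ AddCommGrpCat.{u}).obj (Over.forget X).op).obj P))
  have h : ((cechF Y).obj P).d n (n + 1) = AlternatingCofaceMapComplex.objD Q n := by
    simp [cechF, cechComplexFunctor, FormalCoproduct.cochainComplexFunctor, alternatingCofaceMapComplex,
      AlternatingCofaceMapComplex.obj, Q, E]
  rw [h, AlternatingCofaceMapComplex.objD]
  let ev : (((cechF Y).obj P).X n ⟶ ((cechF Y).obj P).X (n + 1)) →+ P.obj (op (prodObj Y x).left) :=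
    AddMonoidHom.mk' (fun t => cproj Y P (n + 1) x (t a)) (fun s t => map_add (cproj Y P (n + 1) x).hom _ _)
  refine (map_sum ev _ _).trans (Finset.sum_congr rfl fun j _ => ?_)
  refine (map_zsmul ev _ _).trans (congrArg (_ • ·) ?_)
  exact ConcreteCategory.congr_hom (Pi.lift_π (fun i : Fin (n + 2) → ι =>
    Pi.π (fun x : Fin (n + 1) → ι => P.obj (op (prodObj Y x).left)) (i ∘ j.succAbove) ≫
      P.map (faceHom Y i j).left.op) x) a

/-- A point of the covering over `V`. -/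
abbrev Pt (V : C) : Type u := Σ i, (V ⟶ (Y i).left)

variable {Y}

/-- The lift of compatible points. -/
noncomputable def liftPt {n : ℕ} {V : C} (c : V ⟶ X) (p : Fin (n + 1) → Pt Y V)
    (hp : ∀ a, (p a).2 ≫ (Y (p a).1).hom = c) : Over.mk c ⟶ prodObj Y (Sigma.fst ∘ p) :=
  Pi.lift fun a => Over.homMk (p a).2 (hp a)

/-- The value of a cochain on compatible points. -/
noncomputable def evalPt (P : Cᵒᵖ ⥤ AddCommGrpCat.{u}) {n : ℕ} {V : C} (c : V ⟶ X) (p : Fin (n + 1) → Pt Y V)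
    (hp : ∀ a, (p a).2 ≫ (Y (p a).1).hom = c) : ((cechF Y).obj P).X n →+ P.obj (op V) :=
  (P.map (liftPt c p hp).left.op).hom.comp (cproj Y P n (Sigma.fst ∘ p)).hom

lemma evalPt_congr {P : Cᵒᵖ ⥤ AddCommGrpCat.{u}} {n : ℕ} {V : C} {c c' : V ⟶ X} {p p' : Fin (n + 1) → Pt Y V}
    {hp : ∀ a, (p a).2 ≫ (Y (p a).1).hom = c} {hp' : ∀ a, (p' a).2 ≫ (Y (p' a).1).hom = c'} (h : p = p')
    (a : ((cechF Y).obj P).X n) : evalPt P c p hp a = evalPt P c' p' hp' a := by
  subst h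
  have : c = c' := (hp 0).symm.trans (hp' 0)
  subst this
  rfl

lemma evalPt_d (P : Cᵒᵖ ⥤ AddCommGrpCat.{u}) {n : ℕ} {V : C} (c : V ⟶ X) (p : Fin (n + 2) → Pt Y V)
    (hp : ∀ a, (p a).2 ≫ (Y (p a).1).hom = c) (a : ((cechF Y).obj P).X n) :
    evalPt P c p hp (((cechF Y).obj P).d n (n + 1) a) =
      ∑ j : Fin (n + 2), (-1 : ℤ) ^ (j : ℕ) • evalPt P c (p ∘ j.succAbove) (fun b => hp _) a := by
  refine (congrArg (P.map (liftPt c p hp).left.op) (cproj_d Y P n (Sigma.fst ∘ p) a)).trans ?_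
  rw [map_sum]
  refine Finset.sum_congr rfl fun j _ => ?_
  rw [map_zsmul]
  refine congrArg (_ • ·) ?_
  have hlift : liftPt c p hp ≫ faceHom Y (Sigma.fst ∘ p) j = liftPt c (p ∘ j.succAbove) (fun b => hp _) :=
    Pi.hom_ext _ _ fun b => (Category.assoc _ _ _).trans ((congrArg (_ ≫ ·) (Pi.lift_π _ b)).trans
      ((Pi.lift_π _ _).trans (Pi.lift_π (fun b => (Over.homMk (p (j.succAbove b)).2 (hp _) :
        Over.mk c ⟶ Y (p (j.succAbove b)).1)) b).symm))
  refine Eq.trans ?_ (congrArg (fun l : Over.mk c ⟶ prodObj Y ((Sigma.fst ∘ p) ∘ j.succAbove) =>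
    P.map l.left.op (cproj Y P n ((Sigma.fst ∘ p) ∘ j.succAbove) a)) hlift)
  exact (ConcreteCategory.congr_hom (P.map_comp (faceHom Y (Sigma.fst ∘ p) j).left.op
    (liftPt c p hp).left.op) _).symm

/-- The points attached to a morphism into a fibre product. -/
noncomputable def ptsOf {n : ℕ} {V : C} (x : Fin (n + 1) → ι) (g : V ⟶ (prodObj Y x).left) : Fin (n + 1) → Pt Y V :=
  fun a => ⟨x a, g ≫ (Pi.π (Y ∘ x) a).left⟩

lemma ptsOf_cond {n : ℕ} {V : C} (x : Fin (n + 1) → ι) (g : V ⟶ (prodObj Y x).left) (a : Fin (n + 1)) :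
    (ptsOf x g a).2 ≫ (Y (ptsOf x g a).1).hom = g ≫ (prodObj Y x).hom :=
  (Category.assoc _ _ _).trans (congrArg (g ≫ ·) (Over.w (Pi.π (Y ∘ x) a)))

lemma evalPt_ptsOf (P : Cᵒᵖ ⥤ AddCommGrpCat.{u}) {n : ℕ} {V : C} (x : Fin (n + 1) → ι)
    (g : V ⟶ (prodObj Y x).left) (a : ((cechF Y).obj P).X n) :
    evalPt P _ (ptsOf x g) (ptsOf_cond x g) a = P.map g.op (cproj Y P n x a) := by
  have h : liftPt (g ≫ (prodObj Y x).hom) (ptsOf x g) (ptsOf_cond x g) = Over.homMk g rfl :=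
    Pi.hom_ext _ _ fun b => (Pi.lift_π _ b).trans (Over.OverMorphism.ext rfl)
  exact congrArg (fun l : Over.mk (g ≫ (prodObj Y x).hom) ⟶ prodObj Y x => P.map l.left.op (cproj Y P n x a)) h

lemma ptsOf_liftPt {n : ℕ} {V : C} (c : V ⟶ X) (p : Fin (n + 1) → Pt Y V)
    (hp : ∀ a, (p a).2 ≫ (Y (p a).1).hom = c) : ptsOf (Sigma.fst ∘ p) (liftPt c p hp).left = p := by
  funext a
  have h := congrArg CommaMorphism.left (Pi.lift_π (fun a => (Over.homMk (p a).2 (hp a) : Over.mk c ⟶ Y (p a).1)) a)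
  exact congrArg (Sigma.mk (p a).1) h

variable (Y)

/-- A cofree presheaf containing `I`. -/
noncomputable def cofree (I : Cᵒᵖ ⥤ AddCommGrpCat.{u}) : Cᵒᵖ ⥤ AddCommGrpCat.{u} where
  obj W := AddCommGrpCat.of (∀ (V : C), (V ⟶ W.unop) → I.obj (op V))
  map k := AddCommGrpCat.ofHom (AddMonoidHom.mk' (fun s V g => s V (g ≫ k.unop)) (fun _ _ => rfl))
  map_id W := by
    refine AddCommGrpCat.ext fun s => funext fun V => funext fun g => ?_
    exact congrArg (s V) (Category.comp_id g)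
  map_comp k l := by
    refine AddCommGrpCat.ext fun s => funext fun V => funext fun g => ?_
    exact congrArg (s V) (Category.assoc g l.unop k.unop).symm

/-- The embedding into the cofree presheaf. -/
noncomputable def toCofree (I : Cᵒᵖ ⥤ AddCommGrpCat.{u}) : I ⟶ cofree I where
  app W := AddCommGrpCat.ofHom (AddMonoidHom.mk' (fun s V g => I.map g.op s)
    (fun s t => funext fun V => funext fun g => map_add (I.map g.op).hom s t))
  naturality W W' k := by
    refine AddCommGrpCat.ext fun s => funext fun V => funext fun g => ?_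
    exact (ConcreteCategory.congr_hom (I.map_comp k g.op) s).symm

instance mono_toCofree (I : Cᵒᵖ ⥤ AddCommGrpCat.{u}) : Mono (toCofree I) := by
  haveI : ∀ W, Mono ((toCofree I).app W) := fun W => by
    rw [AddCommGrpCat.mono_iff_injective]
    intro s t h
    have h' := congrFun (congrFun h W.unop) (𝟙 _)
    exact (ConcreteCategory.congr_hom (I.map_id W) s).symm.trans (h'.trans (ConcreteCategory.congr_hom (I.map_id W) t))
  exact NatTrans.mono_of_mono_app _

/-- The value of a cofree cochain on points. -/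
noncomputable def valPt (I : Cᵒᵖ ⥤ AddCommGrpCat.{u}) {n : ℕ} {V : C} (c : V ⟶ X) (p : Fin (n + 1) → Pt Y V)
    (hp : ∀ a, (p a).2 ≫ (Y (p a).1).hom = c) : ((cechF Y).obj (cofree I)).X n →+ I.obj (op V) :=
  AddMonoidHom.mk' (fun a => evalPt (cofree I) c p hp a V (𝟙 V))
    (fun a b => congrArg (fun t : ∀ (W : C), (W ⟶ V) → I.obj (op W) => t V (𝟙 V))
      (map_add (evalPt (cofree I) c p hp) a b))

lemma valPt_congr {I : Cᵒᵖ ⥤ AddCommGrpCat.{u}} {n : ℕ} {V : C} {c c' : V ⟶ X} {p p' : Fin (n + 1) → Pt Y V}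
    {hp : ∀ a, (p a).2 ≫ (Y (p a).1).hom = c} {hp' : ∀ a, (p' a).2 ≫ (Y (p' a).1).hom = c'} (h : p = p')
    (a : ((cechF Y).obj (cofree I)).X n) : valPt Y I c p hp a = valPt Y I c' p' hp' a :=
  congrArg (fun t : ∀ (W : C), (W ⟶ V) → I.obj (op W) => t V (𝟙 V)) (evalPt_congr h a)

lemma valPt_ptsOf (I : Cᵒᵖ ⥤ AddCommGrpCat.{u}) {n : ℕ} {V : C} (x : Fin (n + 1) → ι)
    (g : V ⟶ (prodObj Y x).left) (a : ((cechF Y).obj (cofree I)).X n) :
    valPt Y I _ (ptsOf x g) (ptsOf_cond x g) a = cproj Y (cofree I) n x a V g :=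
  (congrArg (fun t : ∀ (W : C), (W ⟶ V) → I.obj (op W) => t V (𝟙 V)) (evalPt_ptsOf (cofree I) x g a)).trans
    (congrArg (cproj Y (cofree I) n x a V) (Category.id_comp g))

lemma valPt_d (I : Cᵒᵖ ⥤ AddCommGrpCat.{u}) {n : ℕ} {V : C} (c : V ⟶ X) (p : Fin (n + 2) → Pt Y V)
    (hp : ∀ a, (p a).2 ≫ (Y (p a).1).hom = c) (a : ((cechF Y).obj (cofree I)).X n) :
    valPt Y I c p hp (((cechF Y).obj (cofree I)).d n (n + 1) a) =
      ∑ j : Fin (n + 2), (-1 : ℤ) ^ (j : ℕ) • valPt Y I c (p ∘ j.succAbove) (fun b => hp _) a := by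
  let ev : (cofree I).obj (op V) →+ I.obj (op V) :=
    AddMonoidHom.mk' (fun t : ∀ (W : C), (W ⟶ V) → I.obj (op W) => t V (𝟙 V)) (fun _ _ => rfl)
  refine (congrArg ev (evalPt_d (cofree I) c p hp a)).trans ?_
  rw [map_sum]
  exact Finset.sum_congr rfl fun j _ => map_zsmul ev _ _

open Classical in
/-- The homotopy. -/
noncomputable def cofreeHtpy (I : Cᵒᵖ ⥤ AddCommGrpCat.{u}) (n : ℕ) (φ : ((cechF Y).obj (cofree I)).X (n + 1)) :
    ((cechF Y).obj (cofree I)).X n :=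
  cmk Y (cofree I) n fun x => fun V g =>
    if h : Nonempty {q : Pt Y V // q.2 ≫ (Y q.1).hom = g ≫ (prodObj Y x).hom} then
      valPt Y I (g ≫ (prodObj Y x).hom) (Fin.cons h.some.1 (ptsOf x g)) (Fin.cases h.some.2 (ptsOf_cond x g)) φ
    else 0

open Classical in
lemma valPt_htpy_aux (I : Cᵒᵖ ⥤ AddCommGrpCat.{u}) {n : ℕ} (φ : ((cechF Y).obj (cofree I)).X (n + 1)) {V : C}
    (c c' : V ⟶ X) (hc : c' = c) (p p' : Fin (n + 1) → Pt Y V) (hpp : p' = p)
    (hp : ∀ a, (p a).2 ≫ (Y (p a).1).hom = c) (hp' : ∀ a, (p' a).2 ≫ (Y (p' a).1).hom = c')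
    (h : Nonempty {q : Pt Y V // q.2 ≫ (Y q.1).hom = c}) :
    (if h' : Nonempty {q : Pt Y V // q.2 ≫ (Y q.1).hom = c'} then
      valPt Y I c' (Fin.cons h'.some.1 p') (Fin.cases h'.some.2 hp') φ else 0) =
      valPt Y I c (Fin.cons h.some.1 p) (Fin.cases h.some.2 hp) φ := by
  subst hc hpp
  rw [dif_pos h]

lemma valPt_cofreeHtpy (I : Cᵒᵖ ⥤ AddCommGrpCat.{u}) {n : ℕ} (φ : ((cechF Y).obj (cofree I)).X (n + 1)) {V : C}
    (c : V ⟶ X) (p : Fin (n + 1) → Pt Y V) (hp : ∀ a, (p a).2 ≫ (Y (p a).1).hom = c)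
    (h : Nonempty {q : Pt Y V // q.2 ≫ (Y q.1).hom = c}) :
    valPt Y I c p hp (cofreeHtpy Y I n φ) = valPt Y I c (Fin.cons h.some.1 p) (Fin.cases h.some.2 hp) φ := by
  have hw : c = (liftPt c p hp).left ≫ (prodObj Y (Sigma.fst ∘ p)).hom := (Over.w (liftPt c p hp)).symm
  refine (valPt_congr Y (hp' := ptsOf_cond _ _) (ptsOf_liftPt c p hp).symm _).trans ?_
  refine (valPt_ptsOf Y I _ _ _).trans ?_
  unfold cofreeHtpy
  rw [cproj_cmk]
  exact valPt_htpy_aux Y I φ c _ hw.symm p _ (ptsOf_liftPt c p hp) hp (ptsOf_cond _ _) h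

lemma exactAt_cechF_cofree (I : Cᵒᵖ ⥤ AddCommGrpCat.{u}) (n : ℕ) :
    ((cechF Y).obj (cofree I)).ExactAt (n + 1) := by
  rw [HomologicalComplex.exactAt_iff' _ n (n + 1) (n + 2) (by simp) (by simp), ShortComplex.ab_exact_iff]
  intro φ hφ
  refine ⟨cofreeHtpy Y I n φ, cproj_ext Y fun x => funext fun V => funext fun g => ?_⟩
  refine (valPt_ptsOf Y I x g _).symm.trans (Eq.trans ?_ (valPt_ptsOf Y I x g φ))
  let c := g ≫ (prodObj Y x).hom
  let p := ptsOf x g
  have h : Nonempty {q : Pt Y V // q.2 ≫ (Y q.1).hom = c} := ⟨⟨p 0, ptsOf_cond x g 0⟩⟩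
  let p' : Fin (n + 3) → Pt Y V := Fin.cons h.some.1 p
  have hp' : ∀ a, (p' a).2 ≫ (Y (p' a).1).hom = c := Fin.cases h.some.2 (ptsOf_cond x g)
  have h0 : valPt Y I c p' hp' (((cechF Y).obj (cofree I)).d (n + 1) (n + 2) φ) = 0 :=
    (congrArg (valPt Y I c p' hp') hφ).trans (map_zero _)
  rw [valPt_d, Fin.sum_univ_succ] at h0
  refine (valPt_d Y I c p (ptsOf_cond x g) _).trans ?_
  have e0 : valPt Y I c (p' ∘ (0 : Fin (n + 3)).succAbove) (fun b => hp' _) φ =
      valPt Y I c p (ptsOf_cond x g) φ :=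
    valPt_congr Y (funext fun b => by simp [p', Fin.succAbove_zero]) φ
  rw [e0] at h0
  have e1 : ∀ j : Fin (n + 2),
      ((-1 : ℤ) ^ ((j.succ : Fin (n + 3)) : ℕ)) • valPt Y I c (p' ∘ j.succ.succAbove) (fun b => hp' _) φ =
        -((-1 : ℤ) ^ (j : ℕ) • valPt Y I c (p ∘ j.succAbove) (fun b => ptsOf_cond x g _) (cofreeHtpy Y I n φ)) := by
    intro j
    rw [Fin.val_succ, pow_succ, mul_neg_one, neg_smul]
    refine congrArg (fun t => -((-1 : ℤ) ^ (j : ℕ) • t)) ?_
    refine Eq.trans ?_ (valPt_cofreeHtpy Y I φ c _ (fun b => ptsOf_cond x g _) h).symm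
    refine valPt_congr Y (funext fun b => ?_) φ
    refine Fin.cases ?_ (fun b => ?_) b
    · simp [p', Fin.succ_succAbove_zero]
    · simp [p', p, Fin.succ_succAbove_succ]
  rw [Finset.sum_congr rfl fun j _ => e1 j, Finset.sum_neg_distrib] at h0
  simp only [Fin.val_zero, pow_zero, one_smul] at h0
  exact (add_neg_eq_zero.1 h0).symm

instance cechF_additive : (cechF Y).Additive where
  map_add {P Q} α β := HomologicalComplex.hom_ext _ _ fun n => AddCommGrpCat.ext fun a => cproj_ext Y fun x =>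
    (cechF_map_cproj Y (α + β) n x a).trans
      ((congrArg₂ (· + ·) (cechF_map_cproj Y α n x a) (cechF_map_cproj Y β n x a)).symm.trans
        (map_add (cproj Y Q n x).hom _ _).symm)

lemma isEffaceable_cechF : IsEffaceable (cechF Y) where
  exact S hS := by
    refine HomologicalComplex.shortExact_of_degreewise_shortExact _ fun n => ?_
    have hV : ∀ V : Cᵒᵖ, (S.map ((evaluation Cᵒᵖ AddCommGrpCat.{u}).obj V)).ShortExact :=
      fun V => hS.map_of_exact _
    refine { exact := ?_, mono_f := ?_, epi_g := ?_ }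
    · rw [ShortComplex.ab_exact_iff]
      intro a ha
      have hex : ∀ x : Fin (n + 1) → ι, ∃ v, S.f.app (op (prodObj Y x).left) v = cproj Y S.X₂ n x a := fun x =>
        (ShortComplex.ab_exact_iff _).1 (hV _).exact _
          ((cechF_map_cproj Y S.g n x a).symm.trans ((congrArg (cproj Y S.X₃ n x) ha).trans (map_zero _)))
      choose v hv using hex
      exact ⟨cmk Y S.X₁ n v, cproj_ext Y fun x =>
        (cechF_map_cproj Y S.f n x _).trans ((congrArg _ (cproj_cmk Y S.X₁ n v x)).trans (hv x))⟩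
    · rw [AddCommGrpCat.mono_iff_injective]
      intro a b h
      refine cproj_ext Y fun x => ?_
      haveI := (hV (op (prodObj Y x).left)).mono_f
      exact (AddCommGrpCat.mono_iff_injective _).1 (inferInstanceAs (Mono (S.map ((evaluation Cᵒᵖ AddCommGrpCat.{u}).obj _)).f))
        ((cechF_map_cproj Y S.f n x a).symm.trans ((congrArg (cproj Y S.X₂ n x) h).trans (cechF_map_cproj Y S.f n x b)))
    · rw [AddCommGrpCat.epi_iff_surjective]
      intro c
      have hsur : ∀ x : Fin (n + 1) → ι, ∃ v, S.g.app (op (prodObj Y x).left) v = cproj Y S.X₃ n x c := fun x =>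
        (AddCommGrpCat.epi_iff_surjective _).1 (hV (op (prodObj Y x).left)).epi_g _
      choose v hv using hsur
      exact ⟨cmk Y S.X₂ n v, cproj_ext Y fun x =>
        (cechF_map_cproj Y S.g n x _).trans ((congrArg _ (cproj_cmk Y S.X₂ n v x)).trans (hv x))⟩
  injective I hI n := by
    have h := ((cechF Y).obj (cofree I)).exactAt_iff_isZero_homology (n + 1) |>.1 (exactAt_cechF_cofree Y I n)
    let r : cofree I ⟶ I := Injective.factorThru (𝟙 I) (toCofree I)
    rw [IsZero.iff_id_eq_zero]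
    have he : (cechF Y).map (toCofree I) ≫ (cechF Y).map r = 𝟙 _ := by
      rw [← Functor.map_comp, Injective.comp_factorThru, CategoryTheory.Functor.map_id]
    rw [← HomologicalComplex.homologyMap_id, ← he, HomologicalComplex.homologyMap_comp]
    rw [h.eq_of_tgt (HomologicalComplex.homologyMap ((cechF Y).map (toCofree I)) (n + 1)) 0, zero_comp]

end Groth.Agent.SSExist
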