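import Groth.Agent.SSExist.Van
import Groth.Prelude.Def_ExtSupp
import Mathlib.CategoryTheory.Adjunction.Additive

/-!
# Sections with support and Ext with support on a ringed site
-/

set_option autoImplicit false
set_option linter.style.haveILetI false

open CategoryTheory CategoryTheory.Limits Opposite MonoidalCategory
open scoped TensorProduct

namespace Groth.Agent.SSExist

universe u

open Groth.Agent.ModGroth

variable {C : Type u} [SmallCategory C] {J : GrothendieckTopology C} {O : Sheaf J CommRingCat.{u}} (U : C)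

/-- Morphisms out of `P/P_U` as morphisms into sections with support. -/
noncomputable def quotToSect [ModSite.HasPushOver O U] (P F : ModSite.Mod O) :
    ((ModSite.quotOn O U).obj P ⟶ F) →+ (P ⟶ (ModSite.sectOn O U).obj F) :=
  AddMonoidHom.mk' (fun κ => kernel.lift _ ((ModSite.quotOnπ O U).app P ≫ κ)
      ((comp_unit_eq_zero_iff U _).2 ((counit_comp_eq_zero_iff U _).1
        ((Category.assoc _ _ _).symm.trans ((congrArg (· ≫ κ) (cokernel.condition _)).trans zero_comp)))))
    (fun a b => by
      refine (cancel_mono (kernel.ι ((ModSite.restrPushOverAdj O U).unit.app F))).1 ?_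
      refine (kernel.lift_ι _ _ _).trans ?_
      exact ((Preadditive.add_comp _ _ _ _ _ _).trans ((congrArg₂ (· + ·) (kernel.lift_ι _ _ _) (kernel.lift_ι _ _ _)).trans
        (Preadditive.comp_add _ _ _ _ _ _).symm)).symm)

lemma quotToSect_ι [ModSite.HasPushOver O U] (P F : ModSite.Mod O) (κ : (ModSite.quotOn O U).obj P ⟶ F) :
    quotToSect U P F κ ≫ (ModSite.sectOnι O U).app F = (ModSite.quotOnπ O U).app P ≫ κ :=
  kernel.lift_ι _ _ _

lemma quotToSect_bijective [ModSite.HasPushOver O U] (P F : ModSite.Mod O) :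
    Function.Bijective (quotToSect U P F) := by
  constructor
  · intro a b h
    have h' := (quotToSect_ι U P F a).symm.trans ((congrArg (· ≫ (ModSite.sectOnι O U).app F) h).trans (quotToSect_ι U P F b))
    exact (cancel_epi (cokernel.π ((ModSite.extZeroAdj O U).counit.app P))).1 h'
  · intro γ
    have hv : Van U (γ ≫ (ModSite.sectOnι O U).app F) := (comp_unit_eq_zero_iff U _).1
      ((Category.assoc _ _ _).trans ((congrArg (γ ≫ ·) (kernel.condition _)).trans comp_zero))
    refine ⟨cokernel.desc _ (γ ≫ (ModSite.sectOnι O U).app F) ((counit_comp_eq_zero_iff U _).2 hv), ?_⟩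
    exact (cancel_mono (kernel.ι ((ModSite.restrPushOverAdj O U).unit.app F))).1
      ((quotToSect_ι U P F _).trans (cokernel.π_desc _ _ _))

/-- `Hom(P, Γ_Z F) = Hom(P/P_U, F)`. -/
noncomputable def sectQuotIso [ModSite.HasPushOver O U] (P : ModSite.Mod O) :
    ModSite.sectOn O U ⋙ preadditiveCoyoneda.obj (op P) ≅
      preadditiveCoyoneda.obj (op ((ModSite.quotOn O U).obj P)) :=
  (NatIso.ofComponents (fun F => AddEquiv.toAddCommGrpIso
    (X := (preadditiveCoyoneda.obj (op ((ModSite.quotOn O U).obj P))).obj F)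
    (Y := (ModSite.sectOn O U ⋙ preadditiveCoyoneda.obj (op P)).obj F)
    (AddEquiv.ofBijective (quotToSect U P F) (quotToSect_bijective U P F)))
    (fun {F G} g => by
      ext κ
      refine (cancel_mono (kernel.ι ((ModSite.restrPushOverAdj O U).unit.app G))).1 ?_
      refine (kernel.lift_ι _ _ _).trans ?_
      refine Eq.trans ?_ ((Category.assoc _ _ _).trans (congrArg (quotToSect U P F κ ≫ ·) (kernel.lift_ι _ _ _))).symm
      exact ((Category.assoc _ _ _).symm.trans ((congrArg (· ≫ g) (quotToSect_ι U P F κ)).symm.trans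
        (Category.assoc _ _ _))))).symm

lemma sectOn_preservesFiniteLimits_coy [ModSite.HasPushOver O U] (P : ModSite.Mod O) :
    PreservesFiniteLimits (ModSite.sectOn O U ⋙ preadditiveCoyoneda.obj (op P)) :=
  preservesFiniteLimits_of_natIso (sectQuotIso U P).symm

lemma van_tR_map {P F : ModSite.Mod O} (M : ModSite.Mod O) {φ : P ⟶ F} (hφ : Van U φ) :
    Van U ((tR M).map φ) := by
  refine van_of_presheaf U (P := (fg O).obj P ⊗ (fg O).obj M) ((sh O).map ((fg O).map φ ▷ (fg O).obj M)) ?_
  intro V g z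
  refine ((ConcreteCategory.congr_hom (NatTrans.congr_app
    (congrArg (PresheafOfModules.toPresheaf _).map ((adjn O).unit.naturality ((fg O).map φ ▷ (fg O).obj M))) (op V)) z)).symm.trans ?_
  refine (congrArg ((eta _).app (op V)) ?_).trans (map_zero _)
  induction (show P.val.obj (op V) ⊗[O.obj.obj (op V)] M.val.obj (op V) from z) using TensorProduct.induction_on with
  | zero => exact map_zero _
  | tmul a b =>
    show φ.val.app (op V) a ⊗ₜ[O.obj.obj (op V)] b = 0
    exact (congrArg (· ⊗ₜ[O.obj.obj (op V)] b) (hφ g a)).trans (TensorProduct.zero_tmul _ b)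
  | add a b ha hb => exact (map_add _ _ _).trans ((congrArg₂ (· + ·) ha hb).trans (add_zero _))

lemma van_homEquiv_iff {P N : ModSite.Mod O} (M : ModSite.Mod O) [ModSite.HasSheafHom M]
    (ψ : (tR M).obj P ⟶ N) : Van U ((ModSite.sheafHomAdj M).homEquiv P N ψ) ↔ Van U ψ := by
  let adj := ModSite.sheafHomAdj M
  constructor
  · intro h
    have e : ψ = (tR M).map (adj.homEquiv P N ψ) ≫ adj.counit.app N :=
      ((adj.homEquiv_counit (g := adj.homEquiv P N ψ)).symm.trans (Equiv.symm_apply_apply _ _)).symm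
    rw [e]
    exact van_comp U (van_tR_map U M h) _
  · intro h V g x
    haveI := tR_additive M
    let P0 := (PresheafOfModules.free (O.obj ⋙ forget₂ CommRingCat.{u} RingCat.{u})).obj (yoneda.obj V)
    let e₀ : P0 ⟶ (fg O).obj P := PresheafOfModules.freeYonedaEquiv.symm x
    let e : freeSheaf O V ⟶ P := ((adjn O).homEquiv P0 P).symm e₀
    have key : (tR M).map e ≫ ψ = 0 := by
      haveI := isIso_sh_whiskerRight_eta' P0 ((fg O).obj M)
      refine (cancel_epi (f := (sh O).map (eta' P0 ▷ (fg O).obj M))).1 ?_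
      refine Eq.trans ?_ comp_zero.symm
      have hz : ∀ (W : Cᵒᵖ) (z : ((P0 ⊗ (fg O).obj M : PM O)).obj W),
          ((sh O).map (eta' P0 ▷ (fg O).obj M) ≫ (tR M).map e ≫ ψ).val.app W ((eta _).app W z) = 0 := by
        intro W z
        by_cases hW : Nonempty (W.unop ⟶ V)
        · obtain ⟨k⟩ := hW
          exact h (k ≫ g) _
        · haveI : IsEmpty (W.unop ⟶ V) := not_nonempty_iff.1 hW
          haveI : Subsingleton (P0.obj W) := inferInstanceAs (Subsingleton ((W.unop ⟶ V) →₀ O.obj.obj W))
          haveI : Subsingleton (P0.obj W ⊗[O.obj.obj W] M.val.obj W) := inferInstance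
          rw [show z = 0 from Subsingleton.elim (α := P0.obj W ⊗[O.obj.obj W] M.val.obj W) _ _]
          exact (congrArg _ (map_zero _)).trans (map_zero _)
      apply ((adjn O).homEquiv _ N).injective
      apply PresheafOfModules.hom_ext
      intro W
      ext z
      refine (hz W z).trans ?_
      exact (((0 : (sh O).obj (P0 ⊗ (fg O).obj M) ⟶ N)).val.app W).hom.map_zero.symm.trans rfl
    have h0 : e ≫ adj.homEquiv P N ψ = 0 := by
      rw [← adj.homEquiv_naturality_left, key]
      exact map_zero (adj.homAddEquiv _ _)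
    have hx : e.val.app (op V) ((eta P0).app (op V) (ModuleCat.freeMk (𝟙 V))) = x := by
      have h₁ : (adjn O).homEquiv P0 P e = e₀ := Equiv.apply_symm_apply _ _
      rw [Adjunction.homEquiv_unit] at h₁
      exact (congrArg (fun q : P0 ⟶ (fg O).obj P => q.app (op V) (ModuleCat.freeMk (𝟙 V))) h₁).trans
        (PresheafOfModules.freeYonedaEquiv_symm_app _ V x)
    rw [← hx]
    exact congrArg (fun q : freeSheaf O V ⟶ _ => q.val.app (op V) ((eta P0).app (op V) (ModuleCat.freeMk (𝟙 V)))) h0

lemma flatInj_sectOn_sheafHom [ModSite.HasPushOver O U] (M I : ModSite.Mod O) [ModSite.HasSheafHom M] [Injective I] :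
    FlatInj ((ModSite.sectOn O U).obj ((ModSite.sheafHom M).obj I)) := fun S hS hF φ => by
  haveI := tR_preservesZeroMorphisms M
  haveI : Mono ((tR M).map S.f) := (shortExact_map_tR hS hF M).mono_f
  let adj := ModSite.sheafHomAdj M
  let H := (ModSite.sheafHom M).obj I
  let ι := (ModSite.sectOnι O U).app H
  have hv : Van U (φ ≫ ι) := (comp_unit_eq_zero_iff U _).1
      ((Category.assoc _ _ _).trans ((congrArg (φ ≫ ·) (kernel.condition _)).trans comp_zero))
  have hv' : Van U ((adj.homEquiv S.X₁ I).symm (φ ≫ ι)) :=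
    (van_homEquiv_iff U M _).1 (by rw [Equiv.apply_symm_apply]; exact hv)
  obtain ⟨ψ, hψ, hψv⟩ := exists_extension_van U ((tR M).map S.f) _ hv'
  refine ⟨kernel.lift _ (adj.homEquiv _ _ ψ) ((comp_unit_eq_zero_iff U _).2 ((van_homEquiv_iff U M ψ).2 hψv)), ?_⟩
  refine (cancel_mono (kernel.ι ((ModSite.restrPushOverAdj O U).unit.app H))).1 ?_
  refine ((Category.assoc _ _ _).trans (congrArg (S.f ≫ ·) (kernel.lift_ι _ _ _))).trans ?_
  rw [← adj.homEquiv_naturality_left, hψ, Equiv.apply_symm_apply]
  rfl

/-- `Hom(M/M_U, N)` as global sections with support of the internal hom. -/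
noncomputable def quotToGlobal [ModSite.HasPushOver O U] (M : ModSite.Mod O) [ModSite.HasSheafHom M] (N : ModSite.Mod O) :
    ((ModSite.quotOn O U).obj M ⟶ N) →+ (ModSite.unit O ⟶ (ModSite.sectOn O U).obj ((ModSite.sheafHom M).obj N)) :=
  AddMonoidHom.mk' (fun κ => kernel.lift _ (toGlobalHom O M N ((ModSite.quotOnπ O U).app M ≫ κ))
      ((comp_unit_eq_zero_iff U _).2 ((van_homEquiv_iff U M _).2 (van_precomp U _ ((counit_comp_eq_zero_iff U _).1
        ((Category.assoc _ _ _).symm.trans ((congrArg (· ≫ κ) (cokernel.condition _)).trans zero_comp)))))))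
    (fun a b => by
      refine (cancel_mono (kernel.ι ((ModSite.restrPushOverAdj O U).unit.app ((ModSite.sheafHom M).obj N)))).1 ?_
      refine (kernel.lift_ι _ _ _).trans ?_
      refine ((Preadditive.add_comp _ _ _ _ _ _).trans ((congrArg₂ (· + ·) (kernel.lift_ι _ _ _) (kernel.lift_ι _ _ _)).trans ?_)).symm
      exact ((congrArg (toGlobalHom O M N) (Preadditive.comp_add _ _ _ _ _ _)).trans (map_add _ _ _)).symm)

lemma quotToGlobal_ι [ModSite.HasPushOver O U] (M : ModSite.Mod O) [ModSite.HasSheafHom M] (N : ModSite.Mod O)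
    (κ : (ModSite.quotOn O U).obj M ⟶ N) :
    quotToGlobal U M N κ ≫ (ModSite.sectOnι O U).app _ = toGlobalHom O M N ((ModSite.quotOnπ O U).app M ≫ κ) :=
  kernel.lift_ι _ _ _

lemma quotToGlobal_bijective [ModSite.HasPushOver O U] (M : ModSite.Mod O) [ModSite.HasSheafHom M] (N : ModSite.Mod O) :
    Function.Bijective (quotToGlobal U M N) := by
  constructor
  · intro a b h
    have h' := (quotToGlobal_ι U M N a).symm.trans
      ((congrArg (· ≫ (ModSite.sectOnι O U).app ((ModSite.sheafHom M).obj N)) h).trans (quotToGlobal_ι U M N b))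
    exact (cancel_epi (cokernel.π ((ModSite.extZeroAdj O U).counit.app M))).1 ((toGlobalHom_bijective O M N).1 h')
  · intro γ
    obtain ⟨ψ, hψ⟩ := (toGlobalHom_bijective O M N).2 (γ ≫ (ModSite.sectOnι O U).app _)
    have hv : Van U (γ ≫ (ModSite.sectOnι O U).app ((ModSite.sheafHom M).obj N)) := (comp_unit_eq_zero_iff U _).1
      ((Category.assoc _ _ _).trans ((congrArg (γ ≫ ·) (kernel.condition _)).trans comp_zero))
    rw [← hψ] at hv
    have hv' : Van U ψ := (van_iso_comp U (unitTensorIso O M) ψ).1 ((van_homEquiv_iff U M _).1 hv)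
    refine ⟨cokernel.desc _ ψ ((counit_comp_eq_zero_iff U _).2 hv'), ?_⟩
    refine (cancel_mono (kernel.ι ((ModSite.restrPushOverAdj O U).unit.app _))).1 ?_
    exact (quotToGlobal_ι U M N _).trans ((congrArg (toGlobalHom O M N) (cokernel.π_desc _ _ _)).trans hψ)

/-- `Γ_Z(ℋom(M, -)) = Hom(M/M_U, -)`. -/
noncomputable def sheafHomSectIso [ModSite.HasPushOver O U] (M : ModSite.Mod O) [ModSite.HasSheafHom M] :
    ModSite.sheafHom M ⋙ ModSite.sectOn O U ⋙ gammaMod O ≅
      preadditiveCoyoneda.obj (op ((ModSite.quotOn O U).obj M)) :=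
  Functor.isoWhiskerLeft (ModSite.sheafHom M ⋙ ModSite.sectOn O U) (unitConstIso O).symm ≪≫
    (NatIso.ofComponents (fun N => AddEquiv.toAddCommGrpIso
      (X := (preadditiveCoyoneda.obj (op ((ModSite.quotOn O U).obj M))).obj N)
      (Y := ((ModSite.sheafHom M ⋙ ModSite.sectOn O U) ⋙ preadditiveCoyoneda.obj (op (ModSite.unit O))).obj N)
      (AddEquiv.ofBijective (quotToGlobal U M N) (quotToGlobal_bijective U M N)))
      (fun {N N'} g => by
        ext κ
        refine (cancel_mono (kernel.ι ((ModSite.restrPushOverAdj O U).unit.app ((ModSite.sheafHom M).obj N')))).1 ?_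
        refine (kernel.lift_ι _ _ _).trans ?_
        refine Eq.trans ?_ ((Category.assoc _ _ _).trans (congrArg (quotToGlobal U M N κ ≫ ·) (kernel.lift_ι _ _ _))).symm
        refine Eq.trans ?_ ((congrArg (· ≫ (ModSite.sheafHom M).map g) (quotToGlobal_ι U M N κ)).symm.trans (Category.assoc _ _ _))
        refine Eq.trans ?_ ((ModSite.sheafHomAdj M).homEquiv_naturality_right _ g)
        show (ModSite.sheafHomAdj M).homEquiv _ _ ((unitTensorIso O M).hom ≫ _ ≫ κ ≫ g) = _
        rw [Category.assoc, Category.assoc])).symm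

end Groth.Agent.SSExist
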