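import Mathlib.Algebra.Homology.SpectralObject.Basic
import Mathlib.CategoryTheory.Triangulated.SpectralObject
import Mathlib.CategoryTheory.Triangulated.HomologicalFunctor

/-!
# The abelian spectral object of a triangulated spectral object and a homological functor
-/

set_option autoImplicit false

open CategoryTheory CategoryTheory.Limits CategoryTheory.Pretriangulated ComposableArrows

namespace Groth.Agent.SSExist

universe v v' v'' u u' u''

variable {T : Type u} [Category.{v} T] [HasZeroObject T] [HasShift T ℤ] [Preadditive T]
  [∀ n : ℤ, (shiftFunctor T n).Additive] [Pretriangulated T]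
  {A : Type u'} [Category.{v'} A] [Abelian A] {ι : Type u''} [Category.{v''} ι]

/-- Applying a homological functor to a spectral object. -/
noncomputable def toAbelian (X : Triangulated.SpectralObject T ι) (F : T ⥤ A) [F.IsHomological]
    [F.ShiftSequence ℤ] : Abelian.SpectralObject A ι where
  H n := X.ω₁ ⋙ F.shift n
  δ' n₀ n₁ h :=
    { app := fun D => F.homologySequenceδ (X.ω₂.obj D) n₀ n₁ h
      naturality := fun D D' φ => F.homologySequenceδ_naturality (X.ω₂.obj D) (X.ω₂.obj D')
        (X.ω₂.map φ) n₀ n₁ h }
  exact₁' n₀ n₁ h D :=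
    (F.homologySequence_exact₁ _ (X.distinguished' D) n₀ n₁ h).exact_toComposableArrows
  exact₂' n D := (F.homologySequence_exact₂ _ (X.distinguished' D) n).exact_toComposableArrows
  exact₃' n₀ n₁ h D :=
    (F.homologySequence_exact₃ _ (X.distinguished' D) n₀ n₁ h).exact_toComposableArrows

lemma toAbelian_H (X : Triangulated.SpectralObject T ι) (F : T ⥤ A) [F.IsHomological]
    [F.ShiftSequence ℤ] (n : ℤ) : (toAbelian X F).H n = X.ω₁ ⋙ F.shift n := rfl

end Groth.Agent.SSExist
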