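import Groth.Agent.SSExist.FlatInj
import Mathlib.RingTheory.Flat.TorsionFree
import Mathlib.RingTheory.Flat.Equalizer
import Mathlib.RingTheory.Flat.Stability

/-!
# Tensoring presheaves of abelian groups with the structure sheaf
-/

set_option autoImplicit false
set_option linter.style.haveILetI false

open CategoryTheory CategoryTheory.Limits Opposite
open scoped TensorProduct

namespace Groth.Agent.SSExist

universe u

open Groth.Agent.ModGroth

variable {C : Type u} [SmallCategory C] {J : GrothendieckTopology C}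

/-- Sheaves and presheaves whose sections are torsion-free. -/
def TFPre (A : Cᵒᵖ ⥤ AddCommGrpCat.{u}) : Prop :=
  ∀ (U : Cᵒᵖ) (m : ℤ) (x : A.obj U), m ≠ 0 → m • x = 0 → x = 0

variable (O : Sheaf J CommRingCat.{u})

/-- The presheaf `U ↦ O(U) ⊗ E(U)`. -/
noncomputable def tensPsh (E : Cᵒᵖ ⥤ AddCommGrpCat.{u}) : Cᵒᵖ ⥤ AddCommGrpCat.{u} where
  obj X := AddCommGrpCat.of (O.obj.obj X ⊗[ℤ] E.obj X)
  map f := AddCommGrpCat.ofHom
    (TensorProduct.map (O.obj.map f).hom.toAddMonoidHom.toIntLinearMap (E.map f).hom.toIntLinearMap).toAddMonoidHom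
  map_id X := by
    apply AddCommGrpCat.hom_ext
    apply DFunLike.ext
    intro z
    induction z using TensorProduct.induction_on with
    | zero => simp
    | tmul a b =>
      show (O.obj.map (𝟙 X)) a ⊗ₜ[ℤ] (E.map (𝟙 X)) b = a ⊗ₜ[ℤ] b
      simp
    | add a b ha hb => exact (map_add _ _ _).trans ((congrArg₂ (· + ·) ha hb).trans (map_add _ _ _).symm)
  map_comp f g := by
    apply AddCommGrpCat.hom_ext
    apply DFunLike.ext
    intro z
    induction z using TensorProduct.induction_on with
    | zero => exact (map_zero _).trans (map_zero _).symm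
    | tmul a b =>
      show (O.obj.map (f ≫ g)) a ⊗ₜ[ℤ] (E.map (f ≫ g)) b =
        (O.obj.map g) (O.obj.map f a) ⊗ₜ[ℤ] (E.map g) (E.map f b)
      simp
    | add a b ha hb => exact (map_add _ _ _).trans ((congrArg₂ (· + ·) ha hb).trans (map_add _ _ _).symm)

noncomputable instance tensPshModule (E : Cᵒᵖ ⥤ AddCommGrpCat.{u}) (X : Cᵒᵖ) :
    Module ((O.obj ⋙ forget₂ CommRingCat.{u} RingCat.{u}).obj X) ((tensPsh O E).obj X) :=
  inferInstanceAs (Module (O.obj.obj X) (O.obj.obj X ⊗[ℤ] E.obj X))

/-- The presheaf of modules `U ↦ O(U) ⊗ E(U)`. -/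
noncomputable def tensPre (E : Cᵒᵖ ⥤ AddCommGrpCat.{u}) : PM O :=
  PresheafOfModules.ofPresheaf (tensPsh O E) (by
    intro X Y f r m
    show (tensPsh O E).map f (show (tensPsh O E).obj X from
      (show O.obj.obj X from r) • (show O.obj.obj X ⊗[ℤ] E.obj X from m)) = _
    induction (show O.obj.obj X ⊗[ℤ] E.obj X from m) using TensorProduct.induction_on with
    | zero =>
      rw [smul_zero]
      exact (map_zero _).trans ((congrArg _ (map_zero ((tensPsh O E).map f).hom)).trans (smul_zero _)).symm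
    | tmul a b =>
      show (O.obj.map f) ((show O.obj.obj X from r) * a) ⊗ₜ[ℤ] (E.map f) b =
        ((O.obj.map f) r * (O.obj.map f) a) ⊗ₜ[ℤ] (E.map f) b
      rw [map_mul]
    | add a b ha hb =>
      rw [smul_add]
      exact (map_add _ _ _).trans ((congrArg₂ (· + ·) ha hb).trans
        ((smul_add _ _ _).symm.trans (congrArg _ (map_add ((tensPsh O E).map f).hom a b).symm))))

/-- The map of presheaves of modules induced by a map of presheaves. -/
noncomputable def tensMap {E E' : Cᵒᵖ ⥤ AddCommGrpCat.{u}} (g : E ⟶ E') : tensPre O E ⟶ tensPre O E' :=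
  PresheafOfModules.homMk
    { app := fun X => AddCommGrpCat.ofHom
        ((g.app X).hom.toIntLinearMap.lTensor (O.obj.obj X)).toAddMonoidHom
      naturality := fun X Y f => by
        apply AddCommGrpCat.hom_ext
        apply DFunLike.ext
        intro z
        induction (show O.obj.obj X ⊗[ℤ] E.obj X from z) using TensorProduct.induction_on with
        | zero => exact (map_zero _).trans (map_zero _).symm
        | tmul a b =>
          show (O.obj.map f) a ⊗ₜ[ℤ] g.app Y (E.map f b) = (O.obj.map f) a ⊗ₜ[ℤ] E'.map f (g.app X b)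
          exact congrArg ((O.obj.map f) a ⊗ₜ[ℤ] ·) (ConcreteCategory.congr_hom (g.naturality f) b)
        | add a b ha hb => exact (map_add _ _ _).trans ((congrArg₂ (· + ·) ha hb).trans (map_add _ _ _).symm) }
    (fun X r m => ((g.app X).hom.toIntLinearMap.baseChange (O.obj.obj X)).map_smul r m)

/-- `x ↦ 1 ⊗ x`. -/
noncomputable def tensUnit (E : Cᵒᵖ ⥤ AddCommGrpCat.{u}) : E ⟶ (PresheafOfModules.toPresheaf _).obj (tensPre O E) where
  app X := AddCommGrpCat.ofHom (AddMonoidHom.mk' (fun x => ((1 : O.obj.obj X) ⊗ₜ[ℤ] x : O.obj.obj X ⊗[ℤ] E.obj X))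
    (fun a b => TensorProduct.tmul_add _ a b))
  naturality X Y f := by
    ext x
    show (1 : O.obj.obj Y) ⊗ₜ[ℤ] E.map f x = (O.obj.map f) 1 ⊗ₜ[ℤ] E.map f x
    rw [map_one]

lemma tensMap_unit {E E' : Cᵒᵖ ⥤ AddCommGrpCat.{u}} (g : E ⟶ E') :
    g ≫ tensUnit O E' = tensUnit O E ≫ (PresheafOfModules.toPresheaf _).map (tensMap O g) := by
  ext X x
  rfl

/-- `r ⊗ x ↦ r • φ x` on sections. -/
noncomputable def tensLift {E : Cᵒᵖ ⥤ AddCommGrpCat.{u}} {H : PM O} (φ : E ⟶ H.presheaf) (X : Cᵒᵖ) :
    letI : Module (O.obj.obj X) (H.obj X) :=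
      inferInstanceAs (Module ((O.obj ⋙ forget₂ CommRingCat.{u} RingCat.{u}).obj X) (H.obj X))
    O.obj.obj X ⊗[ℤ] E.obj X →ₗ[O.obj.obj X] H.obj X :=
  letI : Module (O.obj.obj X) (H.obj X) :=
    inferInstanceAs (Module ((O.obj ⋙ forget₂ CommRingCat.{u} RingCat.{u}).obj X) (H.obj X))
  LinearMap.liftBaseChange (O.obj.obj X)
    (show E.obj X →ₗ[ℤ] H.obj X from (φ.app X).hom.toIntLinearMap)

lemma tensLift_tmul {E : Cᵒᵖ ⥤ AddCommGrpCat.{u}} {H : PM O} (φ : E ⟶ H.presheaf) (X : Cᵒᵖ)
    (a : O.obj.obj X) (b : E.obj X) :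
    tensLift O φ X (a ⊗ₜ[ℤ] b) =
      (show (O.obj ⋙ forget₂ CommRingCat.{u} RingCat.{u}).obj X from a) • (show H.obj X from φ.app X b) := by
  simp [tensLift, LinearMap.liftBaseChange_tmul]
  rfl

/-- The action `r ⊗ x ↦ r • x` composed with an additive map to a presheaf of modules. -/
noncomputable def tensDesc {E : Cᵒᵖ ⥤ AddCommGrpCat.{u}} {H : PM O} (φ : E ⟶ H.presheaf) : tensPre O E ⟶ H :=
  PresheafOfModules.homMk
    { app := fun X => AddCommGrpCat.ofHom (tensLift O φ X).toAddMonoidHom
      naturality := fun X Y f => by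
        apply AddCommGrpCat.hom_ext
        apply DFunLike.ext
        intro z
        induction (show O.obj.obj X ⊗[ℤ] E.obj X from z) using TensorProduct.induction_on with
        | zero => exact (map_zero _).trans (map_zero _).symm
        | tmul a b =>
          show tensLift O φ Y ((O.obj.map f) a ⊗ₜ[ℤ] E.map f b) = H.map f (tensLift O φ X (a ⊗ₜ[ℤ] b))
          rw [tensLift_tmul, tensLift_tmul]
          exact (congrArg _ (ConcreteCategory.congr_hom (φ.naturality f) b)).trans (H.map_smul f a _).symm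
        | add a b ha hb => exact (map_add _ _ _).trans ((congrArg₂ (· + ·) ha hb).trans (map_add _ _ _).symm) }
    (fun X r m =>
      letI : Module (O.obj.obj X) (H.obj X) :=
        inferInstanceAs (Module ((O.obj ⋙ forget₂ CommRingCat.{u} RingCat.{u}).obj X) (H.obj X))
      (tensLift O φ X).map_smul r m)

lemma tensDesc_unit {E : Cᵒᵖ ⥤ AddCommGrpCat.{u}} {H : PM O} (φ : E ⟶ H.presheaf) :
    tensUnit O E ≫ (PresheafOfModules.toPresheaf _).map (tensDesc O φ) = φ := by
  ext X x
  exact (tensLift_tmul O φ X 1 x).trans (one_smul _ _)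

/-- The sheafified tensor with a monomorphism having torsion-free cokernel is a mono with flat cokernel. -/
lemma tensMap_mono_flat {E E' : Cᵒᵖ ⥤ AddCommGrpCat.{u}} (g : E ⟶ E') [Mono g] (hN : TFPre (cokernel g)) :
    Mono ((sh O).map (tensMap O g)) ∧ ModSite.IsFlat (cokernel ((sh O).map (tensMap O g))) := by
  have hex : ∀ X : Cᵒᵖ, Function.Exact (g.app X).hom.toIntLinearMap ((cokernel.π g).app X).hom.toIntLinearMap ∧
      Function.Surjective ((cokernel.π g).app X).hom.toIntLinearMap ∧
      Function.Injective (g.app X).hom.toIntLinearMap := by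
    intro X
    let S := ShortComplex.mk g (cokernel.π g) (cokernel.condition g)
    have hS : S.ShortExact :=
      { exact := S.exact_of_g_is_cokernel (cokernelIsCokernel g) }
    have h := hS.map_of_exact ((evaluation Cᵒᵖ AddCommGrpCat.{u}).obj X)
    refine ⟨?_, (AddCommGrpCat.epi_iff_surjective _).1 h.epi_g, (AddCommGrpCat.mono_iff_injective _).1 h.mono_f⟩
    intro y
    exact ⟨fun hy => (ShortComplex.ab_exact_iff _).1 h.exact y hy,
      fun ⟨x, hx⟩ => hx ▸ ConcreteCategory.congr_hom ((S.map ((evaluation Cᵒᵖ AddCommGrpCat.{u}).obj X)).zero) x⟩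
  have hflat : ∀ X : Cᵒᵖ, Module.Flat ℤ ((cokernel g).obj X) := fun X =>
    haveI : Module.IsTorsionFree ℤ ((cokernel g).obj X) :=
      .of_smul_eq_zero fun m x h => or_iff_not_imp_left.2 fun hm => hN X m x hm h
    inferInstance
  have hmono : Mono (tensMap O g) := PresheafOfModules.mono_of_injective fun X => by
    haveI := hflat X
    exact LinearMap.lTensor_injective_of_exact_of_flat _ (hex X).2.1 _ (hex X).2.2 (hex X).1 (O.obj.obj X)
  haveI : PreservesFiniteLimits (sh O) :=
    inferInstanceAs (PreservesFiniteLimits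
      (PresheafOfModules.sheafification.{u} (𝟙 (ModSite.ringSh O).obj)))
  refine ⟨inferInstance, ?_⟩
  haveI : PreservesColimitsOfSize.{u, u} (sh O) := (adjn O).leftAdjoint_preservesColimits
  haveI : PreservesFiniteColimits (sh O) := PreservesColimitsOfSize.preservesFiniteColimits _
  haveI : (sh O).PreservesZeroMorphisms := Functor.preservesZeroMorphisms_of_preserves_initial_object
  refine isFlat_of_iso (PreservesCokernel.iso (sh O) (tensMap O g)) (isFlat_sh _ fun X => ?_)
  haveI := hflat X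
  let T := O.obj.obj X
  let π : T ⊗[ℤ] E'.obj X →ₗ[T] T ⊗[ℤ] (cokernel g).obj X := ((cokernel.π g).app X).hom.toIntLinearMap.baseChange T
  have hπ : Function.Surjective π := LinearMap.lTensor_surjective T (hex X).2.1
  have hker : LinearMap.ker π = LinearMap.range ((g.app X).hom.toIntLinearMap.baseChange T) :=
    SetLike.ext fun z => lTensor_exact T (hex X).1 (hex X).2.1 z
  let e₁ := (PreservesCokernel.iso (PresheafOfModules.evaluation (O.obj ⋙ forget₂ CommRingCat.{u} RingCat.{u}) X)
    (tensMap O g)).toLinearEquiv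
  let e₂ := (ModuleCat.cokernelIsoRangeQuotient ((tensMap O g).app X)).toLinearEquiv
  let e₃ : ((T ⊗[ℤ] E'.obj X) ⧸ LinearMap.range ((g.app X).hom.toIntLinearMap.baseChange T)) ≃ₗ[T]
      T ⊗[ℤ] (cokernel g).obj X :=
    (Submodule.quotEquivOfEq _ _ hker.symm).trans (π.quotKerEquivOfSurjective hπ)
  exact Module.Flat.of_linearEquiv (R := T) (M := T ⊗[ℤ] (cokernel g).obj X)
    { (e₁.trans e₂).toAddEquiv.trans e₃.toAddEquiv with
      map_smul' := fun r x =>
        (congrArg e₃ ((e₁.trans e₂).map_smul r x)).trans (e₃.map_smul r ((e₁.trans e₂) x)) }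

end Groth.Agent.SSExist
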