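import Groth.Agent.SSExist.ModGlobal
import Groth.Prelude.Def_ExtSupp

/-!
# Morphisms vanishing over an object; injectivity of sections with support
-/

set_option autoImplicit false
set_option linter.style.haveILetI false

open CategoryTheory CategoryTheory.Limits Opposite MonoidalCategory

namespace Groth.Agent.SSExist

universe u

open Groth.Agent.ModGroth

variable {C : Type u} [SmallCategory C] {J : GrothendieckTopology C} {O : Sheaf J CommRingCat.{u}} (U : C)

/-- A morphism of modules kills all sections over objects mapping to `U`. -/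
def Van {P F : ModSite.Mod O} (φ : P ⟶ F) : Prop :=
  ∀ ⦃V : C⦄ (_ : V ⟶ U) (x : P.val.obj (op V)), φ.val.app (op V) x = 0

lemma restr_map_eq_zero_iff {P F : ModSite.Mod O} (φ : P ⟶ F) :
    (ModSite.restr O U).map φ = 0 ↔ Van U φ := by
  constructor
  · intro h V g x
    exact congrArg (fun ψ : (ModSite.restr O U).obj P ⟶ (ModSite.restr O U).obj F =>
      (ψ.val.app (op (Over.mk g))).hom x) h
  · intro h
    apply (SheafOfModules.toSheaf _).map_injective
    ext Y m
    exact h (unop Y).hom _

lemma comp_unit_eq_zero_iff [ModSite.HasPushOver O U] {P F : ModSite.Mod O} (φ : P ⟶ F) :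
    φ ≫ (ModSite.restrPushOverAdj O U).unit.app F = 0 ↔ Van U φ := by
  let adj := ModSite.restrPushOverAdj O U
  rw [← restr_map_eq_zero_iff]
  have h : (adj.homEquiv P _).symm (φ ≫ adj.unit.app F) = (ModSite.restr O U).map φ := by
    rw [Adjunction.homEquiv_counit, Functor.map_comp, Category.assoc, adj.left_triangle_components,
      Category.comp_id]
  have h0 : (adj.homEquiv P ((ModSite.restr O U).obj F)).symm 0 = 0 := by
    rw [Adjunction.homEquiv_counit, Functor.map_zero, zero_comp]
  rw [← h, ← h0, Equiv.apply_eq_iff_eq]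

lemma counit_comp_eq_zero_iff {P F : ModSite.Mod O} (φ : P ⟶ F) :
    (ModSite.extZeroAdj O U).counit.app P ≫ φ = 0 ↔ Van U φ := by
  let adj := ModSite.extZeroAdj O U
  rw [← restr_map_eq_zero_iff]
  have h : adj.homEquiv _ F (adj.counit.app P ≫ φ) = (ModSite.restr O U).map φ := by
    rw [Adjunction.homEquiv_unit, Functor.map_comp, ← Category.assoc, adj.right_triangle_components,
      Category.id_comp]
  have h0 : adj.homEquiv ((ModSite.restr O U).obj P) F 0 = 0 := by
    rw [Adjunction.homEquiv_unit, Functor.map_zero, comp_zero]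
  rw [← h, ← h0, Equiv.apply_eq_iff_eq]

lemma van_comp {P F G : ModSite.Mod O} {φ : P ⟶ F} (h : Van U φ) (ψ : F ⟶ G) : Van U (φ ≫ ψ) :=
  fun _ g x => (congrArg (ψ.val.app _) (h g x)).trans (map_zero _)

lemma van_precomp {Q P F : ModSite.Mod O} (ψ : Q ⟶ P) {φ : P ⟶ F} (h : Van U φ) : Van U (ψ ≫ φ) :=
  fun _ g x => h g (ψ.val.app _ x)

lemma van_iso_comp {Q P F : ModSite.Mod O} (e : Q ≅ P) (φ : P ⟶ F) : Van U (e.hom ≫ φ) ↔ Van U φ :=
  ⟨fun h => by simpa using van_precomp U e.inv h, van_precomp U e.hom⟩

lemma eq_zero_of_locally (F : ModSite.Mod O) {V : C} {x : F.val.obj (op V)} {S : Sieve V} (hS : S ∈ J V)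
    (h : ∀ ⦃W : C⦄ (g : W ⟶ V), S g → F.val.presheaf.map g.op x = 0) : x = 0 :=
  (((isSheaf_iff_isSheaf_of_type J _).1 ((Presheaf.isSheaf_iff_isSheaf_forget J _ (forget AddCommGrpCat.{u})).1
    F.isSheaf)).isSeparated S hS).ext fun W g hg => (h g hg).trans (map_zero (F.val.presheaf.map g.op).hom).symm

/-- Vanishing on an associated sheaf can be tested on the presheaf. -/
lemma van_of_presheaf {P : PM O} {F : ModSite.Mod O} (φ : (sh O).obj P ⟶ F)
    (h : ∀ ⦃V : C⦄ (_ : V ⟶ U) (x : P.obj (op V)), φ.val.app (op V) ((eta P).app (op V) x) = 0) :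
    Van U φ := by
  intro V g y
  haveI : Presheaf.IsLocallySurjective J (pmap (eta P)) :=
    ((isLocallyBijective_pmap_iff (eta P)).1 inferInstance).2
  obtain ⟨S, hS, hS'⟩ := exists_lift (eta P) (V := op V) y
  refine eq_zero_of_locally F hS fun W k hk => ?_
  obtain ⟨m, hm⟩ := hS' k hk
  exact (PresheafOfModules.naturality_apply φ.val k.op y).symm.trans
    ((congrArg (φ.val.app (op W)) hm).symm.trans (h (k ≫ g) m))

/-! ### Injectivity of sections with support -/

/-- The proposition that no morphism to `U` exists, as a type. -/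
abbrev Off (V : Cᵒᵖ) : Type := PLift (IsEmpty (V.unop ⟶ U))

/-- Being off `U` passes to targets of morphisms. -/
def Off.pull {V W : Cᵒᵖ} (f : V ⟶ W) (h : Off U W) : Off U V := ⟨⟨fun k => h.down.false (f.unop ≫ k)⟩⟩

/-- The abelian presheaf underlying `offPre`. -/
noncomputable def offPsh (X : PM O) : Cᵒᵖ ⥤ AddCommGrpCat.{u} where
  obj V := AddCommGrpCat.of (Off U V → X.obj V)
  map {V W} f := AddCommGrpCat.ofHom (AddMonoidHom.mk'
    (fun a h => X.presheaf.map f (a (h.pull U f)))
    (fun a b => funext fun h => map_add (X.presheaf.map f).hom _ _))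
  map_id V := by
    refine AddCommGrpCat.ext fun a => funext fun h => ?_
    exact ConcreteCategory.congr_hom (X.presheaf.map_id V) _
  map_comp f g := by
    refine AddCommGrpCat.ext fun a => funext fun h => ?_
    exact ConcreteCategory.congr_hom (X.presheaf.map_comp f g) _

noncomputable instance offPshModule (X : PM O) (V : Cᵒᵖ) :
    Module ((O.obj ⋙ forget₂ CommRingCat.{u} RingCat.{u}).obj V) ((offPsh U X).obj V) :=
  inferInstanceAs (Module _ (Off U V → X.obj V))

/-- The presheaf of modules which is zero over `U` and `X` elsewhere. -/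
noncomputable def offPre (X : PM O) : PM O :=
  PresheafOfModules.ofPresheaf (R := O.obj ⋙ forget₂ CommRingCat.{u} RingCat.{u}) (offPsh U X)
    (fun _ _ f r _ => funext fun _ => X.map_smul f r _)

/-- The projection to `offPre`. -/
noncomputable def toOff (X : PM O) : X ⟶ offPre U X :=
  PresheafOfModules.homMk
    { app := fun V => AddCommGrpCat.ofHom (AddMonoidHom.mk' (fun x (_ : Off U V) => x) (fun _ _ => rfl))
      naturality := fun V W f => rfl }
    (fun _ _ _ => rfl)

/-- Functoriality of `offPre`. -/
noncomputable def offMap {X Y : PM O} (f : X ⟶ Y) : offPre U X ⟶ offPre U Y :=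
  PresheafOfModules.homMk
    { app := fun V => AddCommGrpCat.ofHom (AddMonoidHom.mk'
        (fun (a : Off U V → X.obj V) h => f.app V (a h))
        (fun a b => funext fun h => map_add (f.app V).hom _ _))
      naturality := fun V W k => by
        ext a
        funext h
        exact PresheafOfModules.naturality_apply f k _ }
    (fun V r a => funext fun h => (f.app V).hom.map_smul r _)

open Classical in
/-- A morphism vanishing over `U` factors through `offPre`. -/
noncomputable def offDesc {X : PM O} {F : PM O} (φ : X ⟶ F)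
    (hφ : ∀ ⦃V : C⦄ (_ : V ⟶ U) (x : X.obj (op V)), φ.app (op V) x = 0) : offPre U X ⟶ F :=
  PresheafOfModules.homMk
    { app := fun V => AddCommGrpCat.ofHom (AddMonoidHom.mk'
        (fun (a : Off U V → X.obj V) =>
          if h : IsEmpty (V.unop ⟶ U) then φ.app V (a ⟨h⟩) else (0 : F.obj V))
        (fun a b => by
          split_ifs with h
          · exact map_add (φ.app V).hom _ _
          · exact (add_zero _).symm))
      naturality := fun V W k => by
        ext (a : Off U V → X.obj V)
        show (if h : IsEmpty (W.unop ⟶ U) then φ.app W (X.presheaf.map k (a (Off.pull U k ⟨h⟩))) else (0 : F.obj W)) =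
          F.presheaf.map k (if h : IsEmpty (V.unop ⟶ U) then φ.app V (a ⟨h⟩) else (0 : F.obj V))
        by_cases h : IsEmpty (W.unop ⟶ U)
        · rw [dif_pos h, dif_pos ⟨fun l => h.false (k.unop ≫ l)⟩]
          exact PresheafOfModules.naturality_apply φ k _
        · rw [dif_neg h]
          split_ifs with h'
          · obtain ⟨g⟩ := not_isEmpty_iff.1 h
            exact (hφ g (X.presheaf.map k (a ⟨h'⟩))).symm.trans (PresheafOfModules.naturality_apply φ k _)
          · exact (map_zero (F.presheaf.map k).hom).symm }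
    (fun V r a => by
      show (if h : IsEmpty (V.unop ⟶ U) then φ.app V (r • (show Off U V → X.obj V from a) ⟨h⟩) else (0 : F.obj V)) =
        r • (if h : IsEmpty (V.unop ⟶ U) then φ.app V ((show Off U V → X.obj V from a) ⟨h⟩) else (0 : F.obj V))
      split_ifs with h
      · exact (φ.app V).hom.map_smul r _
      · exact (smul_zero r).symm)

lemma toOff_offDesc {X : PM O} {F : PM O} (φ : X ⟶ F)
    (hφ : ∀ ⦃V : C⦄ (_ : V ⟶ U) (x : X.obj (op V)), φ.app (op V) x = 0) :
    toOff U X ≫ offDesc U φ hφ = φ := by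
  classical
  apply PresheafOfModules.hom_ext
  intro V
  ext x
  show (if _ : IsEmpty (V.unop ⟶ U) then φ.app V x else (0 : F.obj V)) = φ.app V x
  split_ifs with h
  · rfl
  · obtain ⟨g⟩ := not_isEmpty_iff.1 h
    exact (hφ g x).symm

/-- Morphisms vanishing over `U` into an injective module extend along monomorphisms, vanishing over `U`. -/
lemma exists_extension_van {I : ModSite.Mod O} [Injective I] {X Y : ModSite.Mod O} (f : X ⟶ Y) [Mono f]
    (φ : X ⟶ I) (hφ : Van U φ) : ∃ ψ : Y ⟶ I, f ≫ ψ = φ ∧ Van U ψ := by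
  haveI : PreservesLimitsOfSize.{u, u} (forgetPM O) := (adjn O).rightAdjoint_preservesLimits
  haveI hm : Mono ((fg O).map f) := (inferInstance : Mono ((forgetPM O).map f))
  haveI : Mono (offMap U ((fg O).map f)) := PresheafOfModules.mono_of_injective fun V a b hab =>
    funext fun h => PresheafOfModules.injective_of_mono ((fg O).map f) V (congrFun hab h)
  haveI : PreservesFiniteLimits (sh O) :=
    inferInstanceAs (PreservesFiniteLimits
      (PresheafOfModules.sheafification.{u} (𝟙 (ModSite.ringSh O).obj)))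
  let d : offPre U ((fg O).obj X) ⟶ (fg O).obj I := offDesc U ((fg O).map φ) hφ
  let χ : (sh O).obj (offPre U ((fg O).obj Y)) ⟶ I :=
    Injective.factorThru (((adjn O).homEquiv _ I).symm d) ((sh O).map (offMap U ((fg O).map f)))
  let d' : offPre U ((fg O).obj Y) ⟶ (fg O).obj I := (adjn O).homEquiv _ I χ
  have hd : offMap U ((fg O).map f) ≫ d' = d := by
    refine ((adjn O).homEquiv_naturality_left _ χ).symm.trans ?_
    exact (congrArg _ (Injective.comp_factorThru _ _)).trans (Equiv.apply_symm_apply _ _)
  refine ⟨⟨toOff U _ ≫ d'⟩, ?_, fun V g y => ?_⟩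
  · apply SheafOfModules.hom_ext
    show (fg O).map f ≫ toOff U _ ≫ d' = (fg O).map φ
    have hn : (fg O).map f ≫ toOff U ((fg O).obj Y) = toOff U ((fg O).obj X) ≫ offMap U ((fg O).map f) := rfl
    exact ((Category.assoc _ _ _).symm.trans (congrArg (· ≫ d') hn)).trans ((Category.assoc _ _ _).trans
      ((congrArg (toOff U ((fg O).obj X) ≫ ·) hd).trans (toOff_offDesc U _ hφ)))
  · show (d'.app (op V)) ((toOff U ((fg O).obj Y)).app (op V) y) = 0
    rw [show (toOff U ((fg O).obj Y)).app (op V) y = 0 from funext fun h => (h.down.false g).elim]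
    exact map_zero _

lemma injective_sectOn [ModSite.HasPushOver O U] (I : ModSite.Mod O) [Injective I] :
    Injective ((ModSite.sectOn O U).obj I) where
  factors {X Y} φ f hf := by
    let ι := kernel.ι ((ModSite.restrPushOverAdj O U).unit.app I)
    have hφ : Van U (φ ≫ ι) := (comp_unit_eq_zero_iff U _).1
      ((Category.assoc _ _ _).trans ((congrArg (φ ≫ ·) (kernel.condition _)).trans comp_zero))
    obtain ⟨ψ, hψ, hv⟩ := exists_extension_van U f (φ ≫ ι) hφ
    refine ⟨kernel.lift _ ψ ((comp_unit_eq_zero_iff U ψ).2 hv), ?_⟩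
    exact (cancel_mono ι).1 ((Category.assoc _ _ _).trans
      ((congrArg (f ≫ ·) (kernel.lift_ι _ _ _)).trans hψ))

end Groth.Agent.SSExist
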